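import Cfsg.Agent.H76.FPFSylow
import Cfsg.Agent.H76.FiveOrbits.Semiregular
import Cfsg.Agent.Cores.Fitting
import Cfsg.Agent.Cores.PCore
import Cfsg.Agent.S0205

/-!
An odd group transitive on the involutions of an elementary abelian 2-group, with stabilisers of
exponent `r` and no mixed `r`-orders, and an automorphism inverting as many elements as there are
involutions: the inverted elements form a normal cyclic regular subgroup.
-/

set_option autoImplicit false
set_option linter.style.haveILetI false
set_option linter.unusedSectionVars false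

namespace Cfsg.Agent.H76.OneMixed

open Subgroup MulAction
open scoped Pointwise

/-- An odd nilpotent group acting fixed-point-freely is cyclic. -/
theorem isCyclic_of_fpf {P M : Type*} [Group P] [Finite P] [CommGroup M] [Finite M] [Nontrivial M]
    [Group.IsNilpotent P] (hodd : Odd (Nat.card P)) {φ : P →* MulAut M}
    (hφ : Cfsg.Agent.Frobenius.IsFPF φ) : IsCyclic P := by
  haveI : IsZGroup P := ⟨fun p hp Q => by
    haveI := Fact.mk hp
    rcases H76.cyclic_or_quaternion_of_fpf (hφ.comp (f := (Q : Subgroup P).subtype)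
      (Q : Subgroup P).subtype_injective) p Q.isPGroup' with h | ⟨h2, n, ⟨e⟩⟩
    · exact h
    · exfalso
      have hd : Nat.card (Q : Subgroup P) ∣ Nat.card P := card_subgroup_dvd_card _
      rw [Nat.card_congr e.toEquiv] at hd
      have h4 : 4 ∣ Nat.card (QuaternionGroup (2 ^ n)) := by
        rw [Nat.card_eq_fintype_card, QuaternionGroup.card]; exact dvd_mul_right 4 _
      exact absurd (even_iff_two_dvd.2 ((show 2 ∣ 4 by norm_num).trans (h4.trans hd)))
        (Nat.not_even_iff_odd.2 hodd)⟩
  infer_instance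

variable {A T : Type*} [Group A] [CommGroup T] [MulDistribMulAction A T]

/-- The action as a homomorphism into `MulAut`. -/
noncomputable def autHom : A →* MulAut T := MulDistribMulAction.toMulAut A T

/-- The structure of a transitive odd group with an inverting automorphism. -/
theorem odd_transitive [Finite A] [Finite T] [Nontrivial T] (h2 : ∀ x : T, x * x = 1)
    (hA : Odd (Nat.card A)) (hfaith : ∀ a : A, (∀ t : T, a • t = t) → a = 1)
    (htr : ∀ s t : T, s ≠ 1 → t ≠ 1 → ∃ a : A, a • s = t) {r : ℕ} (hr : r.Prime) (hr2 : Odd r)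
    (hexp : ∀ a : A, r ∣ orderOf a → a ^ r = 1)
    (hstab : ∀ t : T, t ≠ 1 → ∀ a ∈ stabilizer A t, a ^ r = 1)
    (σ : A ≃* A) (hJ : Nat.card {a : A // σ a = a⁻¹} + 1 = Nat.card T) :
    ∃ P : Subgroup A, P.Normal ∧ IsCyclic P ∧ Nat.card P + 1 = Nat.card T ∧
      (∀ a, a ∈ P ↔ σ a = a⁻¹) ∧ (∀ a ∈ P, a ≠ 1 → ∀ t : T, a • t = t → t = 1) ∧
      (∀ t : T, t ≠ 1 → Nat.card A = Nat.card P * Nat.card (stabilizer A t)) ∧
      (P = ⊤ ∨ (¬ r ∣ Nat.card P ∧ ∀ t : T, t ≠ 1 → Nat.card (stabilizer A t) = r)) ∧
      (r ∣ Nat.card P → Nat.card P = r ∧ P = ⊤) := by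
  classical
  haveI := Fact.mk hr
  obtain ⟨t₀, ht₀⟩ := exists_ne (1 : T)
  have hne : ∀ (a : A) {t : T}, t ≠ 1 → a • t ≠ 1 := fun a t ht h =>
    ht (MulAction.injective a (h.trans (smul_one a).symm))
  -- the orbit of a non-trivial point
  have horb : ∀ t : T, t ≠ 1 → orbit A t = {x : T | x ≠ 1} := fun t ht => Set.ext fun x =>
    ⟨by rintro ⟨a, rfl⟩; exact hne a ht, fun hx => htr t x ht hx⟩
  have hcardT : Nat.card {x : T // x ≠ 1} + 1 = Nat.card T := by
    haveI := Fintype.ofFinite T
    rw [Nat.card_eq_fintype_card, Nat.card_eq_fintype_card, Fintype.card_subtype_compl,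
      Fintype.card_subtype_eq]
    have := Fintype.card_pos (α := T)
    omega
  have hcard : ∀ t : T, t ≠ 1 →
      Nat.card A + Nat.card (stabilizer A t) = Nat.card T * Nat.card (stabilizer A t) := by
    intro t ht
    rw [← Nat.card_congr (orbitProdStabilizerEquivGroup A t), Nat.card_prod, ← hcardT,
      horb t ht]
    exact (Nat.succ_mul _ _).symm
  have hT1 : 0 < Nat.card {x : T // x ≠ 1} :=
    Nat.card_pos_iff.2 ⟨⟨⟨t₀, ht₀⟩⟩, inferInstance⟩
  have hconj : ∀ (S : Subgroup A) [S.Normal] (s t : T), s ≠ 1 → t ≠ 1 →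
      Nat.card (stabilizer S s) = Nat.card (stabilizer S t) := by
    intro S hS s t hs ht
    obtain ⟨a, rfl⟩ := htr s t hs ht
    refine Nat.card_congr
      { toFun := fun x => ⟨⟨a * x * a⁻¹, hS.conj_mem _ x.1.2 a⟩, ?_⟩
        invFun := fun x => ⟨⟨a⁻¹ * x * a, by simpa using hS.conj_mem _ x.1.2 a⁻¹⟩, ?_⟩
        left_inv := fun x => by ext; simp [mul_assoc]
        right_inv := fun x => by ext; simp [mul_assoc] }
    · have := x.2
      rw [mem_stabilizer_iff] at this ⊢
      show (a * (x : A) * a⁻¹) • a • s = a • s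
      rw [smul_smul, inv_mul_cancel_right, mul_smul]
      exact congrArg (a • ·) this
    · have := x.2
      rw [mem_stabilizer_iff] at this ⊢
      show (a⁻¹ * (x : A) * a) • s = s
      rw [mul_smul, mul_smul]
      exact (congrArg (a⁻¹ • ·) this).trans (inv_smul_smul a s)
  by_cases hsemi : stabilizer A t₀ = ⊥
  · -- regular action: every element is inverted
    have hA1 : Nat.card A + 1 = Nat.card T := by
      have := hcard t₀ ht₀
      rw [hsemi, card_bot, mul_one] at this
      exact this
    have hall : ∀ a : A, σ a = a⁻¹ := by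
      intro a
      have h1 : {a : A | σ a = a⁻¹} = Set.univ := by
        refine Set.eq_of_subset_of_ncard_le (Set.subset_univ _) ?_ (Set.toFinite _)
        rw [Set.ncard_univ, ← Nat.card_coe_set_eq]
        show Nat.card A ≤ Nat.card {a : A // σ a = a⁻¹}
        omega
      exact (Set.ext_iff.1 h1 a).2 trivial
    haveI : IsMulCommutative A := ⟨⟨fun a b => by
      have h := hall (a * b)
      rw [map_mul, hall, hall, ← mul_inv_rev] at h
      exact (inv_injective h).symm⟩⟩
    have hfpf : ∀ a : A, a ≠ 1 → ∀ t : T, a • t = t → t = 1 := by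
      intro a ha t hat
      by_contra ht
      obtain ⟨b, rfl⟩ := htr t₀ t ht₀ ht
      refine ha (Subgroup.mem_bot.1 (hsemi ▸ ?_))
      rw [mem_stabilizer_iff]
      refine MulAction.injective b ?_
      show b • a • t₀ = b • t₀
      rw [smul_smul, (IsMulCommutative.is_comm.comm b a), ← smul_smul, hat]
    haveI : Group.IsNilpotent A := by
      letI : CommGroup A :=
        { (inferInstance : Group A) with mul_comm := IsMulCommutative.is_comm.comm }
      infer_instance
    haveI hcyc : IsCyclic A := isCyclic_of_fpf hA (φ := autHom) fun a ha t ht => hfpf a ha t ht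
    refine ⟨⊤, inferInstance, inferInstance, by rw [card_top]; exact hA1,
      fun a => ⟨fun _ => hall a, fun _ => trivial⟩, fun a _ => hfpf a, fun t ht => ?_,
      Or.inl rfl, fun hd => ⟨?_, rfl⟩⟩
    · have hb : stabilizer A t = ⊥ :=
        (eq_bot_iff_forall _).2 fun a ha => by_contra fun h => ht (hfpf a h t ha)
      rw [hb, card_top, card_bot, mul_one]
    · obtain ⟨g, hg⟩ := hcyc.exists_ofOrder_eq_natCard
      rw [card_top] at hd ⊢
      refine Nat.dvd_antisymm ?_ hd
      rw [← hg] at hd ⊢
      exact orderOf_dvd_of_pow_eq_one (hexp g hd)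
  -- the `r`-core is trivial
  have hcoreBot : Cfsg.pCore r A = ⊥ := by
    by_contra hO
    set O := Cfsg.pCore r A with hOdef
    haveI : O.Normal := Cfsg.pCore_normal r A
    haveI : Nontrivial O := O.nontrivial_iff_ne_bot.2 hO
    have hOexp : ∀ a : O, a ^ r = 1 := by
      intro a
      rcases eq_or_ne (a : A) 1 with h | h
      · exact Subtype.ext (by simp [h])
      obtain ⟨k, hk⟩ := IsPGroup.iff_orderOf.1 (Cores.pCore_isPGroup (p := r) (G := A)) a
      refine Subtype.ext ?_
      push_cast
      refine hexp _ ?_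
      rw [orderOf_coe, hk]
      refine dvd_pow_self r fun h0 => h ?_
      rw [h0, pow_zero, orderOf_eq_one_iff] at hk
      rw [hk]; rfl
    obtain ⟨hOcard, hOfpf⟩ := FiveOrbits.semiregular_of_constant (A := O) h2
      (fun a ha => Subtype.ext (hfaith a ha)) hr hr2 hOexp (fun s t hs ht => hconj O s t hs ht)
    obtain ⟨z, hz⟩ := exists_ne (1 : O)
    have hzo : orderOf (z : A) = r := by
      rw [orderOf_coe]; exact orderOf_eq_prime (hOexp z) hz
    -- the centraliser of `O` has exponent `r`
    set C := centralizer (O : Set A) with hC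
    haveI : C.Normal := Subgroup.normal_centralizer
    have hCexp : ∀ a ∈ C, a ^ r = 1 := by
      intro a ha
      have hc : Commute (z : A) a := mem_centralizer_iff.1 ha z z.2
      by_cases hd : r ∣ orderOf a
      · exact hexp a hd
      have hco : (orderOf (z : A)).Coprime (orderOf a) := by
        rw [hzo]; exact (Nat.Prime.coprime_iff_not_dvd hr).2 hd
      have ho := hc.orderOf_mul_eq_mul_orderOf_of_coprime hco
      have h1 := hexp _ (by rw [ho, hzo]; exact dvd_mul_right r _)
      rw [hc.mul_pow, ← hzo, pow_orderOf_eq_one, one_mul, hzo] at h1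
      exact h1
    have hCO : C ≤ O := Cores.le_pCore fun a => ⟨1, Subtype.ext (by
      rw [pow_one]; push_cast; exact hCexp a a.2)⟩
    -- the stabiliser acts faithfully on `O`
    haveI : IsCyclic O := isCyclic_of_prime_card hOcard
    obtain ⟨a, ha, ha1⟩ : ∃ a ∈ stabilizer A t₀, a ≠ 1 := by
      by_contra! h; exact hsemi ((eq_bot_iff_forall _).2 h)
    have hanc : a ∉ C := fun h =>
      ht₀ (hOfpf ⟨a, hCO h⟩ (fun e => ha1 (congrArg Subtype.val e)) t₀ ha)
    have hφ : (MulAut.conjNormal a : MulAut O) ≠ 1 := fun h => hanc (mem_centralizer_iff.2 fun y hy => by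
      have := congrArg Subtype.val (DFunLike.congr_fun h ⟨y, hy⟩)
      simp only [MulAut.conjNormal_apply, MulAut.one_apply] at this
      exact (mul_inv_eq_iff_eq_mul.1 this).symm)
    have hφr : (MulAut.conjNormal a : MulAut O) ^ r = 1 := by
      rw [← map_pow, hstab t₀ ht₀ a ha, map_one]
    have h3 := orderOf_dvd_natCard (MulAut.conjNormal a : MulAut O)
    rw [orderOf_eq_prime hφr hφ, IsCyclic.card_mulAut, hOcard, Nat.totient_prime hr] at h3
    have := Nat.le_of_dvd (by have := hr.two_le; omega) h3
    have := hr.two_le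
    omega
  haveI : Group.IsSolvable A := S0205.result hA
  set F := Cfsg.fittingSubgroup A with hF
  haveI hFnil : Group.IsNilpotent F := Cores.fittingSubgroup_isNilpotent
  haveI hFchar : F.Characteristic := Cores.fittingSubgroup_characteristic
  have hFr : ¬ r ∣ Nat.card F := by
    intro hd
    let S : Sylow r F := default
    haveI hSn : (S : Subgroup F).Normal := inferInstance
    haveI : (S : Subgroup F).Characteristic := S.characteristic_of_normal hSn
    haveI : ((S : Subgroup F).map F.subtype).Normal := ConjAct.normal_of_characteristic_of_normal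
    have h1 := Cores.le_pCore (S.isPGroup'.map F.subtype)
    rw [hcoreBot, le_bot_iff, map_eq_bot_iff_of_injective _ F.subtype_injective] at h1
    exact S.ne_bot_of_dvd_card hd h1
  have hFfpf : ∀ a ∈ F, a ≠ 1 → ∀ t : T, a • t = t → t = 1 := by
    intro a ha ha1 t hat
    by_contra ht
    have h1 := orderOf_dvd_of_pow_eq_one (hstab t ht a hat)
    rcases (Nat.dvd_prime hr).1 h1 with e | e
    · exact ha1 (orderOf_eq_one_iff.1 e)
    · exact hFr (e ▸ orderOf_dvd_natCard F ha)
  haveI hFcyc : IsCyclic F := isCyclic_of_fpf (hA.of_dvd_nat (card_subgroup_dvd_card F))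
    (φ := autHom.comp F.subtype) fun a ha t ht =>
      hFfpf a a.2 (fun e => ha (Subtype.ext e)) t ht
  -- inverted elements lie in `F`
  have hinF : ∀ h : A, σ h = h⁻¹ → h ∈ F := by
    intro h hh
    have hσF : ∀ x, x ∈ F → σ x ∈ F := fun x hx => by
      rw [← (characteristic_iff_map_eq.1 hFchar σ)]
      exact ⟨x, hx, rfl⟩
    obtain ⟨m, hm⟩ := MonoidHom.map_cyclic ((MulAut.conjNormal h : MulAut F).toMonoidHom)
    have hm' : ∀ x ∈ F, h * x * h⁻¹ = x ^ m := fun x hx => by
      have := congrArg Subtype.val (hm ⟨x, hx⟩)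
      simpa using this
    have hsq : h * h ∈ centralizer (F : Set A) := by
      refine mem_centralizer_iff.2 fun y hy => ?_
      obtain ⟨x, rfl⟩ := σ.surjective y
      have hxF : x ∈ F := by
        rw [← (characteristic_iff_comap_eq.1 hFchar σ)]
        exact hy
      have h1 := congrArg σ (hm' x hxF)
      rw [map_mul, map_mul, map_inv, hh, inv_inv, map_zpow, ← hm' (σ x) hy] at h1
      have h2 := congrArg (fun w => h * w * h⁻¹) h1
      simp only [mul_assoc, mul_inv_cancel_left, mul_inv_cancel, mul_one] at h2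
      calc σ x * (h * h) = h * (h * (σ x * (h⁻¹ * h⁻¹))) * (h * h) := by rw [← h2]
        _ = h * h * σ x := by group
    have hsqF : h * h ∈ F := Cores.centralizer_fittingSubgroup_le hsq
    obtain ⟨k, hk⟩ := hA.of_dvd_nat (orderOf_dvd_natCard h)
    have : h = (h * h) ^ (k + 1) := by
      rw [← pow_two, ← pow_mul, show 2 * (k + 1) = (2 * k + 1) + 1 by ring, pow_succ, ← hk,
        pow_orderOf_eq_one, one_mul]
    rw [this]; exact pow_mem hsqF _
  have hFle : Nat.card F ≤ Nat.card {x : T // x ≠ 1} := by
    refine Nat.card_le_card_of_injective (fun a => ⟨(a : A) • t₀, hne _ ht₀⟩) fun a b h => ?_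
    have h' : (a : A) • t₀ = (b : A) • t₀ := congrArg Subtype.val h
    by_contra hab
    refine ht₀ (hFfpf _ (mul_mem (inv_mem b.2) a.2) (fun e => hab (Subtype.ext ?_)) t₀ ?_)
    · exact (inv_mul_eq_one.1 e).symm
    · rw [mul_smul, h', inv_smul_smul]
  have hJF : {a : A | σ a = a⁻¹} = (F : Set A) := by
    refine Set.eq_of_subset_of_ncard_le hinF ?_ (Set.toFinite _)
    rw [← Nat.card_coe_set_eq, ← Nat.card_coe_set_eq]
    show Nat.card F ≤ Nat.card {a : A // σ a = a⁻¹}
    omega
  have hFcard : Nat.card F + 1 = Nat.card T := by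
    rw [← hJ]
    exact congrArg (· + 1) (Nat.card_congr (Equiv.setCongr hJF.symm))
  have hsum : ∀ t : T, t ≠ 1 → Nat.card A = Nat.card F * Nat.card (stabilizer A t) := by
    intro t ht
    have h := hcard t ht
    rw [← hFcard, add_mul, one_mul] at h
    omega
  have hFn : F.Normal := inferInstance
  have hR : ∀ t : T, t ≠ 1 → Nat.card (stabilizer A t) = r := by
    suffices h : Nat.card (stabilizer A t₀) = r by
      intro t ht
      have h1 := hsum t ht
      rw [hsum t₀ ht₀] at h1
      rw [← Nat.eq_of_mul_eq_mul_left Nat.card_pos h1, h]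
    set R := stabilizer A t₀ with hRdef
    haveI : Nontrivial R := R.nontrivial_iff_ne_bot.2 hsemi
    have hRp : IsPGroup r R := fun a => ⟨1, Subtype.ext (by
      rw [pow_one]; push_cast; exact hstab t₀ ht₀ a a.2)⟩
    haveI : Group.IsNilpotent R := hRp.isNilpotent
    haveI : Nontrivial F := by
      rw [← Finite.one_lt_card_iff_nontrivial]
      by_contra hle
      have h1 : Nat.card F = 1 := by have := Nat.card_pos (α := F); omega
      have h3 := hFcard
      rw [h1] at h3
      obtain ⟨a, ha, ha1⟩ : ∃ a ∈ R, a ≠ 1 := by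
        by_contra! h; exact hsemi ((eq_bot_iff_forall _).2 h)
      refine ha1 (hfaith a fun t => ?_)
      rcases eq_or_ne t 1 with rfl | ht
      · exact smul_one a
      obtain ⟨u, huniq⟩ : ∃ u : T, ∀ x : T, x ≠ 1 → x = u := by
        obtain ⟨u, -, hu⟩ := (Nat.card_eq_two_iff' (1 : T)).1 h3.symm
        exact ⟨u, fun x hx => hu x hx⟩
      have hat : a • t₀ = t₀ := ha
      rwa [huniq t ht, ← huniq t₀ ht₀]
    letI : CommGroup F := { (inferInstance : Group F) with mul_comm := IsCyclic.commGroup.mul_comm }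
    haveI hc : IsCyclic R := by
      refine isCyclic_of_fpf (hA.of_dvd_nat (card_subgroup_dvd_card R))
        (φ := ((MulAut.conjNormal : A →* MulAut F).comp R.subtype)) fun a ha x hx => ?_
      by_contra hx1
      have hcom : Commute (a : A) x := by
        have := congrArg Subtype.val hx
        simp only [MonoidHom.comp_apply, Subgroup.coe_subtype, MulAut.conjNormal_apply] at this
        exact mul_inv_eq_iff_eq_mul.1 this
      have hao : orderOf (a : A) = r :=
        orderOf_eq_prime (hstab t₀ ht₀ a a.2) (fun e => ha (Subtype.ext e))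
      have hco : (orderOf (a : A)).Coprime (orderOf (x : A)) := by
        rw [hao]
        exact (Nat.Prime.coprime_iff_not_dvd hr).2 fun h => hFr (h.trans (orderOf_dvd_natCard F x.2))
      have ho := hcom.orderOf_mul_eq_mul_orderOf_of_coprime hco
      have h1 := hexp _ (by rw [ho, hao]; exact dvd_mul_right r _)
      rw [hcom.mul_pow, ← hao, pow_orderOf_eq_one, one_mul, hao] at h1
      have h2 := orderOf_dvd_of_pow_eq_one h1
      rcases (Nat.dvd_prime hr).1 h2 with e | e
      · exact hx1 (Subtype.ext (orderOf_eq_one_iff.1 e))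
      · exact hFr (e ▸ orderOf_dvd_natCard F x.2)
    obtain ⟨g, hg⟩ := hc.exists_ofOrder_eq_natCard
    rw [← hg]
    refine orderOf_eq_prime (Subtype.ext (by push_cast; exact hstab t₀ ht₀ g g.2)) fun e => ?_
    rw [e, orderOf_one] at hg
    exact (Finite.one_lt_card (α := R)).ne hg
  exact ⟨F, hFn, hFcyc, hFcard, fun a => (Set.ext_iff.1 hJF a).symm, hFfpf, hsum,
    Or.inr ⟨hFr, hR⟩, fun hd => absurd hd hFr⟩

end Cfsg.Agent.H76.OneMixed
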