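import Cfsg.Agent.H76.FiveOrbits.CaseTwoStab
import Cfsg.Agent.Coprime.Generation
import Cfsg.Agent.H40.BalanceConstrained

/-!
Groups in which the only even element orders are `2` and `2r` and `r` divides no other order than
`r` and `2r`: elementary consequences.
-/

set_option autoImplicit false
set_option linter.style.haveILetI false
set_option linter.unusedSectionVars false

namespace Cfsg.Agent.H76.OneMixed

open Subgroup
open scoped Pointwise

variable {G : Type*} [Group G]

/-- The only even element orders are `2` and `2r`, and `r` divides only the orders `r` and `2r`. -/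
structure Hyp (G : Type*) [Group G] where
  /-- the odd prime occurring in a mixed order -/
  r : ℕ
  hr : r.Prime
  hr2 : r ≠ 2
  heven : ∀ g : G, 2 ∣ orderOf g → orderOf g = 2 ∨ orderOf g = 2 * r
  hrord : ∀ g : G, r ∣ orderOf g → orderOf g = r ∨ orderOf g = 2 * r
  hna : ¬ IsMulCommutative G

namespace Hyp

variable (H : Hyp G)

include H

theorem odd_r : Odd H.r := H.hr.odd_of_ne_two H.hr2

theorem not_two_mul_odd {n : ℕ} (h : n = 2 * H.r) (hn : Odd n) : False := by
  subst h
  exact (Nat.not_odd_iff_even.2 (even_two_mul _)) hn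

theorem sq_eq_one {x : G} (hx : ∃ k : ℕ, orderOf x = 2 ^ k) : x * x = 1 := by
  obtain ⟨k, hk⟩ := hx
  rw [← pow_two, ← orderOf_dvd_iff_pow_eq_one, hk]
  rcases k with _ | k
  · exact one_dvd _
  rcases H.heven x (hk ▸ dvd_pow_self 2 k.succ_ne_zero) with h | h
  · rw [← hk, h]
  · exfalso
    rw [h] at hk
    exact H.hr2 ((Nat.prime_dvd_prime_iff_eq H.hr Nat.prime_two).1
      (H.hr.dvd_of_dvd_pow (hk ▸ dvd_mul_left H.r 2)))

variable [Finite G]

theorem sq_of_isPGroup {S : Subgroup G} (hS : IsPGroup 2 S) {x : G} (hx : x ∈ S) : x * x = 1 := by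
  haveI : Fact (Nat.Prime 2) := ⟨Nat.prime_two⟩
  obtain ⟨k, hk⟩ := IsPGroup.iff_orderOf.1 hS ⟨x, hx⟩
  exact H.sq_eq_one ⟨k, by rwa [orderOf_mk] at hk⟩

theorem comm_of_isPGroup {S : Subgroup G} (hS : IsPGroup 2 S) {x y : G} (hx : x ∈ S)
    (hy : y ∈ S) : Commute x y := by
  have hxy := H.sq_of_isPGroup hS (mul_mem hx hy)
  have hi : ∀ z ∈ S, z⁻¹ = z := fun z hz =>
    inv_eq_of_mul_eq_one_right (H.sq_of_isPGroup hS hz)
  show x * y = y * x
  conv_rhs => rw [← hi y hy, ← hi x hx, ← mul_inv_rev]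
  exact (inv_eq_of_mul_eq_one_right hxy).symm

/-- An odd element commuting with an involution has order `1` or `r`. -/
theorem order_of_commute_involution {t y : G} (ht : orderOf t = 2) (hy : Odd (orderOf y))
    (hy1 : y ≠ 1) (hc : Commute t y) : orderOf y = H.r := by
  have hco : (orderOf t).Coprime (orderOf y) := by
    rw [ht]; exact Nat.coprime_two_left.2 hy
  have h := hc.orderOf_mul_eq_mul_orderOf_of_coprime hco
  rw [ht] at h
  rcases H.heven (t * y) (h ▸ dvd_mul_right 2 _) with e | e <;> rw [h] at e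
  · exact absurd (orderOf_eq_one_iff.1 (by omega)) hy1
  · omega

/-- An element whose order is a power of `r` has order dividing `r`. -/
theorem pow_r_eq_one {y : G} (hy : ∃ k : ℕ, orderOf y = H.r ^ k) : y ^ H.r = 1 := by
  obtain ⟨k, hk⟩ := hy
  rw [← orderOf_dvd_iff_pow_eq_one]
  rcases k with _ | k
  · rw [hk, pow_zero]; exact one_dvd _
  rcases H.hrord y (hk ▸ dvd_pow_self _ k.succ_ne_zero) with h | h
  · rw [h]
  · exact absurd (hk ▸ H.odd_r.pow : Odd (orderOf y)) fun ho => H.not_two_mul_odd h ho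

/-- An odd element commuting with an element of order `r` has order dividing `r`. -/
theorem pow_of_commute_r {x y : G} (hx : orderOf x = H.r) (hy : Odd (orderOf y))
    (hc : Commute x y) : y ^ H.r = 1 := by
  haveI := Fact.mk H.hr
  refine H.pow_r_eq_one ⟨_, Nat.eq_prime_pow_of_unique_prime_dvd (orderOf_pos y).ne' fun {l} hl hld => ?_⟩
  by_contra hne
  set z := y ^ (orderOf y / l) with hz
  have hzo : orderOf z = l := orderOf_pow_orderOf_div (orderOf_pos y).ne' hld
  have hcz : Commute x z := hc.pow_right _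
  have hco : (orderOf x).Coprime (orderOf z) := by
    rw [hx, hzo]; exact (Nat.coprime_primes H.hr hl).2 (Ne.symm hne)
  have h := hcz.orderOf_mul_eq_mul_orderOf_of_coprime hco
  rw [hx, hzo] at h
  rcases H.hrord (x * z) (h ▸ dvd_mul_right _ _) with e | e <;> rw [h] at e
  · exact hl.ne_one (Nat.eq_of_mul_eq_mul_left H.hr.pos (by rw [e, mul_one]))
  · have hl2 : l = 2 := Nat.eq_of_mul_eq_mul_left H.hr.pos (by rw [e, mul_comm])
    subst hl2
    exact (Nat.not_even_iff_odd.2 hy) (even_iff_two_dvd.2 hld)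

/-- The centraliser of an involution or of an element of order `r` is a `{2,r}`-group. -/
theorem prime_of_dvd_centralizer {x : G} (hx : orderOf x = 2 ∨ orderOf x = H.r) {d : ℕ}
    (hd : d.Prime) (hdvd : d ∣ Nat.card (centralizer ({x} : Set G))) : d = 2 ∨ d = H.r := by
  by_contra! hne
  haveI := Fact.mk hd
  obtain ⟨⟨y, hy⟩, hyo⟩ := exists_prime_orderOf_dvd_card' d hdvd
  rw [orderOf_mk] at hyo
  have hc : Commute x y := (mem_centralizer_singleton_iff.1 hy : Commute y x).symm
  have hyodd : Odd (orderOf y) := hyo ▸ hd.odd_of_ne_two hne.1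
  have hy1 : y ≠ 1 := fun h => hd.ne_one (by rw [← hyo, h, orderOf_one])
  rcases hx with hx | hx
  · exact hne.2 (hyo ▸ H.order_of_commute_involution hx hyodd hy1 hc)
  · have h := orderOf_dvd_of_pow_eq_one (H.pow_of_commute_r hx hyodd hc)
    rw [hyo] at h
    exact hne.2 ((Nat.prime_dvd_prime_iff_eq hd H.hr).1 h)

theorem solvable_centralizer {x : G} (hx : orderOf x = 2 ∨ orderOf x = H.r) :
    Group.IsSolvable (centralizer ({x} : Set G)) := by
  obtain ⟨a, b, h⟩ := FiveOrbits.eq_prime_pow_mul (q := H.r)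
    (Nat.card_pos (α := centralizer ({x} : Set G))).ne' Nat.prime_two
    fun d hd hdvd => H.prime_of_dvd_centralizer hx hd hdvd
  exact S0144.result 2 H.r a b Nat.prime_two H.hr h

/-- An odd subgroup of the centraliser of an involution or of an `r`-element is an `r`-group. -/
theorem isPGroup_of_le_centralizer {x : G} (hx : orderOf x = 2 ∨ orderOf x = H.r) {O : Subgroup G}
    (hO : O ≤ centralizer ({x} : Set G)) (hodd : Odd (Nat.card O)) : IsPGroup H.r O := by
  haveI := Fact.mk H.hr
  refine IsPGroup.of_card (Nat.eq_prime_pow_of_unique_prime_dvd Nat.card_pos.ne' fun {d} hd hdvd => ?_)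
  rcases H.prime_of_dvd_centralizer hx hd (hdvd.trans (card_dvd_of_le hO)) with h | h
  · subst h
    exact absurd (even_iff_two_dvd.2 hdvd) (Nat.not_even_iff_odd.2 hodd)
  · exact h

theorem pow_r_of_mem {O : Subgroup G} (hO : IsPGroup H.r O) {y : G} (hy : y ∈ O) :
    y ^ H.r = 1 := by
  haveI := Fact.mk H.hr
  obtain ⟨k, hk⟩ := IsPGroup.iff_orderOf.1 hO ⟨y, hy⟩
  exact H.pow_r_eq_one ⟨k, by rwa [orderOf_mk] at hk⟩

theorem orderOf_of_mem {O : Subgroup G} (hO : IsPGroup H.r O) {y : G} (hy : y ∈ O) (hy1 : y ≠ 1) :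
    orderOf y = H.r := by
  haveI := Fact.mk H.hr
  exact orderOf_eq_prime (H.pow_r_of_mem hO hy) hy1

/-- The odd core of the centraliser of `x`, in `G`. -/
abbrev core (_H : Hyp G) (x : G) : Subgroup G := Cfsg.centralizerPPrimeCore 2 x

theorem core_le (x : G) : H.core x ≤ centralizer ({x} : Set G) := map_subtype_le _

theorem core_odd (x : G) : Odd (Nat.card (H.core x)) := by
  haveI : Fact (Nat.Prime 2) := ⟨Nat.prime_two⟩
  rw [core, Cfsg.centralizerPPrimeCore, Subgroup.card_map_of_injective (Subgroup.subtype_injective _)]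
  exact Nat.coprime_two_right.1 Cores.coprime_card_pPrimeCore

theorem core_conj {x c d : G} (hc : c ∈ centralizer ({x} : Set G)) (hd : d ∈ H.core x) :
    c * d * c⁻¹ ∈ H.core x := by
  obtain ⟨d', hd', rfl⟩ := hd
  exact ⟨⟨c, hc⟩ * d' * ⟨c, hc⟩⁻¹, (Cfsg.pPrimeCore_normal 2 _).conj_mem d' hd' _, rfl⟩

theorem core_isPGroup {x : G} (hx : orderOf x = 2 ∨ orderOf x = H.r) : IsPGroup H.r (H.core x) :=
  H.isPGroup_of_le_centralizer hx (H.core_le x) (H.core_odd x)

/-- In a solvable centraliser, `C = O(C) N_C(S)` for a Sylow 2-subgroup `S`. -/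
theorem exists_factor {x g : G} (hx : orderOf x = 2 ∨ orderOf x = H.r) {S : Subgroup G}
    (hSC : S ≤ centralizer ({x} : Set G)) (hS : IsPGroup 2 S)
    (hmax : ∀ Q : Subgroup G, IsPGroup 2 Q → Q ≤ centralizer ({x} : Set G) → S ≤ Q → Q = S)
    (hg : g ∈ centralizer ({x} : Set G)) :
    ∃ o ∈ H.core x, ∃ n ∈ centralizer ({x} : Set G), n ∈ normalizer (S : Set G) ∧ g = o * n := by
  haveI : Fact (Nat.Prime 2) := ⟨Nat.prime_two⟩
  set C := centralizer ({x} : Set G) with hC
  haveI := H.solvable_centralizer hx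
  let P : Sylow 2 C :=
    { toSubgroup := S.subgroupOf C
      isPGroup' := hS.comap_subtype
      is_maximal' := fun {Q} hQ hle => by
        have h1 := hmax (Q.map C.subtype) (hQ.map _) (map_subtype_le _) (by
          rw [← inf_of_le_left hSC, ← subgroupOf_map_subtype S C]; exact map_mono hle)
        rw [← h1, subgroupOf, comap_map_eq_self_of_injective C.subtype_injective] }
  have hab : IsMulCommutative ↥(P : Subgroup C) :=
    ⟨⟨fun a b => Subtype.ext (Subtype.ext (H.comm_of_isPGroup hS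
      (mem_subgroupOf.1 a.2) (mem_subgroupOf.1 b.2)).eq)⟩⟩
  set O := Cfsg.pPrimeCore 2 C with hOdef
  haveI hOn : O.Normal := Cfsg.pPrimeCore_normal 2 C
  set K : Subgroup C := O ⊔ (P : Subgroup C) with hK
  let g' : C := ⟨g, hg⟩
  have hP' : ((g' • P : Sylow 2 C) : Subgroup C) ≤ K := by
    intro w hw
    have hw' : IsPGroup 2 (zpowers w) := (g' • P).isPGroup'.to_le (zpowers_le.2 hw)
    obtain ⟨τ, hτ, h⟩ := FiveOrbits.sylow_two_normal_mod_core P hab hw'
    have := mul_mem (mem_sup_left (T := (P : Subgroup C)) h) (mem_sup_right (S := O) hτ)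
    rwa [inv_mul_cancel_right] at this
  have hPK : (P : Subgroup C) ≤ K := le_sup_right
  obtain ⟨⟨k, hkK⟩, hk⟩ := MulAction.exists_smul_eq K (P.subtype hPK) ((g' • P).subtype hP')
  rw [Sylow.smul_subtype (hP := hPK)] at hk
  have hk' : k • P = g' • P := Sylow.subtype_injective hk
  have hn : k⁻¹ * g' ∈ normalizer ((P : Subgroup C) : Set C) :=
    Sylow.smul_eq_iff_mem_normalizer.1 (by rw [mul_smul, inv_smul_eq_iff, hk'])
  rw [hK, ← SetLike.mem_coe, coe_mul_of_right_le_normalizer_left _ _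
    ((normalizer_eq_top (H := O)).symm ▸ le_top)] at hkK
  obtain ⟨o, ho, s, hs, rfl⟩ := hkK
  have hsn : (s : C) * ((o * s)⁻¹ * g') ∈ normalizer ((P : Subgroup C) : Set C) :=
    mul_mem (le_normalizer hs) hn
  refine ⟨(o : G), ⟨o, ho, rfl⟩, ((s * ((o * s)⁻¹ * g') : C) : G), (s * ((o * s)⁻¹ * g')).2, ?_, ?_⟩
  · refine mem_normalizer_iff.2 fun z => ?_
    constructor
    · intro hz
      have := (mem_normalizer_iff.1 hsn ⟨z, hSC hz⟩).1 (mem_subgroupOf.2 hz)
      exact mem_subgroupOf.1 this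
    · intro hz
      have hzC : z ∈ C := by
        have h1 := mul_mem (mul_mem (inv_mem (s * ((o * s)⁻¹ * g')).2) (hSC hz))
          (s * ((o * s)⁻¹ * g')).2
        simpa [mul_assoc] using h1
      exact mem_subgroupOf.1 ((mem_normalizer_iff.1 hsn ⟨z, hzC⟩).2 (mem_subgroupOf.2 hz))
  · show g = _
    push_cast
    simp [mul_assoc, g']

theorem two_dvd_card [IsSimpleGroup G] : 2 ∣ Nat.card G := by
  by_contra h
  haveI := S0205.result (G := G) (Nat.odd_iff.2 (Nat.two_dvd_ne_zero.1 h))
  exact H.hna ⟨⟨fun a b => IsSimpleGroup.comm_iff_isSolvable.mpr inferInstance a b⟩⟩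

theorem centralizer_sylow_le_of_comm (T : Sylow 2 G) :
    (T : Subgroup G) ≤ centralizer ((T : Subgroup G) : Set G) :=
  fun _ hx => mem_centralizer_iff.2 fun _ hy => (H.comm_of_isPGroup T.isPGroup' hy hx).eq

theorem four_le_sylow [IsSimpleGroup G] (T : Sylow 2 G) : 4 ≤ Nat.card ↥(T : Subgroup G) := by
  haveI : Fact (Nat.Prime 2) := ⟨Nat.prime_two⟩
  obtain ⟨k, hk⟩ := IsPGroup.iff_card.1 T.isPGroup'
  have hne : (T : Subgroup G) ≠ ⊥ := T.ne_bot_of_dvd_card H.two_dvd_card
  rcases lt_or_ge k 2 with hk2 | hk2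
  · exfalso
    interval_cases k
    · exact hne (Subgroup.card_eq_one.1 (by rw [hk, pow_zero]))
    · -- a normaliser of a group of order two centralises it
      refine H68.burnside_not_abelian H.hna T H.two_dvd_card fun n hn => ?_
      rw [pow_one] at hk
      obtain ⟨t, ht1, huniq⟩ := (Nat.card_eq_two_iff' (1 : ↥(T : Subgroup G))).1 hk
      refine mem_centralizer_iff.2 fun y hy => ?_
      rcases eq_or_ne (⟨y, hy⟩ : ↥(T : Subgroup G)) 1 with e | e
      · obtain rfl : y = 1 := congrArg Subtype.val e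
        simp
      · have hy' : n * y * n⁻¹ ∈ (T : Subgroup G) := (mem_normalizer_iff.1 hn y).1 hy
        have h2 : (⟨_, hy'⟩ : ↥(T : Subgroup G)) = t := huniq _ fun h => e (Subtype.ext (by
          have := congrArg Subtype.val h
          simpa [mul_inv_eq_one] using this))
        have h3 : n * y * n⁻¹ = y := congrArg Subtype.val (h2.trans (huniq _ e).symm)
        exact (mul_inv_eq_iff_eq_mul.1 h3).symm
  · rw [hk]
    exact le_trans (by norm_num) (Nat.pow_le_pow_right two_pos hk2)

theorem not_isCyclic_of_four {S : Subgroup G} (hS : IsPGroup 2 S) (h4 : 4 ≤ Nat.card S) :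
    ¬ IsCyclic S := by
  intro hc
  obtain ⟨g, hg⟩ := hc.exists_ofOrder_eq_natCard
  have h : g ^ 2 = 1 := Subtype.ext (by
    push_cast
    rw [pow_two]
    exact H.sq_of_isPGroup hS g.2)
  have := Nat.le_of_dvd two_pos (orderOf_dvd_of_pow_eq_one h)
  omega

/-- An odd subgroup normalised by a non-cyclic 2-subgroup is an `r`-group. -/
theorem isPGroup_of_normalized {A W : Subgroup G} (hA : IsPGroup 2 A) (h4 : 4 ≤ Nat.card A)
    (hAW : A ≤ normalizer (W : Set G)) (hW : Odd (Nat.card W)) : IsPGroup H.r W := by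
  haveI := Fact.mk H.hr
  haveI : IsMulCommutative A := ⟨⟨fun a b => Subtype.ext (H.comm_of_isPGroup hA a.2 b.2).eq⟩⟩
  refine IsPGroup.of_card (Nat.eq_prime_pow_of_unique_prime_dvd Nat.card_pos.ne' fun {l} hl hld => ?_)
  by_contra hne
  haveI := Fact.mk hl
  obtain ⟨k, hk⟩ := IsPGroup.iff_card.1 hA
  have hcop : (Nat.card A).Coprime (Nat.card W) := by
    rw [hk]; exact Nat.Coprime.pow_left _ (Nat.coprime_two_left.2 hW)
  obtain ⟨Q, hQ⟩ := Coprime.exists_invariant_sylow hAW hcop
    (Or.inl (Group.isSolvable_of_comm fun a b => Subtype.ext (H.comm_of_isPGroup hA a.2 b.2).eq)) l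
  set Q' := (Q : Subgroup W).map W.subtype with hQ'
  have hQW : Q' ≤ W := map_subtype_le _
  have hle : Q' ≤ ⊥ := by
    refine Coprime.le_of_centralizer_noncyclic_le (H.not_isCyclic_of_four hA h4) hQ
      (hcop.coprime_dvd_right (card_dvd_of_le hQW)) fun a ha ha1 => ?_
    intro y hy
    rw [mem_bot]
    by_contra hy1
    have hy2 : Odd (orderOf y) := hW.of_dvd_nat
      (orderOf_dvd_natCard W (hQW (mem_inf.1 hy).1))
    have ha2 : orderOf a = 2 :=
      FiveOrbits.orderOf_eq_two_of_sq (H.sq_of_isPGroup hA ha) ha1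
    have h := H.order_of_commute_involution ha2 hy2 hy1
      (mem_centralizer_singleton_iff.1 (mem_inf.1 hy).2 : Commute y a).symm
    obtain ⟨m, hm⟩ := IsPGroup.iff_orderOf.1 (Q.isPGroup'.map W.subtype) ⟨y, (mem_inf.1 hy).1⟩
    rw [orderOf_mk, h] at hm
    exact hne ((Nat.prime_dvd_prime_iff_eq H.hr hl).1 (H.hr.dvd_of_dvd_pow (dvd_of_eq hm))).symm
  refine Q.ne_bot_of_dvd_card hld ((map_eq_bot_iff_of_injective _ W.subtype_injective).1 (le_bot_iff.1 hle))

/-- Balance: an odd element of the core of one involution centraliser that centralises another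
commuting involution lies in its core. -/
theorem balance {a b : G} (ha : orderOf a = 2) (hb : orderOf b = 2) (hab : Commute a b) :
    H.core a ⊓ centralizer ({b} : Set G) ≤ H.core b := by
  haveI : Fact (Nat.Prime 2) := ⟨Nat.prime_two⟩
  haveI hsolv := H.solvable_centralizer (Or.inl hb : orderOf b = 2 ∨ orderOf b = H.r)
  refine H40.balance_of_constrained (p := 2) ⟨1, ?_⟩ hab.eq ?_
  · rw [pow_one, ← ha]; exact pow_orderOf_eq_one a
  · exact Cores.isPConstrained_iff.2 (Cores.centralizer_pCore_le Cores.isPSolvable_of_isSolvable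
      Components.pPrimeCore_quotient_eq_bot)

end Hyp

end Cfsg.Agent.H76.OneMixed
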