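import Mathlib

/-!
An elementary abelian 2-group acting on an abelian group of odd order, and the orbit sums of a
simultaneous eigenvector.
-/

set_option autoImplicit false
set_option linter.style.haveILetI false
set_option linter.unusedSectionVars false
set_option linter.unusedFintypeInType false
set_option linter.unusedDecidableInType false

namespace Cfsg.Agent.H76.OneMixed

open Finset

variable {N V : Type*} [Group N] [CommGroup V] [MulDistribMulAction N V]

theorem sq_eq_one_imp [Finite V] (hV : Odd (Nat.card V)) {v : V} (h : v * v = 1) : v = 1 := by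
  have h1 : orderOf v ∣ 2 := orderOf_dvd_of_pow_eq_one (by rwa [pow_two])
  have h2 : Odd (orderOf v) := hV.of_dvd_nat (orderOf_dvd_natCard v)
  rcases (Nat.dvd_prime Nat.prime_two).1 h1 with e | e
  · exact orderOf_eq_one_iff.1 e
  · rw [e] at h2; exact absurd h2 (by decide)

variable {T : Subgroup N} (hsq : ∀ t ∈ T, t * t = 1)

include hsq

theorem comm_of_sq {s t : N} (hs : s ∈ T) (ht : t ∈ T) : s * t = t * s := by
  have h := hsq _ (T.mul_mem hs ht)
  rw [← inv_eq_of_mul_eq_one_right h, mul_inv_rev, inv_eq_of_mul_eq_one_right (hsq t ht),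
    inv_eq_of_mul_eq_one_right (hsq s hs)]

/-- A common eigenvector that is not fixed by all of `T`. -/
theorem exists_eigen [Finite V] [Finite N] (hV : Odd (Nat.card V))
    (hne : ∃ t ∈ T, ∃ v : V, t • v ≠ v) :
    ∃ v : V, v ≠ 1 ∧ (∀ t ∈ T, t • v = v ∨ t • v = v⁻¹) ∧ ∃ t ∈ T, t • v ≠ v := by
  classical
  haveI := Fintype.ofFinite N
  obtain ⟨t₀, ht₀, v₁, hv₁⟩ := hne
  suffices key : ∀ S : Finset N, (∀ t ∈ S, t ∈ T) →
      ∃ v : V, v ≠ 1 ∧ t₀ • v = v⁻¹ ∧ ∀ t ∈ S, t • v = v ∨ t • v = v⁻¹ by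
    obtain ⟨v, hv, h0, hS⟩ := key (univ.filter (· ∈ T)) fun t ht => (mem_filter.1 ht).2
    refine ⟨v, hv, fun t ht => hS t (mem_filter.2 ⟨mem_univ _, ht⟩), t₀, ht₀, fun h => hv ?_⟩
    rw [h0] at h
    exact sq_eq_one_imp hV (by nth_rewrite 1 [← h]; exact inv_mul_cancel v)
  intro S
  induction S using Finset.induction with
  | empty =>
    intro _
    refine ⟨t₀ • v₁ * v₁⁻¹, fun h => hv₁ (mul_inv_eq_one.1 h), ?_, by simp⟩
    rw [smul_mul', smul_inv', smul_smul, hsq t₀ ht₀, one_smul, mul_inv_rev, inv_inv]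
  | @insert s S hs ih =>
    intro hT
    obtain ⟨v, hv, h0, hS⟩ := ih fun t ht => hT t (mem_insert_of_mem ht)
    have hsT : s ∈ T := hT s (mem_insert_self s S)
    by_cases hfix : s • v = v
    · exact ⟨v, hv, h0, fun t ht => (mem_insert.1 ht).elim (fun e => e ▸ Or.inl hfix) (hS t)⟩
    refine ⟨s • v * v⁻¹, fun h => hfix (mul_inv_eq_one.1 h), ?_, fun t ht => ?_⟩
    · rw [smul_mul', smul_inv', smul_smul, comm_of_sq hsq ht₀ hsT, ← smul_smul, h0, smul_inv',
        mul_inv_rev]
      rw [mul_comm]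
    rcases mem_insert.1 ht with rfl | ht'
    · right
      rw [smul_mul', smul_inv', smul_smul, hsq t hsT, one_smul, mul_inv_rev, inv_inv]
    · rcases hS t ht' with h | h
      · left
        rw [smul_mul', smul_inv', smul_smul, comm_of_sq hsq (hT t ht) hsT, ← smul_smul, h]
      · right
        rw [smul_mul', smul_inv', smul_smul, comm_of_sq hsq (hT t ht) hsT, ← smul_smul, h,
          smul_inv', mul_inv_rev, mul_comm]

/-- The orbit product of an eigenvector under an element moving its fixed hyperplane is non-trivial. -/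
theorem orbit_prod_ne_one [Finite V] [Finite N] (hV : Odd (Nat.card V)) {n : N} {l : ℕ}
    (hl : l.Prime) (hn : n ^ l = 1) (hnT : ∀ t ∈ T, n * t * n⁻¹ ∈ T) {v : V} (hv : v ≠ 1)
    (heig : ∀ t ∈ T, t • v = v ∨ t • v = v⁻¹)
    (hmove : ∃ t ∈ T, t • v = v ∧ (n⁻¹ * t * n) • v ≠ v) :
    (∏ i ∈ range l, (n ^ i) • v) ≠ 1 := by
  classical
  haveI := Fintype.ofFinite T
  have hpowT : ∀ (i : ℕ), ∀ t ∈ T, n ^ i * t * (n ^ i)⁻¹ ∈ T := by
    intro i
    induction i with
    | zero => simp
    | succ i ih =>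
      intro t ht
      have := hnT _ (ih t ht)
      simpa [pow_succ', mul_assoc] using this
  have hinvT : ∀ (i : ℕ), i ≤ l → ∀ t ∈ T, (n ^ i)⁻¹ * t * n ^ i ∈ T := by
    intro i hi t ht
    have h1 : (n ^ i)⁻¹ = n ^ (l - i) := inv_eq_of_mul_eq_one_left (by rw [← pow_add, Nat.sub_add_cancel hi, hn])
    have := hpowT (l - i) t ht
    rwa [← h1, inv_inv] at this
  -- the projection to the eigencharacter of `v`
  let proj : V → V := fun w => ∏ t : T,
    if (t : N) • v = v then (t : N) • w else ((t : N) • w)⁻¹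
  have hmul : ∀ a b, proj (a * b) = proj a * proj b := by
    intro a b
    simp only [proj, ← prod_mul_distrib]
    refine prod_congr rfl fun t _ => ?_
    split <;> simp [smul_mul', mul_comm]
  have hone : proj 1 = 1 := by simp [proj]
  have hv0 : proj v = v ^ Nat.card T := by
    simp only [proj]
    rw [prod_congr rfl (g := fun _ : T => v), prod_const, card_univ, Nat.card_eq_fintype_card]
    intro t _
    rcases heig t t.2 with h | h
    · simp [h]
    · by_cases h' : (t : N) • v = v
      · simp [h']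
      · simp only [h', if_false]; rw [h, inv_inv]
  -- other translates project to one
  have hother : ∀ i ∈ range l, i ≠ 0 → proj ((n ^ i) • v) = 1 := by
    intro i hi hi0
    have hil := mem_range.1 hi
    obtain ⟨s, hs, hsv, hsm⟩ : ∃ s ∈ T, s • v = v ∧ ((n ^ i)⁻¹ * s * n ^ i) • v ≠ v := by
      by_contra! hcon
      obtain ⟨t, ht, htv, htm⟩ := hmove
      apply htm
      -- a power of `n ^ i` is `n`
      have hco : i.Coprime l := ((Nat.Prime.coprime_iff_not_dvd hl).2 fun hd =>
        absurd (Nat.le_of_dvd (Nat.pos_of_ne_zero hi0) hd) (by omega)).symm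
      obtain ⟨j, hj⟩ : ∃ j : ℕ, n ^ (i * j) = n := by
        obtain ⟨j, -, hj⟩ := Nat.exists_mul_mod_eq_one_of_coprime hco hl.one_lt
        refine ⟨j, ?_⟩
        rw [← Nat.mod_add_div (i * j) l, hj, pow_add, pow_one, pow_mul, hn, one_pow, mul_one]
      have key : ∀ j : ℕ, ((n ^ (i * j))⁻¹ * t * n ^ (i * j)) ∈ T ∧
          ((n ^ (i * j))⁻¹ * t * n ^ (i * j)) • v = v := by
        intro j
        induction j with
        | zero => simpa using ⟨ht, htv⟩
        | succ j ih =>
          have h1 := hcon _ ih.1 ih.2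
          have h2 := hinvT i hil.le _ ih.1
          rw [show i * (j + 1) = i * j + i by ring, pow_add, mul_inv_rev]
          simp only [mul_assoc] at h1 h2 ⊢
          exact ⟨h2, h1⟩
      have := (key j).2
      rwa [hj] at this
    set w := (n ^ i) • v with hw
    have hflip : s • w = w⁻¹ := by
      have hm := hinvT i hil.le s hs
      have e : s • w = (n ^ i) • (((n ^ i)⁻¹ * s * n ^ i) • v) := by
        rw [hw, smul_smul, smul_smul]; congr 1; group
      rw [e, (heig _ hm).resolve_left hsm, smul_inv']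
    apply sq_eq_one_imp hV
    have hperm : proj w = (proj w)⁻¹ := by
      simp only [proj]
      conv_lhs => rw [← Equiv.prod_comp (Equiv.mulRight (⟨s, hs⟩ : T))]
      rw [← prod_inv_distrib]
      refine prod_congr rfl fun t _ => ?_
      simp only [Equiv.coe_mulRight, Subgroup.coe_mul]
      simp only [mul_smul, hsv, hflip, smul_inv']
      split <;> simp
    nth_rewrite 1 [hperm]
    exact inv_mul_cancel _
  intro hP
  have h := congrArg proj hP
  rw [hone] at h
  have hsplit : proj (∏ i ∈ range l, (n ^ i) • v) = ∏ i ∈ range l, proj ((n ^ i) • v) :=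
    map_prod (MonoidHom.mk' proj hmul) _ _
  rw [hsplit, prod_eq_single 0 (fun i hi hi0 => hother i hi hi0)
    (fun h => absurd (mem_range.2 hl.pos) h), pow_zero, one_smul, hv0] at h
  have hT2 : IsPGroup 2 T := fun t => ⟨1, Subtype.ext (by rw [pow_one]; push_cast; rw [pow_two]; exact hsq t t.2)⟩
  haveI : Fact (Nat.Prime 2) := ⟨Nat.prime_two⟩
  obtain ⟨k, hk⟩ := IsPGroup.iff_card.1 hT2
  have h1 := orderOf_dvd_of_pow_eq_one h
  rw [hk] at h1
  obtain ⟨j, -, hj⟩ := (Nat.dvd_prime_pow Nat.prime_two).1 h1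
  have hodd : Odd (orderOf v) := hV.of_dvd_nat (orderOf_dvd_natCard v)
  rw [hj] at hodd
  rcases j with _ | j
  · exact hv (orderOf_eq_one_iff.1 (by rw [hj, pow_zero]))
  · exact Nat.not_odd_iff_even.2 (by rw [pow_succ]; exact even_two.mul_left _) hodd

omit hsq in
theorem smul_orbit_prod {n : N} {l : ℕ} (hn : n ^ l = 1) (v : V) :
    n • (∏ i ∈ range l, (n ^ i) • v) = ∏ i ∈ range l, (n ^ i) • v := by
  rw [show n • (∏ i ∈ range l, (n ^ i) • v) = ∏ i ∈ range l, n • ((n ^ i) • v) from
    map_prod (MulDistribMulAction.toMonoidHom V n) _ _]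
  have h := prod_range_succ' (fun i => (n ^ i) • v) l
  rw [prod_range_succ, hn, pow_zero] at h
  exact (prod_congr rfl fun i _ => by rw [smul_smul, pow_succ']).trans (mul_right_cancel h.symm)

end Cfsg.Agent.H76.OneMixed
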