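import Cfsg.Agent.H76.OneMixed.Basic
import Cfsg.Agent.H76.OneMixed.Eigen
import Cfsg.Agent.Signalizer.TwoPrimesCores
import Cfsg.Agent.Coprime.Action

/-!
An elementary abelian 2-group normalising an `r`-group centralises it as soon as the common
normaliser is transitive on its involutions: otherwise an orbit product of an eigenvector gives
an element of order `r * l` or `r ^ 2`.
-/

set_option autoImplicit false
set_option linter.style.haveILetI false
set_option linter.unusedSectionVars false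

namespace Cfsg.Agent.H76.OneMixed

open Subgroup Finset
open scoped Pointwise commutatorElement

universe u

variable {G : Type u} [Group G] [Finite G]

namespace Hyp

variable (H : Hyp G)

include H

theorem isMulCommutative_of_isPGroup {S : Subgroup G} (hS : IsPGroup 2 S) : IsMulCommutative S :=
  ⟨⟨fun a b => Subtype.ext (H.comm_of_isPGroup hS a.2 b.2).eq⟩⟩

theorem orderOf_two_of_mem {S : Subgroup G} (hS : IsPGroup 2 S) {x : G} (hx : x ∈ S) (hx1 : x ≠ 1) :
    orderOf x = 2 :=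
  FiveOrbits.orderOf_eq_two_of_sq (H.sq_of_isPGroup hS hx) hx1

/-- An involution normalising a 2-group centralises it. -/
theorem commute_of_normalizes {S : Subgroup G} (hS : IsPGroup 2 S) {v : G} (hv : orderOf v = 2)
    (hn : v ∈ normalizer (S : Set G)) {x : G} (hx : x ∈ S) : Commute v x := by
  haveI : Fact (Nat.Prime 2) := ⟨Nat.prime_two⟩
  have hz : IsPGroup 2 (zpowers v) :=
    IsPGroup.of_card (n := 1) (by rw [Nat.card_zpowers, hv, pow_one])
  exact H.comm_of_isPGroup (hz.to_sup_of_normal_right' hS (zpowers_le.2 hn))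
    (mem_sup_left (mem_zpowers v)) (mem_sup_right hx)

/-- An odd element of prime order among the elements moving `T`. -/
theorem exists_prime_moving {T N₀ : Subgroup G} (hT : IsPGroup 2 T)
    (hN : N₀ ≤ normalizer (T : Set G)) {g : G} (hg : g ∈ N₀) {t : G} (ht : t ∈ T)
    (hgt : g * t * g⁻¹ ≠ t) :
    ∃ n ∈ N₀, ∃ l : ℕ, l.Prime ∧ l ≠ 2 ∧ orderOf n = l ∧ ∃ s ∈ T, n * s * n⁻¹ ≠ s := by
  -- replace `g` by an element of odd order
  obtain ⟨g₁, hg₁, hodd, hg₁t⟩ : ∃ g₁ ∈ N₀, Odd (orderOf g₁) ∧ g₁ * t * g₁⁻¹ ≠ t := by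
    rcases Nat.even_or_odd (orderOf g) with he | ho
    · rcases H.heven g (even_iff_two_dvd.1 he) with e | e
      · exfalso
        exact hgt (mul_inv_eq_iff_eq_mul.2 (H.commute_of_normalizes hT e (hN hg) ht).eq)
      · have hv : orderOf (g ^ H.r) = 2 := by
          rw [orderOf_pow_of_dvd H.hr.ne_zero (e ▸ dvd_mul_left H.r 2), e,
            Nat.mul_div_cancel _ H.hr.pos]
        refine ⟨g * g ^ H.r, mul_mem hg (pow_mem hg _), ?_, fun h => hgt ?_⟩
        · obtain ⟨k, hk⟩ := H.odd_r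
          have : (g * g ^ H.r) ^ H.r = 1 := by
            rw [← pow_succ', ← pow_mul, ← orderOf_dvd_iff_pow_eq_one, e]
            exact Dvd.intro (k + 1) (by rw [hk]; ring)
          exact H.odd_r.of_dvd_nat (orderOf_dvd_of_pow_eq_one this)
        · have hc := (H.commute_of_normalizes hT hv (hN (pow_mem hg _)) ht).eq
          rw [mul_inv_rev, ← mul_assoc, mul_assoc g (g ^ H.r) t, hc] at h
          simpa [mul_assoc] using h
    · exact ⟨g, hg, ho, hgt⟩
  by_cases hr : H.r ∣ orderOf g₁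
  · rcases H.hrord g₁ hr with e | e
    · exact ⟨g₁, hg₁, H.r, H.hr, H.hr2, e, t, ht, hg₁t⟩
    · exact absurd hodd fun ho => H.not_two_mul_odd e ho
  obtain ⟨l, hl, hld⟩ := Nat.exists_prime_and_dvd (n := orderOf g₁) fun h => by
    rw [orderOf_eq_one_iff] at h
    exact hg₁t (by rw [h]; group)
  have hl2 : l ≠ 2 := fun h => absurd (even_iff_two_dvd.2 (h ▸ hld)) (Nat.not_even_iff_odd.2 hodd)
  have hlr : l ≠ H.r := fun h => hr (h ▸ hld)
  refine ⟨g₁ ^ (orderOf g₁ / l), pow_mem hg₁ _, l, hl, hl2,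
    orderOf_pow_orderOf_div (orderOf_pos _).ne' hld, ?_⟩
  by_contra! hc
  have ho : orderOf (g₁ ^ (orderOf g₁ / l)) = l := orderOf_pow_orderOf_div (orderOf_pos _).ne' hld
  have ht1 : t ≠ 1 := fun h => hg₁t (by rw [h]; group)
  refine hlr (ho ▸ H.order_of_commute_involution (H.orderOf_two_of_mem hT ht ht1)
    (ho.symm ▸ hl.odd_of_ne_two hl2) (fun h => hl.ne_one (by rw [← ho, h, orderOf_one])) ?_)
  exact (mul_inv_eq_iff_eq_mul.1 (hc t ht)).symm

omit H [Finite G] in
/-- The power of a product as an orbit product. -/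
theorem map_pow_mul {V : Type*} [CommGroup V] {W N : Subgroup G} [MulDistribMulAction N V]
    (π : ↥W →* V) {n : G} (hn : n ∈ N) (hnW : ∀ x ∈ W, n * x * n⁻¹ ∈ W)
    (hπ : ∀ x : W, π ⟨n * x * n⁻¹, hnW x x.2⟩ = (⟨n, hn⟩ : N) • π x) (w : W) :
    ∀ m : ℕ, ∃ h : ((w : G) * n) ^ m * (n ^ m)⁻¹ ∈ W,
      π ⟨_, h⟩ = ∏ i ∈ range m, ((⟨n, hn⟩ : N) ^ i) • π w := by
  intro m
  induction m with
  | zero => exact ⟨by simp, by simp [show (⟨(1 : G), W.one_mem⟩ : W) = 1 from rfl]⟩
  | succ m ih =>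
    obtain ⟨h, hh⟩ := ih
    have e : ((w : G) * n) ^ (m + 1) * (n ^ (m + 1))⁻¹ =
        (w : G) * (n * (((w : G) * n) ^ m * (n ^ m)⁻¹) * n⁻¹) := by
      rw [pow_succ', pow_succ' n]; group
    refine ⟨e ▸ mul_mem w.2 (hnW _ h), ?_⟩
    have e2 : (⟨_, e ▸ mul_mem w.2 (hnW _ h)⟩ : W) = w * ⟨_, hnW _ h⟩ := Subtype.ext e
    rw [e2, map_mul, hπ ⟨_, h⟩, hh, prod_range_succ', pow_zero, one_smul, mul_comm]
    congr 1
    rw [show (⟨n, hn⟩ : N) • ∏ i ∈ range m, ((⟨n, hn⟩ : N) ^ i) • π w =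
      ∏ i ∈ range m, (⟨n, hn⟩ : N) • (((⟨n, hn⟩ : N) ^ i) • π w) from
      map_prod (MulDistribMulAction.toMonoidHom V (⟨n, hn⟩ : N)) _ _]
    exact prod_congr rfl fun i _ => by rw [smul_smul, pow_succ']

/-- A 2-group normalising an `r`-group centralises it if their common normaliser is transitive on
its involutions. -/
theorem le_centralizer_of_transitive {T W N₀ : Subgroup G} (hT : IsPGroup 2 T)
    (h4 : 4 ≤ Nat.card T) (hW : IsPGroup H.r W) (hTW : T ≤ normalizer (W : Set G))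
    (hN : N₀ ≤ normalizer (T : Set G) ⊓ normalizer (W : Set G))
    (htr : ∀ s ∈ T, s ≠ 1 → ∀ t ∈ T, t ≠ 1 → ∃ n ∈ N₀, n * s * n⁻¹ = t) :
    T ≤ centralizer (W : Set G) := by
  classical
  haveI : Fact (Nat.Prime 2) := ⟨Nat.prime_two⟩
  haveI := Fact.mk H.hr
  haveI : Group.IsNilpotent W := hW.isNilpotent
  obtain ⟨a, ha⟩ := IsPGroup.iff_card.1 hT
  obtain ⟨b, hb⟩ := IsPGroup.iff_card.1 hW
  have hcop : (Nat.card T).Coprime (Nat.card W) := by
    rw [ha, hb]
    exact Nat.Coprime.pow _ _ ((Nat.coprime_primes Nat.prime_two H.hr).2 (Ne.symm H.hr2))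
  set N : Subgroup G := normalizer (T : Set G) ⊓ normalizer (W : Set G) with hNdef
  let ρ : ↥N →* MulAut ↥W := W.normalizerMonoidHom.comp (Subgroup.inclusion inf_le_right)
  let f : ↥N →* MulAut (Abelianization W) :=
    { toFun := fun n => (ρ n).abelianizationCongr
      map_one' := by
        refine MulEquiv.ext fun x => ?_
        obtain ⟨y, rfl⟩ := QuotientGroup.mk_surjective x
        show (ρ 1).abelianizationCongr (Abelianization.of y) = _
        rw [abelianizationCongr_of, map_one]; rfl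
      map_mul' := fun m n => by
        refine MulEquiv.ext fun x => ?_
        obtain ⟨y, rfl⟩ := QuotientGroup.mk_surjective x
        show (ρ (m * n)).abelianizationCongr (Abelianization.of y) =
          (ρ m).abelianizationCongr ((ρ n).abelianizationCongr (Abelianization.of y))
        rw [abelianizationCongr_of, abelianizationCongr_of, abelianizationCongr_of, map_mul]; rfl }
  letI : MulDistribMulAction ↥N (Abelianization W) := MulDistribMulAction.compHom _ f
  have hsmul : ∀ (n : G) (hn : n ∈ N) (x : W) (hx : n * x * n⁻¹ ∈ W),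
      (⟨n, hn⟩ : ↥N) • Abelianization.of x = Abelianization.of (⟨_, hx⟩ : W) := fun n hn x hx => by
    show (ρ ⟨n, hn⟩).abelianizationCongr (Abelianization.of x) = _
    rw [abelianizationCongr_of]
    rfl
  have hTN : T ≤ N := le_inf le_normalizer hTW
  by_contra hne
  set T' : Subgroup ↥N := T.subgroupOf N with hT'
  have hsq : ∀ t ∈ T', t * t = 1 := fun t ht =>
    Subtype.ext (H.sq_of_isPGroup hT (mem_subgroupOf.1 ht))
  have hVodd : Odd (Nat.card (Abelianization W)) :=
    (hb ▸ H.odd_r.pow : Odd (Nat.card W)).of_dvd_nat (Subgroup.card_quotient_dvd_card _)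
  have hmoves : ∃ t ∈ T', ∃ v : Abelianization W, t • v ≠ v := by
    by_contra! hfix
    refine hne (Signalizer.TwoPrimes.le_centralizer_of_derived hTW hcop (commutator_le.2 fun w hw t ht => ?_))
    rw [← map_subtype_commutator]
    have hx : t * w * t⁻¹ ∈ W := (mem_normalizer_iff.1 (hTW ht) w).1 hw
    have h := hfix ⟨t, hTN ht⟩ (mem_subgroupOf.2 ht) (Abelianization.of (⟨w, hw⟩ : W))
    rw [hsmul t (hTN ht) ⟨w, hw⟩ hx] at h
    refine ⟨⟨w, hw⟩ * (⟨_, hx⟩ : W)⁻¹, (QuotientGroup.eq_one_iff _).1 ?_, ?_⟩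
    · show Abelianization.of ((⟨w, hw⟩ : W) * (⟨_, hx⟩ : W)⁻¹) = 1
      rw [map_mul, map_inv, h, mul_inv_cancel]
    · show w * (t * w * t⁻¹)⁻¹ = ⁅w, t⁆
      rw [commutatorElement_def]; group
  obtain ⟨v, hv, heig, t₀, ht₀, ht₀v⟩ := exists_eigen hsq hVodd hmoves
  have ht₀1 : (t₀ : G) ≠ 1 := fun h => ht₀v (by rw [show t₀ = 1 from Subtype.ext h, one_smul])
  -- a moving element of odd prime order
  obtain ⟨g, hg, hgt⟩ : ∃ g ∈ N₀, g * (t₀ : G) * g⁻¹ ≠ t₀ := by
    by_contra! hc
    have h2 : (T : Set G) ⊆ {1, (t₀ : G)} := by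
      intro t ht
      by_contra h
      simp only [Set.mem_insert_iff, Set.mem_singleton_iff, not_or] at h
      obtain ⟨n, hn, he⟩ := htr _ (mem_subgroupOf.1 ht₀) ht₀1 t ht h.1
      exact h.2 (he ▸ hc n hn)
    have h3 := Set.ncard_le_ncard h2 (Set.toFinite _)
    rw [← Nat.card_coe_set_eq] at h3
    have h4' : ({1, (t₀ : G)} : Set G).ncard ≤ 2 :=
      (Set.ncard_insert_le _ _).trans (by rw [Set.ncard_singleton])
    simp only [SetLike.coe_sort_coe] at h3
    omega
  obtain ⟨n, hn, l, hl, hl2, hno, s₀, hs₀, hns₀⟩ :=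
    H.exists_prime_moving hT (hN.trans inf_le_left) hg (mem_subgroupOf.1 ht₀) hgt
  set n' : ↥N := ⟨n, hN hn⟩ with hn'
  have hn'l : n' ^ l = 1 := Subtype.ext (by push_cast; rw [hn', ← hno]; exact pow_orderOf_eq_one n)
  have hTconj : ∀ x : ↥N, ∀ t ∈ T', x * t * x⁻¹ ∈ T' := fun x t ht =>
    mem_subgroupOf.2 (by
      push_cast
      exact (mem_normalizer_iff.1 (mem_inf.1 x.2).1 _).1 (mem_subgroupOf.1 ht))
  have hTconj' : ∀ x : ↥N, ∀ t ∈ T', x⁻¹ * t * x ∈ T' := fun x t ht => by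
    simpa using hTconj x⁻¹ t ht
  -- some translate of the eigenvector has its kernel moved
  obtain ⟨v', hv', heig', hmove⟩ : ∃ v' : Abelianization W, v' ≠ 1 ∧
      (∀ t ∈ T', t • v' = v' ∨ t • v' = v'⁻¹) ∧
      ∃ t ∈ T', t • v' = v' ∧ (n'⁻¹ * t * n') • v' ≠ v' := by
    by_contra! hno'
    have key : ∀ g' ∈ N₀, ∀ hgN : g' ∈ N, ∀ t ∈ T',
        ((⟨g', hgN⟩ : ↥N)⁻¹ * (n' * t * n'⁻¹ * t) * ⟨g', hgN⟩) • v = v := by
      intro g' hg' hgN t ht
      set γ : ↥N := ⟨g', hgN⟩ with hγ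
      have heig2 : ∀ t ∈ T', t • (γ • v) = γ • v ∨ t • (γ • v) = (γ • v)⁻¹ := by
        intro t ht
        have e : t • (γ • v) = γ • ((γ⁻¹ * t * γ) • v) := by
          rw [smul_smul, smul_smul]; congr 1; group
        rcases heig _ (hTconj' γ t ht) with h | h
        · left; rw [e, h]
        · right; rw [e, h, smul_inv']
      have hcl : ∀ t ∈ T', t • (γ • v) = γ • v → (n'⁻¹ * t * n') • (γ • v) = γ • v := fun t ht h =>
        hno' (γ • v) (fun e => hv (MulAction.injective γ (e.trans (smul_one γ).symm))) heig2 t ht h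
      have hcl' : ∀ k : ℕ, ∀ t ∈ T', t • (γ • v) = γ • v →
          ((n' ^ k)⁻¹ * t * n' ^ k) • (γ • v) = γ • v := by
        intro k
        induction k with
        | zero => intro t _ h; simpa using h
        | succ k ih =>
          intro t ht h
          have h1 := ih _ (hTconj' n' t ht) (hcl t ht h)
          rw [pow_succ', mul_inv_rev]
          simpa [mul_assoc] using h1
      have hback : ∀ t ∈ T', t • (γ • v) = γ • v → (n' * t * n'⁻¹) • (γ • v) = γ • v := by
        intro t ht h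
        have h1 := hcl' (l - 1) t ht h
        have e : n' ^ (l - 1) = n'⁻¹ := by
          rw [eq_inv_iff_mul_eq_one, ← pow_succ, Nat.sub_add_cancel hl.one_le, hn'l]
        rwa [e, inv_inv] at h1
      have hfix : (n' * t * n'⁻¹ * t) • (γ • v) = γ • v := by
        rw [mul_smul]
        rcases heig2 t ht with h | h
        · rw [h, hback t ht h]
        · rw [h, smul_inv']
          rcases heig2 _ (hTconj n' t ht) with h' | h'
          · exfalso
            have h2 := hcl _ (hTconj n' t ht) h'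
            rw [show n'⁻¹ * (n' * t * n'⁻¹) * n' = t by group, h] at h2
            exact hv (MulAction.injective γ ((sq_eq_one_imp hVodd
              (show γ • v * γ • v = 1 by nth_rewrite 1 [← h2]; exact inv_mul_cancel _)).trans
              (smul_one γ).symm))
          · rw [h', inv_inv]
      rw [mul_smul, mul_smul, hfix, inv_smul_smul]
    have hs1 : s₀ ≠ 1 := fun h => hns₀ (by rw [h]; group)
    set c := n * s₀ * n⁻¹ * s₀ with hc
    have hcT : c ∈ T :=
      mul_mem ((mem_normalizer_iff.1 (mem_inf.1 (hN hn)).1 _).1 hs₀) hs₀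
    have hc1 : c ≠ 1 := fun h => hns₀ (by
      rw [hc, mul_eq_one_iff_eq_inv] at h
      exact h.trans (inv_eq_of_mul_eq_one_right (H.sq_of_isPGroup hT hs₀)))
    obtain ⟨g', hg', he⟩ := htr _ (mem_subgroupOf.1 ht₀) ht₀1 c hcT hc1
    have h := key g' hg' (hN hg') ⟨s₀, hTN hs₀⟩ (mem_subgroupOf.2 hs₀)
    refine ht₀v (Eq.trans ?_ h)
    congr 1
    refine Subtype.ext ?_
    push_cast
    rw [hn', ← hc, ← he]
    group
  have hprod := orbit_prod_ne_one hsq hVodd hl hn'l (fun t ht => hTconj n' t ht) hv' heig' hmove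
  have hnW : ∀ x ∈ W, n * x * n⁻¹ ∈ W := fun x hx =>
    (mem_normalizer_iff.1 (mem_inf.1 (hN hn)).2 x).1 hx
  by_cases hlr : l = H.r
  · -- an element of order `r ^ 2`
    obtain ⟨w, rfl⟩ := QuotientGroup.mk_surjective v'
    obtain ⟨h, hh⟩ := map_pow_mul (Abelianization.of : W →* Abelianization W) (hN hn) hnW
      (fun x => (hsmul n (hN hn) x (hnW x x.2)).symm) w l
    have hnl : n ^ l = 1 := hno ▸ pow_orderOf_eq_one n
    have hmem : ((w : G) * n) ^ l ∈ W := by simpa [hnl] using h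
    have hord : ((w : G) * n) ^ H.r = 1 := by
      obtain ⟨k, hk⟩ := IsPGroup.iff_orderOf.1 hW ⟨_, hmem⟩
      rw [orderOf_mk] at hk
      refine H.pow_r_eq_one ?_
      have hd : orderOf ((w : G) * n) ∣ H.r ^ (k + 1) := by
        rw [orderOf_dvd_iff_pow_eq_one, pow_succ', pow_mul, ← hlr, ← orderOf_dvd_iff_pow_eq_one,
          hk, hlr]
      obtain ⟨j, -, hj⟩ := (Nat.dvd_prime_pow H.hr).1 hd
      exact ⟨j, hj⟩
    refine hprod ((hh.symm.trans ?_))
    rw [show (⟨_, h⟩ : W) = 1 from Subtype.ext (by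
      show ((w : G) * n) ^ l * (n ^ l)⁻¹ = 1
      rw [hnl, hlr, hord, inv_one, mul_one]), map_one]
  · -- a fixed coset lifts to an element of `r`-power order centralised by `n`
    set Q₀ := ∏ i ∈ range l, (n' ^ i) • v' with hQ₀
    have hfixQ : n' • Q₀ = Q₀ := smul_orbit_prod hn'l v'
    obtain ⟨k, hk⟩ := QuotientGroup.mk_surjective Q₀
    set D := (commutator W).map W.subtype with hD
    have hDW : D ≤ W := map_subtype_le _
    have hAW : zpowers n ≤ normalizer (W : Set G) := zpowers_le.2 (mem_inf.1 (hN hn)).2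
    have hAD : zpowers n ≤ normalizer (D : Set G) := by
      rw [hD, map_subtype_commutator]
      intro a ha
      refine Coprime.mem_normalizer_of_map_conj ?_
      rw [Subgroup.map_commutator, Coprime.map_conj_eq (hAW ha)]
    have hcop' : (Nat.card ↥(zpowers n)).Coprime (Nat.card W) := by
      rw [Nat.card_zpowers, hno, hb]
      exact Nat.Coprime.pow_right _ ((Nat.coprime_primes hl H.hr).2 hlr)
    have hfix : ∀ a ∈ zpowers n, (k : G)⁻¹ * (a * k * a⁻¹) ∈ D := by
      intro a ha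
      have hax : a * k * a⁻¹ ∈ W := (mem_normalizer_iff.1 (hAW ha) _).1 k.2
      obtain ⟨i, hi⟩ := mem_zpowers_iff.1 ha
      have haN : a ∈ N := hi ▸ zpow_mem (hN hn) i
      have e : (⟨a, haN⟩ : ↥N) = n' ^ i := Subtype.ext (by push_cast; exact hi.symm)
      have h1 : (⟨a, haN⟩ : ↥N) • Q₀ = Q₀ := by
        rw [e]
        exact Subgroup.zpow_mem (MulAction.stabilizer ↥N Q₀) hfixQ i
      rw [← hk] at h1
      have h2 : Abelianization.of (⟨_, hax⟩ : W) = Abelianization.of k := (hsmul a haN k hax).symm.trans h1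
      refine ⟨k⁻¹ * ⟨_, hax⟩, (QuotientGroup.eq_one_iff _).1 ?_, rfl⟩
      show Abelianization.of (k⁻¹ * (⟨_, hax⟩ : W)) = 1
      rw [map_mul, map_inv, h2, inv_mul_cancel]
    obtain ⟨c, hc, hkc⟩ := Coprime.exists_centralizer_mem_coset hAW hcop'
      (Or.inl (Coprime.isSolvable_of_isMulCommutative)) hDW hAD k.2 hfix
    have hc1 : c ≠ 1 := by
      intro h
      refine hprod (hk.symm.trans ((QuotientGroup.eq_one_iff _).2 ?_))
      obtain ⟨d, hd, hde⟩ := hkc
      have : d = k⁻¹ := Subtype.ext (by rw [show (d : G) = _ from hde, h, mul_one]; rfl)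
      exact inv_mem_iff.1 (this ▸ hd)
    have hcr : orderOf c = H.r := H.orderOf_of_mem hW (mem_inf.1 hc).1 hc1
    have hcn : Commute c n := (mem_centralizer_iff.1 (mem_inf.1 hc).2 n (mem_zpowers n)).symm
    have hnr := orderOf_dvd_of_pow_eq_one (H.pow_of_commute_r hcr (hno ▸ hl.odd_of_ne_two hl2) hcn)
    rw [hno] at hnr
    exact hlr ((Nat.prime_dvd_prime_iff_eq hl H.hr).1 hnr)

end Hyp

end Cfsg.Agent.H76.OneMixed
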