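import Cfsg.Agent.H76.OneMixed.Local
import Cfsg.Agent.Fusion.SignalizerTrivial
import Cfsg.Agent.Thompson.ZJFusion

/-!
A Sylow four-group: the maximal invariant `r`-subgroups are Sylow subgroups controlling fusion.
-/

set_option autoImplicit false
set_option linter.style.haveILetI false
set_option linter.unusedSectionVars false

namespace Cfsg.Agent.H76.OneMixed

open Subgroup
open scoped Pointwise

universe u

variable {G : Type u} [Group G] [Finite G]

omit [Finite G] in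
/-- A decomposition of the elements of a 2-nilpotent subgroup. -/
theorem mem_of_decomp {O T : Subgroup G} (hTO : T ≤ normalizer (O : Set G))
    (hT : ∀ τ ∈ T, τ * τ = 1) {g o τ : G} (ho : o ∈ O) (hτ : τ ∈ T) (hg : g = o * τ)
    (hodd : Odd (orderOf g)) : g ∈ O := by
  have hti : τ⁻¹ = τ := inv_eq_of_mul_eq_one_right (hT τ hτ)
  have h2 : g * g ∈ O := by
    rw [show g * g = o * (τ * o * τ) by rw [hg]; group]
    refine mul_mem ho ?_
    nth_rewrite 2 [← hti]
    exact (mem_normalizer_iff.1 (hTO hτ) o).1 ho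
  obtain ⟨k, hk⟩ := hodd
  have : g = (g * g) ^ (k + 1) := by
    rw [← pow_two, ← pow_mul, show 2 * (k + 1) = (2 * k + 1) + 1 by ring, pow_succ, ← hk,
      pow_orderOf_eq_one, one_mul]
  rw [this]
  exact pow_mem h2 _

namespace Hyp

variable (H : Hyp G)

include H

variable [IsSimpleGroup G] {T : Sylow 2 G} (h4 : Nat.card (T : Subgroup G) = 4)

theorem exists_mover (T : Sylow 2 G) :
    ∃ n ∈ nrmS T, n ∉ centralizer ((T : Subgroup G) : Set G) := by
  haveI : Fact (Nat.Prime 2) := ⟨Nat.prime_two⟩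
  by_contra! h
  exact H68.burnside_not_abelian H.hna T H.two_dvd_card h

theorem sylow_le_centralizer {T : Sylow 2 G} {a : G} (ha : a ∈ (T : Subgroup G)) :
    (T : Subgroup G) ≤ centralizer ({a} : Set G) := fun s hs =>
  mem_centralizer_singleton_iff.2 (H.comm_of_isPGroup T.isPGroup' hs ha).eq

theorem sylow_le_normalizer_core {T : Sylow 2 G} {a : G} (ha : a ∈ (T : Subgroup G)) :
    (T : Subgroup G) ≤ normalizer (H.core a : Set G) := fun s hs =>
  H39.mem_normalizer_of_conj_mem fun d hd => H.core_conj (H.sylow_le_centralizer ha hs) hd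

include h4

/-- Four elements are all of a Sylow four-group. -/
theorem four_cover {a b c : G} (ha : a ∈ (T : Subgroup G)) (ha1 : a ≠ 1) (hb : b ∈ (T : Subgroup G))
    (hb1 : b ≠ 1) (hc : c ∈ (T : Subgroup G)) (hc1 : c ≠ 1) (hab : a ≠ b) (hac : a ≠ c)
    (hbc : b ≠ c) {x : G} (hx : x ∈ (T : Subgroup G)) : x = 1 ∨ x = a ∨ x = b ∨ x = c := by
  classical
  have hsub : ({1, a, b, c} : Set G) ⊆ ((T : Subgroup G) : Set G) := by
    rintro z (rfl | rfl | rfl | rfl)
    exacts [one_mem _, ha, hb, hc]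
  have hcard : ({1, a, b, c} : Set G).ncard = 4 := by
    rw [Set.ncard_insert_of_notMem (by simp [Ne.symm ha1, Ne.symm hb1, Ne.symm hc1]) (Set.toFinite _),
      Set.ncard_insert_of_notMem (by simp [hab, hac]) (Set.toFinite _),
      Set.ncard_pair hbc]
  have := Set.eq_of_subset_of_ncard_le hsub
    (by rw [hcard, ← Nat.card_coe_set_eq]; simp only [SetLike.coe_sort_coe]; omega) (Set.toFinite _)
  have hx' : x ∈ ({1, a, b, c} : Set G) := this ▸ hx
  simpa using hx'

/-- An element of the normaliser fixing an involution centralises the four-group. -/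
theorem commute_of_fix {n a : G} (hn : n ∈ nrmS T) (ha : a ∈ (T : Subgroup G)) (ha1 : a ≠ 1)
    (hc : Commute n a) : n ∈ centralizer ((T : Subgroup G) : Set G) := by
  refine mem_centralizer_iff.2 fun s hs => ?_
  rcases eq_or_ne s 1 with rfl | hs1
  · simp
  rcases eq_or_ne s a with rfl | hsa
  · exact hc.eq.symm
  have has1 : a * s ≠ 1 := fun h =>
    hsa ((inv_eq_of_mul_eq_one_right h).symm.trans (H.inv_eq_self_of_mem T.isPGroup' ha))
  have hsq : Commute (n ^ 2) s := by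
    have hmem : n * s * n⁻¹ ∈ (T : Subgroup G) := conj_mem_sylow hn hs
    rcases H.four_cover h4 ha ha1 hs hs1 (mul_mem ha hs) has1 (Ne.symm hsa)
      (fun h => hs1 (mul_eq_left.1 h.symm)) (fun h => ha1 (mul_eq_right.1 h.symm)) hmem with
      e | e | e | e
    · exact absurd (conj_eq_one_iff.1 e) hs1
    · refine absurd ?_ hsa
      calc s = n⁻¹ * (n * s * n⁻¹) * n := by group
        _ = n⁻¹ * (a * n) := by rw [e, mul_assoc]
        _ = a := by rw [← hc.eq, inv_mul_cancel_left]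
    · exact (Commute.pow_left (mul_inv_eq_iff_eq_mul.1 e) 2)
    · refine mul_inv_eq_iff_eq_mul.1 ?_
      rw [pow_two, show n * n * s * (n * n)⁻¹ = n * (n * s * n⁻¹) * n⁻¹ by group, e,
        show n * (a * s) * n⁻¹ = n * a * n⁻¹ * (n * s * n⁻¹) by group, e, hc.eq,
        mul_inv_cancel_right, ← mul_assoc, H.sq_of_isPGroup T.isPGroup' ha, one_mul]
  refine (?_ : Commute n s).eq.symm
  rcases Nat.even_or_odd (orderOf n) with he | ⟨k, hk⟩
  · rcases H.heven n (even_iff_two_dvd.1 he) with e | e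
    · exact H.commute_of_normalizes T.isPGroup' e hn hs
    have hv : orderOf (n ^ H.r) = 2 := by
      rw [orderOf_pow_of_dvd H.hr.ne_zero (e ▸ dvd_mul_left H.r 2), e,
        Nat.mul_div_cancel _ H.hr.pos]
    obtain ⟨k, hk⟩ := H.odd_r
    have hn' : n = (n ^ 2) ^ (k + 1) * n ^ H.r := by
      rw [← pow_mul, ← pow_add, show 2 * (k + 1) + H.r = 2 * H.r + 1 by omega, pow_succ, ← e,
        pow_orderOf_eq_one, one_mul]
    rw [hn']
    exact (hsq.pow_left _).mul_left (H.commute_of_normalizes T.isPGroup' hv (pow_mem hn _) hs)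
  · have hn' : n = (n ^ 2) ^ (k + 1) := by
      rw [← pow_mul, show 2 * (k + 1) = (2 * k + 1) + 1 by ring, pow_succ, ← hk,
        pow_orderOf_eq_one, one_mul]
    rw [hn']
    exact hsq.pow_left _

theorem mover_ne {n : G} (hn : n ∈ nrmS T) (hn' : n ∉ centralizer ((T : Subgroup G) : Set G))
    {a : G} (ha : a ∈ (T : Subgroup G)) (ha1 : a ≠ 1) : n * a * n⁻¹ ≠ a := fun h =>
  hn' (H.commute_of_fix h4 hn ha ha1 (mul_inv_eq_iff_eq_mul.1 h))

/-- A mover is transitive on the involutions. -/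
theorem mover_transitive {n : G} (hn : n ∈ nrmS T)
    (hn' : n ∉ centralizer ((T : Subgroup G) : Set G)) {s t : G} (hs : s ∈ (T : Subgroup G))
    (hs1 : s ≠ 1) (ht : t ∈ (T : Subgroup G)) (ht1 : t ≠ 1) :
    ∃ k : ℕ, n ^ k * s * (n ^ k)⁻¹ = t := by
  have h1 := conj_mem_sylow hn hs
  have h11 : n * s * n⁻¹ ≠ 1 := fun h => hs1 (conj_eq_one_iff.1 h)
  have h2 := conj_mem_sylow hn h1
  have h21 : n * (n * s * n⁻¹) * n⁻¹ ≠ 1 := fun h => h11 (conj_eq_one_iff.1 h)
  have d1 := H.mover_ne h4 hn hn' hs hs1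
  have d2 := H.mover_ne h4 hn hn' h1 h11
  have d3 : n * (n * s * n⁻¹) * n⁻¹ ≠ s := by
    intro e
    have hp : s * (n * s * n⁻¹) ∈ (T : Subgroup G) := mul_mem hs h1
    have hp1 : s * (n * s * n⁻¹) ≠ 1 := fun h =>
      d1 ((inv_eq_of_mul_eq_one_right h).symm.trans (H.inv_eq_self_of_mem T.isPGroup' hs))
    refine H.mover_ne h4 hn hn' hp hp1 ?_
    rw [show n * (s * (n * s * n⁻¹)) * n⁻¹ = n * s * n⁻¹ * (n * (n * s * n⁻¹) * n⁻¹) by group, e]
    exact (H.comm_of_isPGroup T.isPGroup' h1 hs).eq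
  rcases H.four_cover h4 hs hs1 h1 h11 h2 h21 (Ne.symm d1) (Ne.symm d3) (Ne.symm d2) ht with
    e | e | e | e
  · exact absurd e ht1
  · exact ⟨0, by rw [e]; simp⟩
  · exact ⟨1, by rw [e, pow_one]⟩
  · exact ⟨2, by rw [e, pow_two]; group⟩

omit h4 in
/-- The centraliser of the four-group is core times itself. -/
theorem factor_centralizes {a n : G} (ha : a ∈ (T : Subgroup G)) (ha1 : a ≠ 1)
    (hn : n ∈ centralizer ((T : Subgroup G) : Set G)) :
    ∃ o ∈ H.core a, ∃ τ ∈ (T : Subgroup G), n = o * τ := by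
  have hnN : n ∈ nrmS T := centralizer_le_normalizer (s := ((T : Subgroup G) : Set G)) hn
  have hx : orderOf a = 2 ∨ orderOf a = H.r := Or.inl (H.orderOf_two_of_sylow ha ha1)
  have hC : ∀ k : ℕ, n ^ k ∈ centralizer ({a} : Set G) := fun k =>
    mem_centralizer_singleton_iff.2 (Commute.pow_left
      (mem_centralizer_iff.1 hn a ha : Commute a n).symm k).eq
  rcases Nat.even_or_odd (orderOf n) with he | ho
  · rcases H.heven n (even_iff_two_dvd.1 he) with e | e
    · exact ⟨1, one_mem _, n, H.mem_of_mem_nrmS e hnN, (one_mul n).symm⟩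
    have hv : orderOf (n ^ H.r) = 2 := by
      rw [orderOf_pow_of_dvd H.hr.ne_zero (e ▸ dvd_mul_left H.r 2), e,
        Nat.mul_div_cancel _ H.hr.pos]
    have h2r : orderOf (n ^ 2) = H.r := by
      rw [orderOf_pow_of_dvd two_ne_zero (e ▸ dvd_mul_right 2 H.r), e,
        Nat.mul_div_cancel_left _ two_pos]
    obtain ⟨k, hk⟩ := H.odd_r
    refine ⟨(n ^ 2) ^ (k + 1), pow_mem (H.mem_core_of_centralizes hx T (H.sylow_le_centralizer ha)
      (hC 2) (pow_mem hn 2) (h2r ▸ H.odd_r)) _, n ^ H.r, H.mem_of_mem_nrmS hv (pow_mem hnN _), ?_⟩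
    rw [← pow_mul, ← pow_add, show 2 * (k + 1) + H.r = 2 * H.r + 1 by omega, pow_succ, ← e,
      pow_orderOf_eq_one, one_mul]
  · exact ⟨n, H.mem_core_of_centralizes hx T (H.sylow_le_centralizer ha)
      (by simpa using hC 1) hn ho, 1, one_mem _, (mul_one n).symm⟩

/-- The centraliser of an involution is its core times the four-group. -/
theorem centralizer_decomp {a g : G} (ha : a ∈ (T : Subgroup G)) (ha1 : a ≠ 1)
    (hg : g ∈ centralizer ({a} : Set G)) : ∃ o ∈ H.core a, ∃ τ ∈ (T : Subgroup G), g = o * τ := by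
  obtain ⟨o, ho, n, hnC, hn, rfl⟩ := H.exists_factor (Or.inl (H.orderOf_two_of_sylow ha ha1))
    (H.sylow_le_centralizer ha) T.isPGroup' (fun Q hQ _ hle => T.is_maximal' hQ hle) hg
  obtain ⟨o', ho', τ, hτ, rfl⟩ := H.factor_centralizes ha ha1
    (H.commute_of_fix h4 hn ha ha1 (mem_centralizer_singleton_iff.1 hnC))
  exact ⟨o * o', mul_mem ho ho', τ, hτ, (mul_assoc _ _ _).symm⟩

theorem odd_mem_core {a g : G} (ha : a ∈ (T : Subgroup G)) (ha1 : a ≠ 1) (hc : Commute g a)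
    (hodd : Odd (orderOf g)) : g ∈ H.core a := by
  obtain ⟨o, ho, τ, hτ, rfl⟩ := H.centralizer_decomp h4 ha ha1 (mem_centralizer_singleton_iff.2 hc.eq)
  exact mem_of_decomp (H.sylow_le_normalizer_core ha) (fun s hs => H.sq_of_isPGroup T.isPGroup' hs)
    ho hτ rfl hodd

omit h4 in
theorem rGroup_odd {P : Subgroup G} (hP : IsPGroup H.r P) {x : G} (hx : x ∈ P) : Odd (orderOf x) :=
  H.odd_r.of_dvd_nat (orderOf_dvd_of_pow_eq_one (H.pow_r_of_mem hP hx))

/-- A mover normalising an `r`-group normalised by the four-group: the four-group centralises it. -/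
theorem fused_centralize {W : Subgroup G} (hW : IsPGroup H.r W)
    (hTW : (T : Subgroup G) ≤ normalizer (W : Set G)) {n : G} (hn : n ∈ nrmS T)
    (hn' : n ∉ centralizer ((T : Subgroup G) : Set G)) (hnW : n ∈ normalizer (W : Set G)) :
    (T : Subgroup G) ≤ centralizer (W : Set G) := by
  refine H.le_centralizer_of_transitive T.isPGroup' h4.ge hW hTW
    (N₀ := zpowers n) (zpowers_le.2 (mem_inf.2 ⟨hn, hnW⟩)) fun s hs hs1 t ht ht1 => ?_
  obtain ⟨k, hk⟩ := H.mover_transitive h4 hn hn' hs hs1 ht ht1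
  exact ⟨n ^ k, pow_mem (mem_zpowers n) k, hk⟩

/-- A mover in the centraliser of an `r`-element forces it into the Sylow normaliser. -/
theorem fused_centralizer_le {c n : G} (hc : orderOf c = H.r)
    (hTc : (T : Subgroup G) ≤ centralizer ({c} : Set G)) (hn : n ∈ nrmS T)
    (hn' : n ∉ centralizer ((T : Subgroup G) : Set G)) (hnc : n ∈ centralizer ({c} : Set G)) :
    centralizer ({c} : Set G) ≤ nrmS T := by
  have hO := H.core_isPGroup (Or.inr hc : orderOf c = 2 ∨ orderOf c = H.r)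
  have hnorm : ∀ g ∈ centralizer ({c} : Set G), g ∈ normalizer (H.core c : Set G) := fun g hg =>
    H39.mem_normalizer_of_conj_mem fun d hd => H.core_conj hg hd
  have hTO := H.fused_centralize h4 hO (fun s hs => hnorm s (hTc hs)) hn hn' (hnorm n hnc)
  intro g hg
  obtain ⟨o, ho, m, -, hm, rfl⟩ := H.exists_factor (Or.inr hc) hTc T.isPGroup'
    (fun Q hQ _ hle => T.is_maximal' hQ hle) hg
  exact mul_mem (centralizer_le_normalizer (s := ((T : Subgroup G) : Set G))
    (mem_centralizer_iff.2 fun s hs => (mem_centralizer_iff.1 (hTO hs) o ho).symm)) hm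

/-- Without movers a subgroup containing the four-group is an `r`-group times it. -/
theorem unfused_split {L : Subgroup G} (hTL : (T : Subgroup G) ≤ L)
    (hun : ∀ n ∈ L, n ∈ nrmS T → n ∈ centralizer ((T : Subgroup G) : Set G)) :
    ∃ O : Subgroup G, O ≤ L ∧ IsPGroup H.r O ∧ L ≤ normalizer (O : Set G) ∧
      (∀ g ∈ L, ∃ o ∈ O, ∃ τ ∈ (T : Subgroup G), g = o * τ) ∧
      ∀ g ∈ L, Odd (orderOf g) → g ∈ O := by
  haveI : Fact (Nat.Prime 2) := ⟨Nat.prime_two⟩
  set T' : Sylow 2 ↥L := T.subtype hTL with hT'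
  have hP : normalizer ((T' : Subgroup ↥L) : Set ↥L) ≤ centralizer ((T' : Subgroup ↥L) : Set ↥L) := by
    intro n hn
    have hnN : (n : G) ∈ nrmS T := H39.mem_normalizer_of_conj_mem fun s hs =>
      mem_subgroupOf.1 ((mem_normalizer_iff.1 hn ⟨s, hTL hs⟩).1 (mem_subgroupOf.2 hs))
    exact mem_centralizer_iff.2 fun s hs =>
      Subtype.ext (mem_centralizer_iff.1 (hun n n.2 hnN) (s : G) (mem_subgroupOf.1 hs))
  obtain ⟨N, hNn, hN2, hcompl⟩ : ∃ N : Subgroup ↥L, N.Normal ∧ ¬ 2 ∣ Nat.card N ∧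
      IsComplement' N (T' : Subgroup ↥L) :=
    ⟨(MonoidHom.transferSylow T' hP).ker, MonoidHom.normal_ker _,
      MonoidHom.not_dvd_card_ker_transferSylow T' hP,
      MonoidHom.ker_transferSylow_isComplement' T' hP⟩
  set O := N.map L.subtype with hO
  have hLO : L ≤ normalizer (O : Set G) := fun g hg =>
    H39.mem_normalizer_of_conj_mem (by
      rintro _ ⟨o, ho, rfl⟩
      exact ⟨⟨g, hg⟩ * o * ⟨g, hg⟩⁻¹, hNn.conj_mem o ho _, rfl⟩)
  have hodd : Odd (Nat.card O) := by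
    rw [hO, Subgroup.card_map_of_injective L.subtype_injective, Nat.odd_iff, ← Nat.two_dvd_ne_zero]
    exact hN2
  have hOr : IsPGroup H.r O :=
    H.isPGroup_of_normalized T.isPGroup' h4.ge (hTL.trans hLO) hodd
  have hdec : ∀ g ∈ L, ∃ o ∈ O, ∃ τ ∈ (T : Subgroup G), g = o * τ := fun g hg => by
    obtain ⟨⟨o, τ⟩, he⟩ := hcompl.2 (⟨g, hg⟩ : ↥L)
    exact ⟨_, ⟨o, o.2, rfl⟩, _, mem_subgroupOf.1 τ.2, (congrArg Subtype.val he).symm⟩
  refine ⟨O, map_subtype_le _, hOr, hLO, hdec, fun g hg hgo => ?_⟩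
  obtain ⟨o, ho, τ, hτ, he⟩ := hdec g hg
  exact mem_of_decomp (hTL.trans hLO) (fun s hs => H.sq_of_isPGroup T.isPGroup' hs) ho hτ he hgo

end Hyp

/-- No core of an involution centraliser is centralised by the four-group. -/
structure FourCtx (H : Hyp G) (T : Sylow 2 G) : Prop where
  four : Nat.card (T : Subgroup G) = 4
  nA : ∀ a ∈ (T : Subgroup G), a ≠ 1 → ¬ (T : Subgroup G) ≤ centralizer (H.core a : Set G)

/-- A maximal `T`-invariant `r`-subgroup. -/
structure MaxInv (H : Hyp G) (T : Sylow 2 G) (P : Subgroup G) : Prop where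
  pgroup : IsPGroup H.r P
  norm : (T : Subgroup G) ≤ normalizer (P : Set G)
  maximal : ∀ Q : Subgroup G, IsPGroup H.r Q → (T : Subgroup G) ≤ normalizer (Q : Set G) →
    P ≤ Q → Q = P

theorem exists_maxInv {H : Hyp G} {T : Sylow 2 G} {U : Subgroup G} (hU : IsPGroup H.r U)
    (hTU : (T : Subgroup G) ≤ normalizer (U : Set G)) :
    ∃ P : Subgroup G, U ≤ P ∧ MaxInv H T P := by
  obtain ⟨P, ⟨hUP, hPp, hPn⟩, hmax⟩ := Set.Finite.exists_maximalFor id
    {P : Subgroup G | U ≤ P ∧ IsPGroup H.r P ∧ (T : Subgroup G) ≤ normalizer (P : Set G)}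
    (Set.toFinite _) ⟨U, le_rfl, hU, hTU⟩
  exact ⟨P, hUP, hPp, hPn, fun Q hQ hTQ hle =>
    le_antisymm (hmax ⟨hUP.trans hle, hQ, hTQ⟩ hle) hle⟩

/-- `Qd(r)` is not involved: there are no elements of order four. -/
theorem Hyp.not_hasSection (H : Hyp G) : ¬ Thompson.HasSection (qd H.r) G := by
  haveI := Fact.mk H.hr
  intro hsec
  obtain ⟨M, φ, hφ⟩ := Thompson.hasSection_sl2_of_qd hsec
  let w : Matrix.SpecialLinearGroup (Fin 2) (ZMod H.r) :=
    ⟨!![0, -1; 1, 0], by rw [Matrix.det_fin_two]; simp⟩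
  have hne : (-1 : ZMod H.r) ≠ 1 := by
    haveI : Fact (2 < H.r) := ⟨lt_of_le_of_ne H.hr.two_le (Ne.symm H.hr2)⟩
    exact ZMod.neg_one_ne_one
  have hw2 : ((w ^ 2 : Matrix.SpecialLinearGroup (Fin 2) (ZMod H.r)) :
      Matrix (Fin 2) (Fin 2) (ZMod H.r)) = -1 := by
    rw [pow_two, Matrix.SpecialLinearGroup.coe_mul]
    ext i j
    fin_cases i <;> fin_cases j <;> simp [w, Matrix.mul_apply, Fin.sum_univ_two]
  have hw : orderOf w = 4 := by
    have h1 : w ^ 2 ≠ 1 := fun h => by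
      rw [h, Matrix.SpecialLinearGroup.coe_one] at hw2
      exact hne ((congrFun (congrFun hw2 0) 0).symm.trans (by simp) |>.symm |>.symm)
    have h2 : w ^ 4 = 1 := Subtype.ext (by
      rw [show 4 = 2 + 2 from rfl, pow_add, Matrix.SpecialLinearGroup.coe_mul, hw2]
      simp)
    exact orderOf_eq_prime_pow (p := 2) (n := 1) (by simpa using h1) (by simpa using h2)
  obtain ⟨m, hm⟩ := hφ w
  have hd : 4 ∣ orderOf ((m : ↥M) : G) := by
    rw [Subgroup.orderOf_coe, ← hw, ← hm]; exact orderOf_map_dvd φ m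
  rcases H.heven _ ((by norm_num : 2 ∣ 4).trans hd) with e | e
  · rw [e] at hd; norm_num at hd
  · rw [e] at hd
    obtain ⟨c, hc⟩ := H.odd_r
    obtain ⟨d, hd⟩ := hd
    omega

namespace MaxInv

variable [IsSimpleGroup G] {H : Hyp G} {T : Sylow 2 G} {P : Subgroup G} (hP : MaxInv H T P)
  (X : FourCtx H T)

include hP X

theorem not_centralized : ¬ (T : Subgroup G) ≤ centralizer (P : Set G) := by
  intro hTP
  obtain ⟨t, ht, ht1⟩ := H.exists_ne_one T
  have hle : P ≤ H.core t := fun x hx => H.odd_mem_core X.four ht ht1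
    (mem_centralizer_iff.1 (hTP ht) x hx) (H.rGroup_odd hP.pgroup hx)
  have he := hP.maximal _ (H.core_isPGroup (Or.inl (H.orderOf_two_of_sylow ht ht1)))
    (H.sylow_le_normalizer_core ht) hle
  exact X.nA t ht ht1 (he ▸ hTP)

theorem not_le_nrmS : ¬ P ≤ nrmS T := by
  intro hle
  refine hP.not_centralized X fun τ hτ => mem_centralizer_iff.2 fun p hp => ?_
  have h1 : τ * (p * τ⁻¹ * p⁻¹) ∈ (T : Subgroup G) :=
    mul_mem hτ (conj_mem_sylow (hle hp) (inv_mem hτ))
  have h2 : τ * (p * τ⁻¹ * p⁻¹) ∈ P := by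
    rw [show τ * (p * τ⁻¹ * p⁻¹) = (τ * p * τ⁻¹) * p⁻¹ by group]
    exact mul_mem ((mem_normalizer_iff.1 (hP.norm hτ) p).1 hp) (inv_mem hp)
  have h3 := H39.eq_one_of_sq_of_odd (by rw [pow_two]; exact H.sq_of_isPGroup T.isPGroup' h1)
    (H.rGroup_odd hP.pgroup h2)
  rw [show τ * (p * τ⁻¹ * p⁻¹) = (τ * p * τ⁻¹) * p⁻¹ by group, mul_inv_eq_one,
    mul_inv_eq_iff_eq_mul] at h3
  exact h3.symm

/-- Absorption by a decomposed subgroup. -/
theorem decomp_eq {L : Subgroup G} (hTL : (T : Subgroup G) ≤ L) (hPL : P ≤ L)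
    (hun : ∀ n ∈ L, n ∈ nrmS T → n ∈ centralizer ((T : Subgroup G) : Set G)) :
    ∀ g ∈ L, (∃ p ∈ P, ∃ τ ∈ (T : Subgroup G), g = p * τ) ∧ (Odd (orderOf g) → g ∈ P) := by
  obtain ⟨O, -, hO, hLO, hdec, hodd⟩ := H.unfused_split X.four hTL hun
  have he : O = P := hP.maximal O hO (hTL.trans hLO) fun p hp =>
    hodd p (hPL hp) (H.rGroup_odd hP.pgroup hp)
  exact fun g hg => ⟨he ▸ hdec g hg, fun h => he ▸ hodd g hg h⟩

theorem normalizer_decomp {g : G} (hg : g ∈ normalizer (P : Set G)) :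
    (∃ p ∈ P, ∃ τ ∈ (T : Subgroup G), g = p * τ) ∧ (Odd (orderOf g) → g ∈ P) := by
  refine hP.decomp_eq X hP.norm le_normalizer (fun n hn hnT => ?_) g hg
  by_contra hn'
  exact hP.not_centralized X (H.fused_centralize X.four hP.pgroup hP.norm hnT hn' hn)

theorem sylow_maximal {Q : Subgroup G} (hQ : IsPGroup H.r Q) (hle : P ≤ Q) : Q = P := by
  haveI := Fact.mk H.hr
  by_contra hne
  obtain ⟨x, hxQ, hxP, hxN⟩ := H39.exists_mem_normalizer_not_mem hQ
    (lt_of_le_of_ne hle (Ne.symm hne))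
  exact hxP ((hP.normalizer_decomp X hxN).2 (H.rGroup_odd hQ hxQ))

theorem exists_sylow : ∃ S : Sylow H.r G, (S : Subgroup G) = P :=
  ⟨⟨P, hP.pgroup, fun hQ hle => hP.sylow_maximal X hQ hle⟩, rfl⟩

end MaxInv

end Cfsg.Agent.H76.OneMixed
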