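import Cfsg.Agent.H76.OneMixed.FourBasic

/-!
A Sylow four-group: the core of an involution centraliser is a Sylow `r`-subgroup, and conjugacy in it
is controlled by its normaliser.
-/

set_option autoImplicit false
set_option linter.style.haveILetI false
set_option linter.unusedSectionVars false

namespace Cfsg.Agent.H76.OneMixed

open Subgroup
open scoped Pointwise commutatorElement

universe u

variable {G : Type u} [Group G] [Finite G]

omit [Finite G] in
/-- Conjugation maps the commutator subgroup of an invariant subgroup to itself. -/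
theorem commutator_conj_mem {P : Subgroup G} {g x : G} (hg : ∀ a ∈ P, g * a * g⁻¹ ∈ P)
    (hx : x ∈ ⁅P, P⁆) : g * x * g⁻¹ ∈ ⁅P, P⁆ := by
  have h : ⁅P, P⁆ ≤ ⁅P, P⁆.comap (MulAut.conj g).toMonoidHom :=
    commutator_le.2 fun a ha b hb => by
      rw [mem_comap, map_commutatorElement]
      exact commutator_mem_commutator (hg a ha) (hg b hb)
  exact h hx

namespace Hyp

variable (H : Hyp G) [IsSimpleGroup G] {T : Sylow 2 G}

include H

/-- An element of an invariant `r`-group normalising the four-group centralises it. -/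
theorem mem_centralizer_of_mem_nrmS {W : Subgroup G} (hW : IsPGroup H.r W)
    (hTW : (T : Subgroup G) ≤ normalizer (W : Set G)) {x : G} (hx : x ∈ W) (hxN : x ∈ nrmS T) :
    x ∈ centralizer ((T : Subgroup G) : Set G) := by
  refine mem_centralizer_iff.2 fun τ hτ => ?_
  have h1 : τ * (x * τ⁻¹ * x⁻¹) ∈ (T : Subgroup G) :=
    mul_mem hτ (conj_mem_sylow hxN (inv_mem hτ))
  have h2 : τ * (x * τ⁻¹ * x⁻¹) ∈ W := by
    rw [show τ * (x * τ⁻¹ * x⁻¹) = (τ * x * τ⁻¹) * x⁻¹ by group]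
    exact mul_mem ((mem_normalizer_iff.1 (hTW hτ) x).1 hx) (inv_mem hx)
  have h3 := H39.eq_one_of_sq_of_odd (by rw [pow_two]; exact H.sq_of_isPGroup T.isPGroup' h1)
    (H.rGroup_odd hW h2)
  rw [show τ * (x * τ⁻¹ * x⁻¹) = (τ * x * τ⁻¹) * x⁻¹ by group, mul_inv_eq_one,
    mul_inv_eq_iff_eq_mul] at h3
  exact h3

/-- A core centralised by the four-group leads to trivial intersections. -/
theorem four_caseA (h4 : Nat.card (T : Subgroup G) = 4) (hmix : ∃ g : G, orderOf g = 2 * H.r)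
    {a : G} (ha : a ∈ (T : Subgroup G)) (ha1 : a ≠ 1)
    (hA : (T : Subgroup G) ≤ centralizer (H.core a : Set G)) : False := by
  obtain ⟨n, hn, hn'⟩ := H.exists_mover T
  have hall : ∀ b ∈ (T : Subgroup G), b ≠ 1 →
      (T : Subgroup G) ≤ centralizer (H.core b : Set G) := fun b hb hb1 => by
    obtain ⟨k, rfl⟩ := H.mover_transitive h4 hn hn' ha ha1 hb hb1
    intro s hs
    refine mem_centralizer_iff.2 fun x hx => ?_
    rw [Hyp.core, Fusion.Signalizer.centralizerPPrimeCore_conj] at hx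
    obtain ⟨c, hc, rfl⟩ := hx
    have hs' : (n ^ k)⁻¹ * s * (n ^ k) ∈ (T : Subgroup G) :=
      (mem_normalizer_iff''.1 (pow_mem hn k) s).1 hs
    have h := mem_centralizer_iff.1 (hA hs') c hc
    simp only [MulEquiv.coe_toMonoidHom, MulAut.conj_apply]
    calc n ^ k * c * (n ^ k)⁻¹ * s
        = n ^ k * (c * ((n ^ k)⁻¹ * s * (n ^ k))) * (n ^ k)⁻¹ := by group
      _ = n ^ k * (((n ^ k)⁻¹ * s * (n ^ k)) * c) * (n ^ k)⁻¹ := by rw [h]
      _ = s * (n ^ k * c * (n ^ k)⁻¹) := by group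
  have hC : ∀ b ∈ (T : Subgroup G), b ≠ 1 → centralizer ({b} : Set G) ≤ nrmS T := by
    intro b hb hb1 g hg
    obtain ⟨o, ho, τ, hτ, rfl⟩ := H.centralizer_decomp h4 hb hb1 hg
    exact mul_mem (centralizer_le_normalizer (s := ((T : Subgroup G) : Set G))
      (mem_centralizer_iff.2 fun s hs => (mem_centralizer_iff.1 (hall b hb hb1 hs) o ho).symm))
      (le_normalizer hτ)
  exact SEData.false ⟨H.ti_of_centralizer_le T hC, hmix⟩

end Hyp

namespace MaxInv

variable [IsSimpleGroup G] {H : Hyp G} {T : Sylow 2 G} {P : Subgroup G} (hP : MaxInv H T P)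
  (X : FourCtx H T)

include hP X

/-- The normaliser of `Z(J(P))` is `P T`. -/
theorem zjay_decomp {g : G} (hg : g ∈ normalizer (Thompson.zjay 0 P : Set G)) :
    ∃ p ∈ P, ∃ τ ∈ (T : Subgroup G), g = p * τ := by
  haveI := Fact.mk H.hr
  have hPN : normalizer (P : Set G) ≤ normalizer (Thompson.zjay 0 P : Set G) :=
    (Thompson.zjayW_isPFunctor (p := H.r) (e := 0) (.inl rfl)).normalizer_le hP.pgroup
  refine (hP.decomp_eq X (hP.norm.trans hPN) (le_normalizer.trans hPN) (fun n hn hnT => ?_) g hg).1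
  by_contra hn'
  set Z := Thompson.zjay 0 P with hZ
  have hZp : IsPGroup H.r Z := hP.pgroup.to_le Thompson.zjay_le
  have hTZ : (T : Subgroup G) ≤ centralizer (Z : Set G) :=
    H.fused_centralize X.four hZp (hP.norm.trans hPN) hnT hn' hn
  haveI : Nontrivial P := P.nontrivial_iff_ne_bot.2 fun h => hP.not_centralized X fun τ _ =>
    mem_centralizer_iff.2 fun w hw => by
      rw [SetLike.mem_coe, h, mem_bot] at hw
      simp [hw]
  haveI := hP.pgroup.center_nontrivial
  obtain ⟨⟨z, hz⟩, hz1⟩ := exists_ne (1 : Subgroup.center P)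
  have hzc : ∀ w ∈ P, w * (z : G) = (z : G) * w := fun w hw =>
    congrArg Subtype.val (mem_center_iff.1 hz ⟨w, hw⟩)
  have hzZ : (z : G) ∈ Z := by
    rw [hZ, Thompson.zjay_eq_inf_centralizer]
    exact ⟨z.2, mem_centralizer_iff.2 fun w hw => hzc w (Thompson.jay_le hw)⟩
  have hzr : orderOf (z : G) = H.r := H.orderOf_of_mem hP.pgroup z.2 fun h =>
    hz1 (Subtype.ext (Subtype.ext h))
  set L := centralizer ({(z : G)} : Set G) with hL
  have hTL : (T : Subgroup G) ≤ L := fun s hs =>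
    mem_centralizer_singleton_iff.2 (mem_centralizer_iff.1 (hTZ hs) _ hzZ).symm
  have hPL : P ≤ L := fun w hw => mem_centralizer_singleton_iff.2 (hzc w hw)
  by_cases hmv : ∀ m ∈ L, m ∈ nrmS T → m ∈ centralizer ((T : Subgroup G) : Set G)
  swap
  · push Not at hmv
    obtain ⟨m, hmL, hmT, hm'⟩ := hmv
    exact hP.not_le_nrmS X (hPL.trans (H.fused_centralizer_le X.four hzr hTL hmT hm' hmL))
  have hL' := hP.decomp_eq X hTL hPL hmv
  have hCL : centralizer (Z : Set G) ≤ L := centralizer_le (Set.singleton_subset_iff.2 hzZ)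
  have hconj : ∀ y ∈ normalizer (Z : Set G), ∀ x ∈ centralizer (Z : Set G),
      y * x * y⁻¹ ∈ centralizer (Z : Set G) := fun y hy x hx => mem_centralizer_iff.2 fun w hw => by
    have h := mem_centralizer_iff.1 hx _ ((mem_normalizer_iff''.1 hy w).1 hw)
    calc w * (y * x * y⁻¹) = y * (y⁻¹ * w * y * x) * y⁻¹ := by group
      _ = y * (x * (y⁻¹ * w * y)) * y⁻¹ := by rw [h]
      _ = y * x * y⁻¹ * w := by group
  set X0 := P ⊓ centralizer (Z : Set G) with hX0
  have hX0n : ∀ y ∈ normalizer (Z : Set G), y ∈ normalizer (X0 : Set G) := fun y hy =>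
    H39.mem_normalizer_of_conj_mem fun x hx => by
      have h := hconj y hy x hx.2
      exact ⟨(hL' _ (hCL h)).2 (by rw [← MulAut.conj_apply, MulEquiv.orderOf_eq]
                                   exact H.rGroup_odd hP.pgroup hx.1), h⟩
  have hTX : (T : Subgroup G) ≤ centralizer (X0 : Set G) :=
    H.fused_centralize X.four (hP.pgroup.to_le inf_le_left)
      (fun s hs => hX0n s (hPN (hP.norm hs))) hnT hn' (hX0n n hn)
  refine hP.not_le_nrmS X fun p hp => H39.mem_normalizer_of_conj_mem fun τ hτ => ?_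
  have hu : p * τ * p⁻¹ ∈ centralizer (Z : Set G) := hconj p (hPN (le_normalizer hp)) τ (hTZ hτ)
  obtain ⟨q, hq, τ', hτ', he⟩ := (hL' _ (hCL hu)).1
  have hqX : q ∈ X0 := mem_inf.2 ⟨hq, by
    rw [show q = p * τ * p⁻¹ * τ'⁻¹ by rw [he]; group]
    exact mul_mem hu (inv_mem (hTZ hτ'))⟩
  have hc : Commute q τ' := mem_centralizer_iff.1 (hTX hτ') q hqX
  have h2 : q ^ 2 = 1 := by
    have h : (q * τ') ^ 2 = 1 := by
      rw [← he, conj_pow, pow_two, H.sq_of_isPGroup T.isPGroup' hτ, mul_one, mul_inv_cancel]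
    rwa [hc.mul_pow, pow_two τ', H.sq_of_isPGroup T.isPGroup' hτ', mul_one] at h
  rw [H39.eq_one_of_sq_of_odd h2 (H.rGroup_odd hP.pgroup hq), one_mul] at he
  rw [he]; exact hτ'

/-- The normaliser `P T` of `P` controls conjugation in `P`. -/
theorem control {A : Set G} (hA : A ⊆ (P : Set G)) {g : G} (hA' : ∀ a ∈ A, g * a * g⁻¹ ∈ P) :
    ∃ p ∈ P, ∃ τ ∈ (T : Subgroup G), ∀ a ∈ A, g * a * g⁻¹ = p * τ * a * (p * τ)⁻¹ := by
  haveI := Fact.mk H.hr
  obtain ⟨S, hS⟩ := hP.exists_sylow X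
  obtain ⟨n, hn, hna⟩ := Thompson.strongFusion_zjay H.hr2 (.inl rfl : (0 : ℕ) = 0 ∨ (0 : ℕ) = H.r) G
    H.not_hasSection S A g (hS.symm ▸ hA) (by
      rintro _ ⟨a, ha, rfl⟩
      rw [SetLike.mem_coe, hS]; exact hA' a ha)
  change n ∈ normalizer (Thompson.zjay 0 (S : Subgroup G) : Set G) at hn
  rw [hS] at hn
  obtain ⟨p, hp, τ, hτ, rfl⟩ := hP.zjay_decomp X hn
  exact ⟨p, hp, τ, hτ, fun a ha => (hna a ha).symm⟩

/-- A maximal invariant `r`-subgroup containing a core is that core. -/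
theorem eq_core {t : G} (ht : t ∈ (T : Subgroup G)) (ht1 : t ≠ 1) (hle : H.core t ≤ P) :
    H.core t = P := by
  haveI := Fact.mk H.hr
  haveI : Fact (Nat.Prime 2) := ⟨Nat.prime_two⟩
  obtain ⟨g, hg, hg'⟩ := H.exists_mover T
  haveI : IsMulCommutative (T : Subgroup G) :=
    ⟨⟨fun a b => Subtype.ext (H.comm_of_isPGroup T.isPGroup' a.2 b.2).eq⟩⟩
  have hcop : (Nat.card (T : Subgroup G)).Coprime (Nat.card P) := by
    obtain ⟨k, hk⟩ := IsPGroup.iff_card.1 hP.pgroup
    rw [X.four, hk, show (4 : ℕ) = 2 ^ 2 by norm_num]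
    exact Nat.Coprime.pow _ _ ((Nat.coprime_primes Nat.prime_two H.hr).2 (Ne.symm H.hr2))
  have hTconj : ∀ τ ∈ (T : Subgroup G), ∀ a ∈ P, τ * a * τ⁻¹ ∈ P := fun τ hτ a ha =>
    (mem_normalizer_iff.1 (hP.norm hτ) a).1 ha
  set M := ⁅P, P⁆ ⊔ H.core t with hM
  have hD : ⁅P, P⁆ ≤ P := commutator_le_self P
  have hDP : P ≤ normalizer ((⁅P, P⁆ : Subgroup G) : Set G) := fun y hy => H39.mem_normalizer_of_conj_mem
    fun _ => commutator_conj_mem fun a ha => mul_mem (mul_mem hy ha) (inv_mem hy)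
  have hDT : (T : Subgroup G) ≤ normalizer ((⁅P, P⁆ : Subgroup G) : Set G) := fun y hy =>
    H39.mem_normalizer_of_conj_mem fun _ => commutator_conj_mem (hTconj y hy)
  have hcent : ∀ a ∈ (T : Subgroup G), a ≠ 1 → P ⊓ centralizer {a} ≤ M := by
    rintro s hs hs1 x ⟨hxP, hxs⟩
    have hxs : Commute x s := mem_centralizer_singleton_iff.1 hxs
    have hxo := H.rGroup_odd hP.pgroup hxP
    rcases eq_or_ne s t with rfl | hst
    · exact mem_sup_right (H.odd_mem_core X.four ht ht1 hxs hxo)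
    obtain ⟨k, hk⟩ := H.mover_transitive X.four hg hg' hs hs1 ht ht1
    set h := g ^ k
    have hx' : h * x * h⁻¹ ∈ H.core t := by
      refine H.odd_mem_core X.four ht ht1 ?_ (by rwa [← MulAut.conj_apply, MulEquiv.orderOf_eq])
      rw [← hk]; exact Commute.conj_iff h |>.2 hxs
    obtain ⟨p, hp, τ, hτ, he⟩ := hP.control X (A := {x}) (Set.singleton_subset_iff.2 hxP)
      (g := h) (fun a ha => by obtain rfl : a = x := ha; exact hle hx')
    have he := he x rfl
    set x' := h * x * h⁻¹ with hx'def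
    have hcx : Commute t x' :=
      (mem_centralizer_singleton_iff.1 (H.core_le t hx') : Commute x' t).symm
    set d := τ * x * τ⁻¹ with hd
    have hde : d = p⁻¹ * x' * p := by rw [hd, he]; group
    set p' := t * p * t⁻¹ with hp'
    have hp'P : p' ∈ P := hTconj t ht p hp
    have hx'P : x' ∈ P := hle hx'
    have htd : t * d * t⁻¹ * d⁻¹ ∈ ⁅P, P⁆ := by
      have h1 : t * d * t⁻¹ = p'⁻¹ * (t * x' * t⁻¹) * p' := by rw [hde, hp']; group
      rw [h1, show t * x' * t⁻¹ = x' by rw [hcx.eq, mul_inv_cancel_right], hde,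
        show p'⁻¹ * x' * p' * (p⁻¹ * x' * p)⁻¹ = ⁅p'⁻¹, x'⁆ * ⁅x', p⁻¹⁆ by
          rw [commutatorElement_def, commutatorElement_def]; group]
      exact mul_mem (commutator_mem_commutator (inv_mem hp'P) hx'P)
        (commutator_mem_commutator hx'P (inv_mem hp))
    have htx : t * x * t⁻¹ * x⁻¹ ∈ ⁅P, P⁆ := by
      have h1 := (mem_normalizer_iff''.1 (hDT hτ) _).1 htd
      have hc : Commute τ t := H.comm_of_isPGroup T.isPGroup' hτ ht
      rw [hd] at h1
      convert h1 using 1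
      calc t * x * t⁻¹ * x⁻¹ = τ⁻¹ * ((τ * t) * x * (τ * t)⁻¹ * (τ * x * τ⁻¹)⁻¹) * τ := by group
        _ = τ⁻¹ * ((t * τ) * x * (t * τ)⁻¹ * (τ * x * τ⁻¹)⁻¹) * τ := by rw [hc.eq]
        _ = τ⁻¹ * (t * (τ * x * τ⁻¹) * t⁻¹ * (τ * x * τ⁻¹)⁻¹) * τ := by group
    have hfix : ∀ a ∈ (T : Subgroup G), a * x * a⁻¹ * x⁻¹ ∈ ⁅P, P⁆ := by
      have hst1 : s * t ≠ 1 := fun h => hst
        ((inv_eq_of_mul_eq_one_left h).symm.trans (H.inv_eq_self_of_mem T.isPGroup' ht))
      intro a ha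
      rcases H.four_cover X.four hs hs1 ht ht1 (mul_mem hs ht) hst1 hst
        (fun h => ht1 (mul_eq_left.1 h.symm)) (fun h => hs1 (mul_eq_right.1 h.symm)) ha with
        rfl | rfl | rfl | rfl
      · simp
      · rw [← hxs.eq, mul_inv_cancel_right, mul_inv_cancel]; exact one_mem _
      · exact htx
      · have h1 := (mem_normalizer_iff.1 (hDT hs) _).1 htx
        convert h1 using 1
        calc s * t * x * (s * t)⁻¹ * x⁻¹ = s * (t * x * t⁻¹) * s⁻¹ * x⁻¹ := by group
          _ = s * (t * x * t⁻¹) * s⁻¹ * (s * x⁻¹ * s⁻¹) := by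
              rw [← hxs.inv_left.eq, mul_inv_cancel_right]
          _ = s * (t * x * t⁻¹ * x⁻¹) * s⁻¹ := by group
    obtain ⟨c, ⟨hcP, hcT⟩, hxc⟩ := Coprime.exists_centralizer_mem_of_comm_mem hP.norm hcop
      (Or.inl (Group.isSolvable_of_comm fun a b => mul_comm' a b)) hD hDP hDT hxP hfix
    have hct : c ∈ H.core t := H.odd_mem_core X.four ht ht1
      (mem_centralizer_iff.1 hcT t ht : Commute t c).symm (H.rGroup_odd hP.pgroup hcP)
    rw [show x = c * (x⁻¹ * c)⁻¹ by group]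
    exact mul_mem (mem_sup_right hct) (mem_sup_left (inv_mem hxc))
  have hPM : P ≤ M := Coprime.le_of_centralizer_noncyclic_le
    (H.not_isCyclic_of_four T.isPGroup' X.four.ge) hP.norm hcop hcent
  refine le_antisymm hle ?_
  have htop : (H.core t).subgroupOf P = ⊤ := frattini_nongenerating <| by
    refine Subgroup.map_injective P.subtype_injective ?_
    rw [Subgroup.map_sup, map_subgroupOf_eq_of_le hle, ← MonoidHom.range_eq_map, range_subtype]
    refine le_antisymm (sup_le hle (map_subtype_le _)) (hPM.trans (sup_le ?_ le_sup_left))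
    refine le_sup_of_le_right ?_
    refine le_trans (le_of_eq ?_) (Subgroup.map_mono (PGroups.commutator_le_frattini hP.pgroup))
    rw [_root_.commutator_def, Subgroup.map_commutator, ← MonoidHom.range_eq_map, range_subtype]
  exact subgroupOf_eq_top.1 htop

end MaxInv

namespace FourCtx

variable [IsSimpleGroup G] {H : Hyp G} {T : Sylow 2 G} (X : FourCtx H T)

include X

/-- The core of an involution centraliser is a maximal invariant `r`-subgroup. -/
theorem maxInv_core {t : G} (ht : t ∈ (T : Subgroup G)) (ht1 : t ≠ 1) :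
    MaxInv H T (H.core t) := by
  obtain ⟨P, hle, hP⟩ := exists_maxInv (H.core_isPGroup (Or.inl (H.orderOf_two_of_sylow ht ht1)))
    (H.sylow_le_normalizer_core ht)
  rw [hP.eq_core X ht ht1 hle]; exact hP

/-- Every invariant `r`-group lies in some core. -/
theorem le_some_core {Q : Subgroup G} (hQ : IsPGroup H.r Q)
    (hTQ : (T : Subgroup G) ≤ normalizer (Q : Set G)) :
    ∃ a ∈ (T : Subgroup G), a ≠ 1 ∧ Q ≤ H.core a := by
  haveI := Fact.mk H.hr
  obtain ⟨P, hQP, hP⟩ := exists_maxInv hQ hTQ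
  obtain ⟨t, ht, ht1⟩ := H.exists_ne_one T
  obtain ⟨S, hS⟩ := (X.maxInv_core ht ht1).exists_sylow X
  obtain ⟨S', hS'⟩ := hP.exists_sylow X
  obtain ⟨h, hh⟩ := MulAction.exists_smul_eq G S S'
  have hiff : ∀ p, p ∈ P ↔ h⁻¹ * p * h ∈ H.core t := fun p => by
    rw [← hS', ← hh, Sylow.coe_subgroup_smul, mem_pointwise_smul_iff_inv_smul_mem, hS]
    simp [MulAut.smul_def]
  have hcomm : ∀ p ∈ P, Commute p (h * t * h⁻¹) := fun p hp => by
    have hc : Commute (h⁻¹ * p * h) t :=
      mem_centralizer_singleton_iff.1 (H.core_le t ((hiff p).1 hp))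
    have := (Commute.conj_iff h).2 hc
    simpa [mul_assoc] using this
  set t' := h * t * h⁻¹ with ht'
  have ho : orderOf t' = 2 := by
    rw [ht', ← MulAut.conj_apply, MulEquiv.orderOf_eq, H.orderOf_two_of_sylow ht ht1]
  have hN : t' ∈ normalizer (P : Set G) := H39.mem_normalizer_of_conj_mem fun p hp => by
    rwa [← (hcomm p hp).eq, mul_inv_cancel_right]
  obtain ⟨q, hq, τ, hτ, he⟩ := (hP.normalizer_decomp X hN).1
  have hc : Commute q τ := by
    have h1 : Commute q t' := hcomm q hq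
    rw [show τ = q⁻¹ * t' by rw [he]; group]
    exact (Commute.refl q).inv_right.mul_right h1
  have h2 : q ^ 2 = 1 := by
    have h := pow_orderOf_eq_one t'
    rw [ho, he, hc.mul_pow, pow_two τ, H.sq_of_isPGroup T.isPGroup' hτ, mul_one] at h
    exact h
  rw [H39.eq_one_of_sq_of_odd h2 (H.rGroup_odd hP.pgroup hq), one_mul] at he
  have hτ1 : τ ≠ 1 := fun h => by rw [he, h, orderOf_one] at ho; omega
  exact ⟨τ, hτ, hτ1, hQP.trans fun p hp =>
    H.odd_mem_core X.four hτ hτ1 (he ▸ hcomm p hp) (H.rGroup_odd hP.pgroup hp)⟩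

end FourCtx

end Cfsg.Agent.H76.OneMixed
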