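import Cfsg.Agent.H76.OneMixed.Local
import Cfsg.Agent.S0217
import Cfsg.Agent.Fusion.Basic
import Cfsg.Agent.Fusion.SignalizerTrivial
import Cfsg.Agent.H47.Delta

/-!
A Sylow 2-subgroup of order at least eight forces trivial intersections.
-/

set_option autoImplicit false
set_option linter.style.haveILetI false
set_option linter.unusedSectionVars false

namespace Cfsg.Agent.H76.OneMixed

open Subgroup
open scoped Pointwise

universe u

variable {G : Type u} [Group G] [Finite G] [IsSimpleGroup G]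

namespace Hyp

variable (H : Hyp G)

include H

theorem centralizer_le_nrmS_of_large (T : Sylow 2 G) (h8 : 8 ≤ Nat.card (T : Subgroup G)) :
    ∀ a ∈ (T : Subgroup G), a ≠ 1 → centralizer ({a} : Set G) ≤ nrmS T := by
  classical
  haveI : Fact (Nat.Prime 2) := ⟨Nat.prime_two⟩
  have hTcomm := H.centralizer_sylow_le_of_comm T
  have hord : ∀ a ∈ (T : Subgroup G), a ≠ 1 → orderOf a = 2 := fun a ha ha1 =>
    H.orderOf_two_of_sylow ha ha1
  have hTC : ∀ a ∈ (T : Subgroup G), (T : Subgroup G) ≤ centralizer ({a} : Set G) := fun a ha s hs =>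
    mem_centralizer_singleton_iff.2 (H.comm_of_isPGroup T.isPGroup' hs ha).eq
  obtain ⟨hodd, hfix⟩ := S0217.result (p := 2) (T : Subgroup G)
    (fun a ha b hb => (H.comm_of_isPGroup T.isPGroup' ha hb).eq)
    (fun a ha => by rw [pow_two]; exact H.sq_of_isPGroup T.isPGroup' ha)
    (by norm_num; exact h8) (fun a => H.core a) (fun a _ _ => H.core_le a)
    (fun a _ _ => Nat.two_dvd_ne_zero.2 (Nat.odd_iff.1 (H.core_odd a)))
    (fun a ha _ b hb x hx => H.core_conj (hTC a ha hb) hx)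
    (fun a ha ha1 => H.isSolvable_of_rGroup (H.core_isPGroup (Or.inl (hord a ha ha1))))
    (fun a ha ha1 b hb hb1 => H.balance (hord a ha ha1) (hord b hb hb1)
      (H.comm_of_isPGroup T.isPGroup' ha hb))
  set W := ⨆ a : {a : G // a ∈ (T : Subgroup G) ∧ a ≠ 1}, H.core a with hW
  have hWodd : Odd (Nat.card W) := Nat.odd_iff.2 (Nat.two_dvd_ne_zero.1 hodd)
  have hcore_le : ∀ a ∈ (T : Subgroup G), a ≠ 1 → H.core a ≤ W := fun a ha ha1 =>
    le_iSup (fun a : {a : G // a ∈ (T : Subgroup G) ∧ a ≠ 1} => H.core a) ⟨a, ha, ha1⟩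
  have hTW : (T : Subgroup G) ≤ normalizer (W : Set G) :=
    H47.normalizer_iSup fun a s hs =>
      H39.mem_normalizer_of_conj_mem fun d hd => H.core_conj (hTC a a.2.1 hs) hd
  have hWr : IsPGroup H.r W :=
    H.isPGroup_of_normalized T.isPGroup' (le_trans (by norm_num) h8) hTW hWodd
  have hNW : nrmS T ≤ normalizer (W : Set G) := by
    intro n hn
    refine H39.mem_normalizer_of_conj_mem fun w hw => ?_
    have hle : W ≤ W.comap (MulAut.conj n).toMonoidHom := by
      refine iSup_le fun a d hd => ?_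
      have ha' : n * (a : G) * n⁻¹ ∈ (T : Subgroup G) := conj_mem_sylow hn a.2.1
      have h1 : n * (a : G) * n⁻¹ ≠ 1 := fun h => a.2.2 (conj_eq_one_iff.1 h)
      refine hcore_le _ ha' h1 ?_
      show n * d * n⁻¹ ∈ _
      rw [Hyp.core, Fusion.Signalizer.centralizerPPrimeCore_conj]
      exact ⟨d, hd, rfl⟩
    exact hle hw
  set M := W ⊔ nrmS T with hM
  have hCM : ∀ a ∈ (T : Subgroup G), a ≠ 1 → centralizer ({a} : Set G) ≤ M := by
    intro a ha ha1 g hg
    obtain ⟨o, ho, n, -, hn, rfl⟩ := H.exists_factor (Or.inl (hord a ha ha1)) (hTC a ha)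
      T.isPGroup' (fun Q hQ _ hle => T.is_maximal' hQ hle) hg
    exact mul_mem (mem_sup_left (hcore_le a ha ha1 ho)) (mem_sup_right hn)
  have hMN : M ≤ normalizer (W : Set G) := sup_le le_normalizer hNW
  have hMne : M ≠ ⊤ := by
    intro h
    rcases (normalizer_eq_top_iff.1 (top_le_iff.1 (h ▸ hMN))).eq_bot_or_eq_top with e | e
    · rw [hM, e, bot_sup_eq] at h
      exact H.nrmS_ne_top T h
    · haveI := H.isSolvable_of_rGroup hWr
      haveI : Group.IsSolvable G :=
        Group.isSolvable_of_surjective (f := W.subtype) fun g => ⟨⟨g, e ▸ mem_top g⟩, rfl⟩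
      exact H.hna ⟨⟨fun a b => IsSimpleGroup.comm_iff_isSolvable.mpr inferInstance a b⟩⟩
  have hTM : (T : Subgroup G) ≤ M := le_trans le_normalizer le_sup_right
  obtain ⟨t₀, ht₀, ht₀1⟩ := H.exists_ne_one T
  have hMeven : Even (Nat.card M) := by
    rw [even_iff_two_dvd, ← hord t₀ ht₀ ht₀1]; exact orderOf_dvd_natCard _ (hTM ht₀)
  have hinv : ∀ a ∈ M, orderOf a = 2 → ∃ m ∈ M, m * a * m⁻¹ ∈ (T : Subgroup G) := by
    intro a ha ha2
    obtain ⟨m, hm, hmem⟩ := H39.exists_conj_mem_le_sylow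
      (IsPGroup.of_card (n := 1) (G := ↥(zpowers a)) (by rw [Nat.card_zpowers, ha2, pow_one]))
      (zpowers_le.2 ha) T hTM
    exact ⟨m, hm, hmem a (mem_zpowers a)⟩
  have hSE : Cfsg.IsStronglyEmbedded M := by
    refine (H26.isStronglyEmbedded_iff_involution M hMne hMeven).2 fun a ha ha2 g hg => ?_
    obtain ⟨m, hm, hma⟩ := hinv a ha ha2
    obtain ⟨m', hm', hma'⟩ := hinv _ hg (by rw [H39.orderOf_conj, ha2])
    set b := m * a * m⁻¹ with hb
    set k := m' * g * m⁻¹ with hk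
    have hkb : k * b * k⁻¹ = m' * (g * a * g⁻¹) * m'⁻¹ := by rw [hk, hb]; group
    obtain ⟨n, hn, hne⟩ := Fusion.burnside_fusion_centralizer T (x := b) (g := k)
      (hTcomm hma) (hkb ▸ hTcomm hma')
    have hb1 : b ≠ 1 := fun h => by
      rw [conj_eq_one_iff] at h; rw [h, orderOf_one] at ha2; omega
    have hc : n⁻¹ * k ∈ M := by
      refine hCM b hma hb1 (mem_centralizer_singleton_iff.2 (mul_inv_eq_iff_eq_mul.1 ?_))
      rw [show n⁻¹ * k * b * (n⁻¹ * k)⁻¹ = n⁻¹ * (k * b * k⁻¹) * n by group, ← hne]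
      group
    have hkM : k ∈ M := by simpa using mul_mem (mem_sup_right (S := W) hn : n ∈ M) hc
    have := mul_mem (mul_mem (inv_mem hm') hkM) hm
    rwa [show m'⁻¹ * k * m = g by rw [hk]; group] at this
  -- transitivity of the normaliser
  have htr : ∀ s ∈ (T : Subgroup G), s ≠ 1 → ∀ t ∈ (T : Subgroup G), t ≠ 1 →
      ∃ n ∈ nrmS T, n * s * n⁻¹ = t := by
    intro s hs hs1 t ht ht1
    obtain ⟨u, hu⟩ := not_forall.1 fun h' => hMne ((eq_top_iff' _).2 h')
    obtain ⟨d, hd, hde⟩ := H39.se_transitive hSE hu (hord s hs hs1) (hTM hs) (hord t ht ht1) (hTM ht)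
    have hd' := (mem_inf.1 hd).1
    rw [hM, ← SetLike.mem_coe, coe_mul_of_right_le_normalizer_left _ _ hNW] at hd'
    obtain ⟨w, hw, n, hn, rfl⟩ := hd'
    refine ⟨n, hn, ?_⟩
    set t' := n * s * n⁻¹ with ht'
    have ht'T : t' ∈ (T : Subgroup G) := conj_mem_sylow hn hs
    have hwt : w * t' * w⁻¹ = t := by rw [← hde, ht']; group
    have h1 : t * t'⁻¹ ∈ W := by
      rw [← hwt, show w * t' * w⁻¹ * t'⁻¹ = w * (t' * w⁻¹ * t'⁻¹) by group]
      exact mul_mem hw ((mem_normalizer_iff.1 (hTW ht'T) _).1 (inv_mem hw))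
    have h2 : t * t'⁻¹ ∈ (T : Subgroup G) := mul_mem ht (inv_mem ht'T)
    have h3 := H39.eq_one_of_sq_of_odd (by rw [pow_two]; exact H.sq_of_isPGroup T.isPGroup' h2)
      (hWodd.of_dvd_nat (orderOf_dvd_natCard W h1))
    exact (mul_inv_eq_one.1 h3).symm
  have hTcW := H.le_centralizer_of_transitive T.isPGroup' (le_trans (by norm_num) h8) hWr hTW
    (N₀ := nrmS T) (le_inf le_rfl hNW) htr
  have hWN : W ≤ nrmS T := fun w hw =>
    centralizer_le_normalizer (s := ((T : Subgroup G) : Set G))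
      (mem_centralizer_iff.2 fun s hs => (mem_centralizer_iff.1 (hTcW hs) w hw).symm)
  exact fun a ha ha1 => (hCM a ha ha1).trans (sup_le hWN le_rfl)

end Hyp

end Cfsg.Agent.H76.OneMixed
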