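import Cfsg.Agent.H76.OneMixed.FourControl
import Cfsg.Agent.H76.OneMixed.Large
import Cfsg.Agent.S0508

/-!
A Sylow four-group: the involution centralisers are dihedral, and `G` is `PSL₂(q)`, `q` odd.
-/

set_option autoImplicit false
set_option linter.style.haveILetI false
set_option linter.unusedSectionVars false

namespace Cfsg.Agent.H76.OneMixed

open Subgroup
open scoped Pointwise

universe u

variable {G : Type u} [Group G] [Finite G]

namespace FourCtx

variable [IsSimpleGroup G] {H : Hyp G} {T : Sylow 2 G} (X : FourCtx H T)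

include X

omit X in
theorem centralizer_le_of_decomp (H' : Hyp G) {t x : G} {P : Subgroup G} (ht : t ∈ (T : Subgroup G))
    (hP : P ≤ centralizer ({t} : Set G))
    (h : ∀ g ∈ centralizer ({x} : Set G), ∃ p ∈ P, ∃ τ ∈ (T : Subgroup G), g = p * τ) :
    centralizer ({x} : Set G) ≤ centralizer ({t} : Set G) := by
  intro g hg
  obtain ⟨p, hp, τ, hτ, rfl⟩ := h g hg
  exact mul_mem (hP hp) (H'.sylow_le_centralizer ht hτ)

/-- A mover cannot send a central fixed element of the core into its own centraliser. -/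
theorem central_fixed_eq_one {t z : G} (ht : t ∈ (T : Subgroup G)) (ht1 : t ≠ 1)
    (hz : z ∈ H.core t) (hzc : ∀ y ∈ H.core t, y * z = z * y)
    (hzT : z ∈ centralizer ((T : Subgroup G) : Set G)) : z = 1 := by
  by_contra hz1
  have hP := X.maxInv_core ht ht1
  have hzr : orderOf z = H.r := H.orderOf_of_mem hP.pgroup hz hz1
  have hTL : (T : Subgroup G) ≤ centralizer ({z} : Set G) := fun s hs =>
    mem_centralizer_singleton_iff.2 (mem_centralizer_iff.1 hzT s hs)
  have hPL : H.core t ≤ centralizer ({z} : Set G) := fun y hy =>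
    mem_centralizer_singleton_iff.2 (hzc y hy)
  by_cases hmv : ∀ m ∈ centralizer ({z} : Set G), m ∈ nrmS T →
      m ∈ centralizer ((T : Subgroup G) : Set G)
  swap
  · push Not at hmv
    obtain ⟨m, hmL, hmT, hm'⟩ := hmv
    exact hP.not_le_nrmS X (hPL.trans (H.fused_centralizer_le X.four hzr hTL hmT hm' hmL))
  have hLt : centralizer ({z} : Set G) ≤ centralizer ({t} : Set G) :=
    centralizer_le_of_decomp H ht (H.core_le t) fun g hg => (hP.decomp_eq X hTL hPL hmv g hg).1
  obtain ⟨g, hg, hg'⟩ := H.exists_mover T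
  have hgz : g * z * g⁻¹ ∈ H.core t := by
    refine H.odd_mem_core X.four ht ht1 ?_
      (by rw [← MulAut.conj_apply, MulEquiv.orderOf_eq]; exact H.rGroup_odd hP.pgroup hz)
    have h : Commute z (g⁻¹ * t * g) :=
      (mem_centralizer_iff.1 hzT _ ((mem_normalizer_iff''.1 hg t).1 ht) : Commute _ z).symm
    simpa [mul_assoc] using (Commute.conj_iff g).2 h
  obtain ⟨p, hp, τ, hτ, he⟩ := hP.control X (A := {z}) (Set.singleton_subset_iff.2 hz)
    (fun a ha => by obtain rfl : a = z := ha; exact hgz)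
  have hpt : p * τ ∈ centralizer ({z} : Set G) := mul_mem (hPL hp) (hTL hτ)
  have h1 : g * z * g⁻¹ = z :=
    (he z rfl).trans (mul_inv_eq_iff_eq_mul.2 (mem_centralizer_singleton_iff.1 hpt))
  have h2 : g ∈ centralizer ({z} : Set G) :=
    mem_centralizer_singleton_iff.2 (mul_inv_eq_iff_eq_mul.1 h1)
  exact H.mover_ne X.four hg hg' ht ht1
    (mul_inv_eq_iff_eq_mul.2 (mem_centralizer_singleton_iff.1 (hLt h2)))

/-- The four-group acts without fixed points on the core. -/
theorem core_fixed_eq_one {t c : G} (ht : t ∈ (T : Subgroup G)) (ht1 : t ≠ 1)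
    (hc : c ∈ H.core t) (hcT : c ∈ centralizer ((T : Subgroup G) : Set G)) : c = 1 := by
  haveI := Fact.mk H.hr
  by_contra hc1
  have hP := X.maxInv_core ht ht1
  haveI : Nontrivial (H.core t) := ⟨⟨⟨c, hc⟩, 1, fun h => hc1 (congrArg Subtype.val h)⟩⟩
  haveI := hP.pgroup.center_nontrivial
  obtain ⟨⟨⟨z, hzP⟩, hz⟩, hz1⟩ := exists_ne (1 : Subgroup.center (H.core t))
  have hzc : ∀ y ∈ H.core t, y * z = z * y := fun y hy =>
    congrArg Subtype.val (mem_center_iff.1 hz ⟨y, hy⟩)
  have hzne : z ≠ 1 := fun h => hz1 (Subtype.ext (Subtype.ext h))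
  have hzT : z ∉ centralizer ((T : Subgroup G) : Set G) := fun h =>
    hzne (X.central_fixed_eq_one ht ht1 hzP hzc h)
  have hcr : orderOf c = H.r := H.orderOf_of_mem hP.pgroup hc hc1
  have hTL : (T : Subgroup G) ≤ centralizer ({c} : Set G) := fun s hs =>
    mem_centralizer_singleton_iff.2 (mem_centralizer_iff.1 hcT s hs)
  have hzL : z ∈ centralizer ({c} : Set G) := mem_centralizer_singleton_iff.2 (hzc c hc).symm
  by_cases hmv : ∀ m ∈ centralizer ({c} : Set G), m ∈ nrmS T →
      m ∈ centralizer ((T : Subgroup G) : Set G)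
  swap
  · push Not at hmv
    obtain ⟨m, hmL, hmT, hm'⟩ := hmv
    exact hzT (H.mem_centralizer_of_mem_nrmS hP.pgroup hP.norm hzP
      (H.fused_centralizer_le X.four hcr hTL hmT hm' hmL hzL))
  obtain ⟨O, -, hOr, hLO, hdec, hodd⟩ := H.unfused_split X.four hTL hmv
  obtain ⟨a, ha, ha1, hOa⟩ := X.le_some_core hOr (hTL.trans hLO)
  have hzO : z ∈ O := hodd z hzL (H.rGroup_odd hP.pgroup hzP)
  have hzt : Commute z t := mem_centralizer_singleton_iff.1 (H.core_le t hzP)
  rcases eq_or_ne a t with rfl | hat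
  swap
  · have hza : Commute z a := mem_centralizer_singleton_iff.1 (H.core_le a (hOa hzO))
    have hat1 : a * t ≠ 1 := fun h => hat
      ((inv_eq_of_mul_eq_one_left h).symm.trans (H.inv_eq_self_of_mem T.isPGroup' ht))
    refine hzT (mem_centralizer_iff.2 fun s hs => ?_)
    rcases H.four_cover X.four ha ha1 ht ht1 (mul_mem ha ht) hat1 hat
      (fun h => ht1 (mul_eq_left.1 h.symm)) (fun h => ha1 (mul_eq_right.1 h.symm)) hs with
      rfl | rfl | rfl | rfl
    · simp
    · exact hza.eq.symm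
    · exact hzt.eq.symm
    · exact (hza.mul_right hzt).eq.symm
  have hLt : centralizer ({c} : Set G) ≤ centralizer ({a} : Set G) :=
    centralizer_le_of_decomp H ht (hOa.trans (H.core_le a)) hdec
  obtain ⟨g, hg, hg'⟩ := H.exists_mover T
  have hgc : g * c * g⁻¹ ∈ H.core a := by
    refine H.odd_mem_core X.four ht ht1 ?_
      (by rw [← MulAut.conj_apply, MulEquiv.orderOf_eq]; exact H.rGroup_odd hP.pgroup hc)
    have h : Commute c (g⁻¹ * a * g) :=
      (mem_centralizer_iff.1 hcT _ ((mem_normalizer_iff''.1 hg a).1 ht) : Commute _ c).symm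
    simpa [mul_assoc] using (Commute.conj_iff g).2 h
  obtain ⟨p, hp, τ, hτ, he⟩ := hP.control X (A := {c}) (Set.singleton_subset_iff.2 hc)
    (fun b hb => by obtain rfl : b = c := hb; exact hgc)
  have h1 : p * τ * c * (p * τ)⁻¹ = g * c * g⁻¹ := (he c rfl).symm
  have hy : (p * τ)⁻¹ * g ∈ centralizer ({a} : Set G) := hLt <| mem_centralizer_singleton_iff.2 <| by
    calc (p * τ)⁻¹ * g * c = (p * τ)⁻¹ * (g * c * g⁻¹) * g := by group
      _ = c * ((p * τ)⁻¹ * g) := by rw [← h1]; group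
  have hga : g ∈ centralizer ({a} : Set G) := by
    have := mul_mem (mul_mem (H.core_le a hp) (H.sylow_le_centralizer ht hτ)) hy
    rwa [mul_inv_cancel_left] at this
  exact H.mover_ne X.four hg hg' ht ht1
    (mul_inv_eq_iff_eq_mul.2 (mem_centralizer_singleton_iff.1 hga))

/-- The other involutions invert the core. -/
theorem inverts {t s : G} (ht : t ∈ (T : Subgroup G)) (ht1 : t ≠ 1) (hs : s ∈ (T : Subgroup G))
    (hs1 : s ≠ 1) (hst : s ≠ t) : ∀ y ∈ H.core t, s * y * s⁻¹ = y⁻¹ := by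
  have hss : s⁻¹ = s := H.inv_eq_self_of_mem T.isPGroup' hs
  have hsP : ∀ y ∈ H.core t, s * y * s⁻¹ ∈ H.core t := fun y hy =>
    H.core_conj (H.sylow_le_centralizer ht hs) hy
  let f : H.core t → H.core t := fun a =>
    ⟨(a : G)⁻¹ * (s * a * s⁻¹), mul_mem (inv_mem a.2) (hsP a a.2)⟩
  have hinj : Function.Injective f := by
    intro a b h
    have h' : (a : G)⁻¹ * (s * a * s⁻¹) = (b : G)⁻¹ * (s * b * s⁻¹) := congrArg Subtype.val h
    have hm : (b : G) * (a : G)⁻¹ ∈ H.core t := mul_mem b.2 (inv_mem a.2)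
    have hcs : Commute ((b : G) * (a : G)⁻¹) s := by
      refine (mul_inv_eq_iff_eq_mul.1 ?_ : s * _ = _ * s).symm
      calc s * ((b : G) * (a : G)⁻¹) * s⁻¹ = (s * b * s⁻¹) * (s * a * s⁻¹)⁻¹ := by group
        _ = (b : G) * ((b : G)⁻¹ * (s * b * s⁻¹)) * (s * a * s⁻¹)⁻¹ := by group
        _ = (b : G) * (a : G)⁻¹ := by rw [← h']; group
    have hct : Commute ((b : G) * (a : G)⁻¹) t :=
      mem_centralizer_singleton_iff.1 (H.core_le t hm)
    have hst1 : s * t ≠ 1 := fun h => hst
      ((inv_eq_of_mul_eq_one_left h).symm.trans (H.inv_eq_self_of_mem T.isPGroup' ht))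
    refine Subtype.ext (mul_inv_eq_one.1 (X.core_fixed_eq_one ht ht1 hm
      (mem_centralizer_iff.2 fun x hx => ?_))).symm
    rcases H.four_cover X.four hs hs1 ht ht1 (mul_mem hs ht) hst1 hst
      (fun h => ht1 (mul_eq_left.1 h.symm)) (fun h => hs1 (mul_eq_right.1 h.symm)) hx with
      rfl | rfl | rfl | rfl
    · simp
    · exact hcs.eq.symm
    · exact hct.eq.symm
    · exact (hcs.mul_right hct).eq.symm
  intro y hy
  obtain ⟨a, ha⟩ := (Finite.injective_iff_surjective.1 hinj) ⟨y, hy⟩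
  have ha' : (a : G)⁻¹ * (s * a * s⁻¹) = y := congrArg Subtype.val ha
  rw [← ha']
  calc s * ((a : G)⁻¹ * (s * a * s⁻¹)) * s⁻¹
      = s * (a : G)⁻¹ * s * a * (s⁻¹ * s⁻¹) := by group
    _ = (s * a * s⁻¹)⁻¹ * a := by
        rw [hss, H.sq_of_isPGroup T.isPGroup' hs, mul_one, mul_inv_rev, mul_inv_rev, hss]; group
    _ = _ := by group

theorem core_comm {t : G} (ht : t ∈ (T : Subgroup G)) (ht1 : t ≠ 1) {x y : G}
    (hx : x ∈ H.core t) (hy : y ∈ H.core t) : x * y = y * x := by
  obtain ⟨g, hg, hg'⟩ := H.exists_mover T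
  have hs := conj_mem_sylow hg ht
  have hinv := X.inverts ht ht1 hs (fun h => ht1 (conj_eq_one_iff.1 h))
    (H.mover_ne X.four hg hg' ht ht1)
  have h := hinv (x * y) (mul_mem hx hy)
  rw [conj_mul.symm, hinv x hx, hinv y hy, mul_inv_rev] at h
  simpa using (congrArg (·⁻¹) h).symm

/-- The centraliser of a nontrivial element of the core lies in the involution centraliser. -/
theorem centralizer_le {t y : G} (ht : t ∈ (T : Subgroup G)) (ht1 : t ≠ 1) (hy : y ∈ H.core t)
    (hy1 : y ≠ 1) : centralizer ({y} : Set G) ≤ centralizer ({t} : Set G) := by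
  haveI := Fact.mk H.hr
  haveI : Fact (Nat.Prime 2) := ⟨Nat.prime_two⟩
  have hP := X.maxInv_core ht ht1
  set R := H.core t with hR
  set C := centralizer ({y} : Set G) with hC
  have hyr : orderOf y = H.r := H.orderOf_of_mem hP.pgroup hy hy1
  have hRC : R ≤ C := fun x hx => mem_centralizer_singleton_iff.2 (X.core_comm ht ht1 hx hy)
  have htC : zpowers t ≤ C := zpowers_le.2
    (mem_centralizer_singleton_iff.2 (mem_centralizer_singleton_iff.1 (H.core_le t hy)).symm)
  have hle : R ⊔ zpowers t ≤ centralizer ({t} : Set G) :=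
    sup_le (H.core_le t) (zpowers_le.2 (mem_centralizer_singleton_iff.2 rfl))
  suffices h : C ≤ R ⊔ zpowers t from h.trans hle
  have h2R : 2 * Nat.card R ∣ Nat.card ↥(R ⊔ zpowers t) := by
    refine Nat.Coprime.mul_dvd_of_dvd_of_dvd ?_ ?_ (card_dvd_of_le le_sup_left)
    · exact Nat.coprime_two_left.2 (H.core_odd t)
    · have h := card_dvd_of_le (le_sup_right : zpowers t ≤ R ⊔ zpowers t)
      rwa [Nat.card_zpowers, H.orderOf_two_of_sylow ht ht1] at h
  refine (eq_of_le_of_card_ge (sup_le hRC htC) ?_).ge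
  refine le_trans (Nat.le_of_dvd (Nat.mul_pos two_pos Nat.card_pos) ?_)
    (Nat.le_of_dvd Nat.card_pos h2R)
  refine (Nat.dvd_iff_prime_pow_dvd_dvd _ _).mpr fun q k hq hdvd => ?_
  rcases Nat.eq_zero_or_pos k with rfl | hk
  · simp
  rcases H.prime_of_dvd_centralizer (Or.inr hyr : orderOf y = 2 ∨ orderOf y = H.r) hq
    ((dvd_pow_self q hk.ne').trans hdvd) with rfl | rfl
  · refine Dvd.dvd.mul_right (pow_dvd_pow 2 (?_ : k ≤ 1)) _ |>.trans (by rw [pow_one])
    by_contra! hk2
    obtain ⟨D, hD⟩ := Sylow.exists_subgroup_card_pow_prime 2 (n := 2)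
      ((pow_dvd_pow 2 hk2).trans hdvd : 2 ^ 2 ∣ Nat.card C)
    have hDc : Nat.card (D.map C.subtype) = 4 := by
      rw [card_map_of_injective C.subtype_injective, hD]; norm_num
    obtain ⟨S, hS⟩ := (IsPGroup.of_card (p := 2) (n := 2) (by rw [hDc]; norm_num)).exists_le_sylow
    obtain ⟨g, hgS⟩ := MulAction.exists_smul_eq G T S
    have hScard : Nat.card (S : Subgroup G) = 4 := by
      rw [Sylow.card_eq_multiplicity, ← Sylow.card_eq_multiplicity T, X.four]
    have hSC : (S : Subgroup G) ≤ C := by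
      rw [← eq_of_le_of_card_ge hS (by rw [hScard, hDc])]; exact map_subtype_le _
    have hcT : g⁻¹ * y * g ∈ centralizer ((T : Subgroup G) : Set G) := by
      refine mem_centralizer_iff.2 fun x hx => ?_
      have hxS : g * x * g⁻¹ ∈ (S : Subgroup G) := by
        rw [← hgS, mem_smul_iff, show g⁻¹ * (g * x * g⁻¹) * g = x by group]; exact hx
      have h : Commute (g * x * g⁻¹) y := mem_centralizer_singleton_iff.1 (hSC hxS)
      have h' := (Commute.conj_iff g⁻¹).2 h
      simp only [inv_inv] at h'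
      simpa [mul_assoc] using h'.eq
    have hmem : g⁻¹ * y * g ∈ R := H.odd_mem_core X.four ht ht1
      (mem_centralizer_iff.1 hcT t ht : Commute t _).symm (by
        have e : g⁻¹ * y * g = MulAut.conj g⁻¹ y := by simp
        rw [e, MulEquiv.orderOf_eq, hyr]; exact H.odd_r)
    exact hy1 (by simpa [mul_assoc, inv_mul_eq_one, eq_comm] using
      X.core_fixed_eq_one ht ht1 hmem hcT)
  · refine Dvd.dvd.mul_left ?_ _
    obtain ⟨D, hD⟩ := Sylow.exists_subgroup_card_pow_prime H.r hdvd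
    obtain ⟨S, hS⟩ := ((IsPGroup.of_card hD).map C.subtype).exists_le_sylow
    obtain ⟨S', hS'⟩ := hP.exists_sylow X
    have := card_dvd_of_le hS
    rwa [card_map_of_injective C.subtype_injective, hD, Sylow.card_eq_multiplicity,
      ← Sylow.card_eq_multiplicity S', hS'] at this

theorem normalizer_le {t : G} (ht : t ∈ (T : Subgroup G)) (ht1 : t ≠ 1) {Y : Subgroup G}
    (hY : Y ≤ H.core t) (hY1 : Y ≠ ⊥) :
    normalizer (Y : Set G) ≤ centralizer ({t} : Set G) := by
  intro g hg
  have hP := X.maxInv_core ht ht1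
  obtain ⟨⟨y, hy⟩, hy1⟩ := (Y.ne_bot_iff_exists_ne_one).1 hY1
  obtain ⟨p, hp, τ, hτ, he⟩ := hP.control X (A := (Y : Set G)) hY
    (fun a ha => hY ((mem_normalizer_iff.1 hg a).1 ha))
  have h1 : p * τ * y * (p * τ)⁻¹ = g * y * g⁻¹ := (he y hy).symm
  have hu : (p * τ)⁻¹ * g ∈ centralizer ({t} : Set G) :=
    X.centralizer_le ht ht1 (hY hy) (fun h => hy1 (Subtype.ext h)) <|
      mem_centralizer_singleton_iff.2 <| by
        calc (p * τ)⁻¹ * g * y = (p * τ)⁻¹ * (g * y * g⁻¹) * g := by group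
          _ = y * ((p * τ)⁻¹ * g) := by rw [← h1]; group
  have := mul_mem (mul_mem (H.core_le t hp) (H.sylow_le_centralizer ht hτ)) hu
  rwa [mul_inv_cancel_left] at this

theorem iso_psl2 : ∃ (F : Type) (_ : Field F) (_ : Fintype F), Odd (Fintype.card F) ∧
    Nonempty (G ≃* Matrix.ProjectiveSpecialLinearGroup (Fin 2) F) := by
  classical
  obtain ⟨t, ht, ht1⟩ := H.exists_ne_one T
  have hto : orderOf t = 2 := H.orderOf_two_of_sylow ht ht1
  haveI : IsKleinFour (T : Subgroup G) := ⟨X.four, by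
    haveI : Fact (Nat.Prime 2) := ⟨Nat.prime_two⟩
    refine Nat.dvd_antisymm (Monoid.exponent_dvd_of_forall_pow_eq_one fun g => Subtype.ext ?_) ?_
    · rw [SubmonoidClass.coe_pow, pow_two, H.sq_of_isPGroup T.isPGroup' g.2, OneMemClass.coe_one]
    · have h := Monoid.order_dvd_exponent (⟨t, ht⟩ : (T : Subgroup G))
      rwa [orderOf_mk, hto] at h⟩
  refine S0508.result T 2 le_rfl IsKleinFour.nonempty_mulEquiv t hto ht
    (fun s hs => (H.comm_of_isPGroup T.isPGroup' hs ht).eq) (H.core t) rfl (fun hne => ?_)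
    (fun s hs hs' => ?_) (fun Y hY hY1 => X.normalizer_le ht ht1 hY hY1)
  · obtain ⟨⟨y, hy⟩, hy1⟩ := ((H.core t).ne_bot_iff_exists_ne_one).1 hne
    have he : (T : Subgroup G) ⊓ centralizer (H.core t : Set G) = zpowers t := by
      refine le_antisymm (fun τ hτ => ?_) (zpowers_le.2 ⟨ht, mem_centralizer_iff.2 fun w hw =>
        mem_centralizer_singleton_iff.1 (H.core_le t hw)⟩)
      by_contra hτt
      have hτ1 : τ ≠ 1 := fun h => hτt (h ▸ one_mem _)
      have h := X.inverts ht ht1 hτ.1 hτ1 (fun h => hτt (h ▸ mem_zpowers t)) y hy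
      rw [← mem_centralizer_iff.1 hτ.2 y hy, mul_inv_cancel_right] at h
      refine hy1 (Subtype.ext (H39.eq_one_of_sq_of_odd ?_
        (H.rGroup_odd (X.maxInv_core ht ht1).pgroup hy)))
      rw [pow_two]; exact mul_eq_one_iff_eq_inv.2 h
    rw [he]
    refine ⟨inferInstance, ?_⟩
    have hle : zpowers t ≤ (T : Subgroup G) := zpowers_le.2 ht
    have h := ((zpowers t).subgroupOf (T : Subgroup G)).card_mul_index
    rw [Nat.card_congr (subgroupOfEquivOfLe hle).toEquiv, Nat.card_zpowers, hto, X.four] at h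
    change ((zpowers t).subgroupOf (T : Subgroup G)).index = 2
    omega
  · refine X.inverts ht ht1 hs (fun h => hs' (h ▸ one_mem _)) (fun h => hs' ?_)
    subst h
    exact mem_centralizer_iff.2 fun w hw => mem_centralizer_singleton_iff.1 (H.core_le s hw)

end FourCtx

namespace Hyp

variable [IsSimpleGroup G]

/-- A simple group with one mixed even element order and no elements of order four is `PSL₂(q)`. -/
theorem iso_psl2_odd (H : Hyp G) (hmix : ∃ g : G, orderOf g = 2 * H.r) :
    ∃ (F : Type) (_ : Field F) (_ : Fintype F), Odd (Fintype.card F) ∧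
      Nonempty (G ≃* Matrix.ProjectiveSpecialLinearGroup (Fin 2) F) := by
  haveI : Fact (Nat.Prime 2) := ⟨Nat.prime_two⟩
  obtain ⟨T⟩ : Nonempty (Sylow 2 G) := inferInstance
  by_cases h8 : 8 ≤ Nat.card (T : Subgroup G)
  · exact (SEData.false
      ⟨H.ti_of_centralizer_le T (H.centralizer_le_nrmS_of_large T h8), hmix⟩).elim
  have h4 : Nat.card (T : Subgroup G) = 4 := by
    obtain ⟨k, hk⟩ := IsPGroup.iff_card.1 T.isPGroup'
    have := H.four_le_sylow T
    rw [hk] at this h8 ⊢
    have : k < 3 := by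
      by_contra! h
      exact h8 (le_trans (by norm_num) (Nat.pow_le_pow_right two_pos h))
    interval_cases k <;> omega
  by_cases hA : ∃ a ∈ (T : Subgroup G), a ≠ 1 ∧ (T : Subgroup G) ≤ centralizer (H.core a : Set G)
  · obtain ⟨a, ha, ha1, h⟩ := hA
    exact (H.four_caseA h4 hmix ha ha1 h).elim
  push Not at hA
  exact FourCtx.iso_psl2 ⟨h4, hA⟩

end Hyp

end Cfsg.Agent.H76.OneMixed
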