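import Cfsg.Agent.H76.OneMixed.SEFinal

/-!
Local facts: odd cores of centralisers, and passing from involution centralisers inside a Sylow
normaliser to trivial intersections.
-/

set_option autoImplicit false
set_option linter.style.haveILetI false
set_option linter.unusedSectionVars false

namespace Cfsg.Agent.H76.OneMixed

open Subgroup
open scoped Pointwise

universe u

variable {G : Type u} [Group G] [Finite G]

namespace Hyp

variable (H : Hyp G)

include H

/-- An odd element centralising a Sylow 2-subgroup of a solvable centraliser lies in its core. -/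
theorem mem_core_of_centralizes {x g : G} (hx : orderOf x = 2 ∨ orderOf x = H.r) (S : Sylow 2 G)
    (hSC : (S : Subgroup G) ≤ centralizer ({x} : Set G)) (hg : g ∈ centralizer ({x} : Set G))
    (hgS : g ∈ centralizer ((S : Subgroup G) : Set G)) (hodd : Odd (orderOf g)) :
    g ∈ H.core x := by
  haveI : Fact (Nat.Prime 2) := ⟨Nat.prime_two⟩
  set C := centralizer ({x} : Set G) with hC
  haveI := H.solvable_centralizer hx
  set T : Sylow 2 ↥C := S.subtype hSC with hT
  set O := Cfsg.pPrimeCore 2 ↥C with hO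
  haveI hOn : O.Normal := Cfsg.pPrimeCore_normal 2 _
  have hbot : Cfsg.pPrimeCore 2 (↥C ⧸ O) = ⊥ := Components.pPrimeCore_quotient_eq_bot
  have hcen : centralizer (Cfsg.pCore 2 (↥C ⧸ O) : Set (↥C ⧸ O)) ≤ Cfsg.pCore 2 (↥C ⧸ O) :=
    Cores.centralizer_pCore_le Cores.isPSolvable_of_isSolvable hbot
  have hle : Cfsg.pCore 2 (↥C ⧸ O) ≤ (T : Subgroup ↥C).map (QuotientGroup.mk' O) :=
    Cores.pCore_le_sylow (T.mapSurjective (QuotientGroup.mk'_surjective O))
  have hmem : QuotientGroup.mk' O ⟨g, hg⟩ ∈ Cfsg.pCore 2 (↥C ⧸ O) := by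
    refine hcen (mem_centralizer_iff.2 fun y hy => ?_)
    obtain ⟨s, hs, rfl⟩ := hle hy
    rw [← map_mul, ← map_mul]
    exact congrArg _ (Subtype.ext (mem_centralizer_iff.1 hgS (s : G) (mem_subgroupOf.1 hs)))
  obtain ⟨k, hk⟩ := IsPGroup.iff_orderOf.1 (Cores.pCore_isPGroup (p := 2) (G := ↥C ⧸ O)) ⟨_, hmem⟩
  rw [orderOf_mk] at hk
  have h1 : orderOf (QuotientGroup.mk' O ⟨g, hg⟩) ∣ orderOf g := by
    refine (orderOf_map_dvd (QuotientGroup.mk' O) ⟨g, hg⟩).trans ?_
    rw [orderOf_mk]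
  rw [hk] at h1
  have hk0 : k = 0 := by
    by_contra h0
    exact Nat.not_even_iff_odd.2 hodd (even_iff_two_dvd.2 ((dvd_pow_self 2 h0).trans h1))
  rw [hk0, pow_zero, orderOf_eq_one_iff, ← MonoidHom.mem_ker, QuotientGroup.ker_mk'] at hk
  exact ⟨⟨g, hg⟩, hk, rfl⟩

theorem isSolvable_of_rGroup {W : Subgroup G} (hW : IsPGroup H.r W) : Group.IsSolvable W := by
  haveI := Fact.mk H.hr
  obtain ⟨k, hk⟩ := IsPGroup.iff_card.1 hW
  exact S0144.result H.r 2 k 0 H.hr Nat.prime_two (by rw [hk, pow_zero, mul_one])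

/-- Involution centralisers inside a Sylow normaliser give trivial intersections. -/
theorem ti_of_centralizer_le [IsSimpleGroup G] (T : Sylow 2 G)
    (hC : ∀ t ∈ (T : Subgroup G), t ≠ 1 → centralizer ({t} : Set G) ≤ nrmS T) :
    ∀ S S' : Sylow 2 G, ∀ u : G, u ∈ (S : Subgroup G) → u ∈ (S' : Subgroup G) → u ≠ 1 →
      S = S' := by
  haveI : Fact (Nat.Prime 2) := ⟨Nat.prime_two⟩
  intro S S' u hu hu' hu1
  obtain ⟨g, hg⟩ := MulAction.exists_smul_eq G S T
  have huT : g * u * g⁻¹ ∈ (T : Subgroup G) := by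
    rw [← hg, mem_smul_iff]; simpa [mul_assoc] using hu
  have hu1' : g * u * g⁻¹ ≠ 1 := fun h => hu1 (conj_eq_one_iff.1 h)
  have hle : ((g • S' : Sylow 2 G) : Subgroup G) ≤ (T : Subgroup G) := by
    intro s hs
    rcases eq_or_ne s 1 with rfl | hs1
    · exact one_mem _
    refine H.mem_of_mem_nrmS (H.orderOf_two_of_sylow hs hs1) (hC _ huT hu1' ?_)
    refine mem_centralizer_singleton_iff.2 (H.comm_of_isPGroup (g • S').isPGroup' hs ?_).eq
    rw [mem_smul_iff]; simpa [mul_assoc] using hu'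
  have heq : g • S' = T := Sylow.ext ((g • S').is_maximal' T.isPGroup' hle).symm
  exact MulAction.injective g (hg.trans heq.symm)

end Hyp

end Cfsg.Agent.H76.OneMixed
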