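import Cfsg.Agent.H76.OneMixed.FourFinal
import Cfsg.Agent.H70.Eppo.Simple
import Cfsg.Agent.H70.SpectrumCN
import Cfsg.Agent.Suzuki.Solubilizer

/-!
Simple groups with at most one composite element order.
-/

set_option autoImplicit false
set_option linter.style.haveILetI false
set_option linter.unusedSectionVars false

namespace Cfsg.Agent.H76.OneMixed

open Subgroup

variable {G : Type*} [Group G]

/-- An element order which is neither `1` nor a prime. -/
def IsCompOrder (G : Type*) [Group G] (n : ℕ) : Prop :=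
  n ∈ Set.range (orderOf : G → ℕ) ∧ 1 < n ∧ ¬ n.Prime

/-- There is at most one composite order. -/
def OneComp (G : Type*) [Group G] : Prop :=
  {n : ℕ | n ∈ Set.range (orderOf : G → ℕ) ∧ 1 < n ∧ ¬ n.Prime}.Subsingleton

theorem OneComp.of_mulEquiv {H : Type*} [Group H] (e : G ≃* H) (h : OneComp G) : OneComp H := by
  rintro a ⟨⟨x, rfl⟩, ha⟩ b ⟨⟨y, rfl⟩, hb⟩
  exact h ⟨⟨e.symm x, e.symm.orderOf_eq x⟩, ha⟩ ⟨⟨e.symm y, e.symm.orderOf_eq y⟩, hb⟩

theorem OneComp.eq (h : OneComp G) {g : G} {n m : ℕ} (hg : orderOf g = n) (hn1 : 1 < n)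
    (hn : ¬ n.Prime) {g' : G} (hg' : orderOf g' = m) (hm1 : 1 < m) (hm : ¬ m.Prime) : n = m :=
  h ⟨⟨g, hg⟩, hn1, hn⟩ ⟨⟨g', hg'⟩, hm1, hm⟩

/-- Orders in the presence of a composite order `m`. -/
theorem OneComp.cases (h : OneComp G) {g₀ : G} {m : ℕ} (hg₀ : orderOf g₀ = m) (hm1 : 1 < m)
    (hm : ¬ m.Prime) [Finite G] (g : G) : orderOf g = 1 ∨ (orderOf g).Prime ∨ orderOf g = m := by
  by_cases h1 : orderOf g = 1
  · exact Or.inl h1
  by_cases hp : (orderOf g).Prime
  · exact Or.inr (Or.inl hp)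
  refine Or.inr (Or.inr (h ⟨⟨g, rfl⟩, ?_, hp⟩ ⟨⟨g₀, hg₀⟩, hm1, hm⟩))
  have := orderOf_pos g
  omega

/-- A mixed composite order is a product of two primes. -/
theorem OneComp.exists_two_primes (h : OneComp G) [Finite G] {g : G} (hg : g ≠ 1)
    (hpp : ¬ IsPrimePow (orderOf g)) :
    ∃ p q : ℕ, p.Prime ∧ q.Prime ∧ p ≠ q ∧ orderOf g = p * q := by
  have h1 : orderOf g ≠ 1 := fun e => hg (orderOf_eq_one_iff.1 e)
  obtain ⟨p, hp, hpd⟩ := Nat.exists_prime_and_dvd h1
  obtain ⟨q, hq, hqd, hqp⟩ : ∃ q, q.Prime ∧ q ∣ orderOf g ∧ q ≠ p := by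
    by_contra! hcon
    refine hpp ⟨p, (orderOf g).primeFactorsList.length, hp.prime, ?_,
      (Nat.eq_prime_pow_of_unique_prime_dvd (orderOf_pos g).ne' fun {d} hd hdv => hcon d hd hdv).symm⟩
    rw [Nat.pos_iff_ne_zero, Ne, List.length_eq_zero_iff, Nat.primeFactorsList_eq_nil]
    rintro (h' | h')
    · exact (orderOf_pos g).ne' h'
    · exact h1 h'
  have hdvd : p * q ∣ orderOf g :=
    Nat.Coprime.mul_dvd_of_dvd_of_dvd ((Nat.coprime_primes hp hq).2 hqp.symm) hpd hqd
  refine ⟨p, q, hp, hq, hqp.symm, ?_⟩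
  have hgp : orderOf (g ^ (orderOf g / (p * q))) = p * q :=
    orderOf_pow_orderOf_div (orderOf_pos g).ne' hdvd
  refine h.eq rfl ?_ ?_ hgp ?_ ?_
  · have := orderOf_pos g; omega
  · intro hpr
    exact hqp (((Nat.prime_dvd_prime_iff_eq hq hpr).1 hqd).trans
      ((Nat.prime_dvd_prime_iff_eq hp hpr).1 hpd).symm)
  · have := hp.two_le; have := hq.two_le; nlinarith
  · exact Nat.not_prime_mul hp.ne_one hq.ne_one

/-- The conclusion. -/
def Listed (G : Type*) [Group G] : Prop :=
    (∃ (F : Type) (_ : Field F) (_ : Fintype F), (Fintype.card F = 5 ∨ Fintype.card F = 7 ∨ Fintype.card F = 8 ∨ Fintype.card F = 9 ∨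
        Fintype.card F = 11 ∨ Fintype.card F = 13 ∨ Fintype.card F = 16) ∧ Nonempty (G ≃* Matrix.ProjectiveSpecialLinearGroup (Fin 2) F)) ∨
    (∃ (F : Type) (_ : Field F) (_ : Fintype F), Fintype.card F = 4 ∧ Nonempty (G ≃* Matrix.ProjectiveSpecialLinearGroup (Fin 3) F)) ∨
    (∃ (F : Type) (_ : Field F) (_ : Fintype F), Fintype.card F = 8 ∧ Nonempty (G ≃* ↥(Cfsg.Lie.Sz F 4))) ∨
    (∃ (F : Type) (_ : Field F) (_ : Fintype F), ∃ n r s : ℕ, r.Prime ∧ s.Prime ∧ 3 ^ n - 1 = 2 * r ∧ 3 ^ n + 1 = 4 * s ∧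
        Fintype.card F = 3 ^ n ∧ Nonempty (G ≃* Matrix.ProjectiveSpecialLinearGroup (Fin 2) F)) ∨
    (∃ (F : Type) (_ : Field F) (_ : Fintype F), ∃ n r : ℕ, (2 ^ n - 1).Prime ∧ r.Prime ∧ 2 ^ n + 1 = 3 * r ∧
        Fintype.card F = 2 ^ n ∧ Nonempty (G ≃* Matrix.ProjectiveSpecialLinearGroup (Fin 2) F))

theorem listed_of_psl {F : Type} [Field F] [Fintype F]
    (hF : Fintype.card F = 5 ∨ Fintype.card F = 7 ∨ Fintype.card F = 8 ∨ Fintype.card F = 9 ∨
      Fintype.card F = 11 ∨ Fintype.card F = 13 ∨ Fintype.card F = 16)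
    (e : G ≃* Matrix.ProjectiveSpecialLinearGroup (Fin 2) F) : Listed G :=
  Or.inl ⟨F, _, _, hF, ⟨e⟩⟩

theorem listed_of_four {F : Type} [Field F] [Fintype F] (hF : Fintype.card F = 4)
    (e : G ≃* Matrix.ProjectiveSpecialLinearGroup (Fin 2) F) : Listed G := by
  haveI : Fact (Nat.Prime 5) := ⟨Nat.prime_five⟩
  obtain ⟨e4⟩ := H70.Eppo.classification.psl_two_four.{0} hF
  obtain ⟨e5⟩ := S0253.result (F := ZMod 5) (ZMod.card 5)
  exact listed_of_psl (Or.inl (ZMod.card 5)) ((e.trans e4).trans e5.symm)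

theorem suzuki_order_four {F : Type} [Field F] [Fintype F] (m : ℕ) [Suzuki.SzField F m] :
    ∃ x : Cfsg.Sz F m, orderOf x = 4 :=
  ⟨Suzuki.u m (1 : F) 0, Suzuki.u10_order m⟩

variable [Finite G] [IsSimpleGroup G]

theorem not_small (hna : ¬ IsMulCommutative G) {F : Type} [Field F] [Fintype F]
    (e : G ≃* Matrix.ProjectiveSpecialLinearGroup (Fin 2) F) :
    Fintype.card F ≠ 2 ∧ Fintype.card F ≠ 3 := by
  have hcard := Linear.card_PSL_two_mul (F := F)
  refine ⟨fun h => ?_, fun h => ?_⟩ <;> rw [h, ← Nat.card_congr e.toEquiv] at hcard <;>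
    norm_num at hcard
  · exact hna ⟨⟨fun a b => IsSimpleGroup.comm_iff_isSolvable.mpr
      (S0144.result 2 3 1 1 Nat.prime_two Nat.prime_three (by omega)) a b⟩⟩
  · exact hna ⟨⟨fun a b => IsSimpleGroup.comm_iff_isSolvable.mpr
      (S0144.result 2 3 2 1 Nat.prime_two Nat.prime_three (by omega)) a b⟩⟩

/-- All orders prime powers. -/
theorem listed_eppo (hna : ¬ IsMulCommutative G) (h : OneComp G) (he : H70.Eppo.IsEPPO G) :
    Listed G := by
  classical
  rcases H70.Eppo.classification hna he with ⟨⟨e⟩⟩ | ⟨F, _, _, hF, ⟨e⟩⟩ | h3 | ⟨F, _, _, hS⟩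
  · haveI : Fact (Nat.Prime 3) := ⟨Nat.prime_three⟩
    haveI : Fintype (GaloisField 3 2) := Fintype.ofFinite _
    have h9 : Fintype.card (GaloisField 3 2) = 9 := by
      rw [← Nat.card_eq_fintype_card, GaloisField.card 3 2 (by norm_num)]; norm_num
    obtain ⟨e'⟩ := H27.SixPoints.psl_two_nine' h9
    exact listed_of_psl (Or.inr (Or.inr (Or.inr (Or.inl h9)))) (e.trans e'.symm)
  · simp only [Finset.mem_insert, Finset.mem_singleton] at hF
    rcases hF with h4 | h7 | h8 | h17
    · exact listed_of_four h4 e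
    · exact listed_of_psl (Or.inr (Or.inl h7)) e
    · exact listed_of_psl (Or.inr (Or.inr (Or.inl h8))) e
    · exfalso
      obtain ⟨x, hx⟩ := H70.SpecCN.exists_order_half_psl (F := F) (by rw [h17]) false
      obtain ⟨y, hy⟩ := H70.SpecCN.exists_order_half_psl (F := F) (by rw [h17]) true
      simp only [Bool.false_eq_true, if_false, h17] at hx
      simp only [if_true, h17] at hy
      have := (h.of_mulEquiv e).eq hx (by norm_num) (by norm_num) hy
        (by norm_num) (by norm_num)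
      omega
  · exact Or.inr (Or.inl h3)
  · rcases hS with ⟨h8, he⟩ | ⟨h32, ⟨e⟩⟩
    · exact Or.inr (Or.inr (Or.inl ⟨F, _, _, h8, he⟩))
    · exfalso
      haveI : Suzuki.SzField F 2 := ⟨by rw [h32]; norm_num, by norm_num⟩
      have e' : G ≃* Cfsg.Sz F 2 := e.trans (Suzuki.lieEquiv 2).symm
      have h' := h.of_mulEquiv e'
      obtain ⟨x, hx⟩ := suzuki_order_four (F := F) 2
      obtain ⟨-, -, ⟨g, hg, hc⟩⟩ := Suzuki.torus_classes (F := F) 2
      obtain ⟨y, hy⟩ := (Suzuki.centralizer_cyclic 2 hg).exists_ofOrder_eq_natCard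
      rw [← orderOf_coe, hc] at hy
      have h25 : Suzuki.aMinus 2 = 25 := by norm_num [Suzuki.aMinus]
      have := h'.eq hx (by norm_num) (by norm_num) (hy.trans h25) (by norm_num)
        (by norm_num)
      omega

/-- An odd mixed order. -/
theorem listed_odd (hna : ¬ IsMulCommutative G) (h : OneComp G) {g₀ : G} {p q : ℕ} (hp : p.Prime)
    (hq : q.Prime) (hp2 : p ≠ 2) (hq2 : q ≠ 2) (hg₀ : orderOf g₀ = p * q) : Listed G := by
  classical
  have hm1 : 1 < p * q := by have := hp.two_le; have := hq.two_le; nlinarith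
  have hm : ¬ (p * q).Prime := Nat.not_prime_mul hp.ne_one hq.ne_one
  have hmodd : Odd (p * q) := (hp.odd_of_ne_two hp2).mul (hq.odd_of_ne_two hq2)
  have hord := h.cases hg₀ hm1 hm
  have heven : ∀ g : G, 2 ∣ orderOf g → orderOf g = 2 := fun g hg => by
    rcases hord g with e | e | e
    · omega
    · exact ((Nat.prime_dvd_prime_iff_eq Nat.prime_two e).1 hg).symm
    · exact absurd (even_iff_two_dvd.2 (e ▸ hg)) (Nat.not_even_iff_odd.2 hmodd)
  have hC : H65.CIT.CIT G := by
    intro t ht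
    haveI : Fact (Nat.Prime 2) := ⟨Nat.prime_two⟩
    refine IsPGroup.of_card (n := (Nat.card (centralizer ({t} : Set G))).primeFactorsList.length)
      (Nat.eq_prime_pow_of_unique_prime_dvd Nat.card_pos.ne' fun {d} hd hdv => ?_)
    by_contra h2
    haveI := Fact.mk hd
    obtain ⟨⟨x, hx⟩, hxo⟩ := exists_prime_orderOf_dvd_card' d hdv
    rw [orderOf_mk] at hxo
    have hc : Commute x t := mem_centralizer_singleton_iff.1 hx
    have ho : orderOf (t * x) = 2 * d := by
      rw [hc.symm.orderOf_mul_eq_mul_orderOf_of_coprime, ht, hxo]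
      rw [ht, hxo]
      exact (Nat.coprime_primes Nat.prime_two hd).2 (Ne.symm h2)
    have := heven (t * x) (ho ▸ dvd_mul_right 2 d)
    have := hd.two_le
    omega
  have hne : ∃ a b : G, a * b ≠ b * a := by
    by_contra! hcon
    exact hna ⟨⟨hcon⟩⟩
  have hev : Even (Nat.card G) := Nat.not_odd_iff_even.1 fun ho => hna
    ⟨⟨fun a b => IsSimpleGroup.comm_iff_isSolvable.mpr (S0205.result ho) a b⟩⟩
  rcases H70.Eppo.isSuzuki_iso_cases hne hC hev with ⟨F, _, _, hF, ⟨e⟩⟩ | h3 | hsz
  · obtain ⟨hF2, hF3⟩ := not_small hna e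
    rcases hF with h9 | ⟨n, hn⟩ | ⟨hFp, k, hk⟩
    · exact listed_of_psl (Or.inr (Or.inr (Or.inr (Or.inl h9)))) e
    · rcases lt_or_ge n 5 with hn5 | hn5
      · interval_cases n <;> norm_num at hn
        · exact absurd hn (by have := Fintype.one_lt_card (α := F); omega)
        · exact absurd hn hF2
        · exact listed_of_four hn e
        · exact listed_of_psl (Or.inr (Or.inr (Or.inl hn))) e
        · exact listed_of_psl (Or.inr (Or.inr (Or.inr (Or.inr (Or.inr (Or.inr hn)))))) e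
      obtain ⟨p', hchar⟩ := CharP.exists F
      haveI : Fact p'.Prime := ⟨CharP.char_is_prime F p'⟩
      obtain ⟨-, ⟨y, hy⟩, -⟩ := H55.exists_torus_orders (F := F) p'
      obtain ⟨z, hz⟩ := H70.SpecCN.exists_order_succ_psl hn
      rw [hn] at hy hz
      have h32 : 32 ≤ 2 ^ n := le_trans (by norm_num) (Nat.pow_le_pow_right two_pos hn5)
      have hg : Nat.gcd 2 (2 ^ n - 1) = 1 := by
        rw [← Nat.coprime_iff_gcd_eq_one, Nat.Prime.coprime_iff_not_dvd Nat.prime_two]
        have : 2 ∣ 2 ^ n := dvd_pow_self 2 (by omega)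
        omega
      rw [hg, Nat.div_one] at hy
      set y' := e.symm (y ^ (orderOf y / (2 ^ n - 1))) with hy'
      have hyo : orderOf y' = 2 ^ n - 1 := by
        rw [hy', MulEquiv.orderOf_eq]; exact orderOf_pow_orderOf_div (orderOf_pos y).ne' hy
      have hzo : orderOf (e.symm z) = 2 ^ n + 1 := by rw [MulEquiv.orderOf_eq, hz]
      rcases Nat.even_or_odd' n with ⟨k, rfl | rfl⟩
      · exfalso
        have hprod : 2 ^ (2 * k) - 1 = (2 ^ k + 1) * (2 ^ k - 1) := by
          rw [← Nat.sq_sub_sq, one_pow, ← pow_mul, mul_comm k 2]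
        have h3 : 3 ∣ 2 ^ (2 * k) - 1 := H70.Eppo.three_dvd_even (even_two_mul k)
        have hk8 : 8 ≤ 2 ^ k := le_trans (by norm_num) (Nat.pow_le_pow_right two_pos (show 3 ≤ k by omega))
        rcases hord y' with e1 | e1 | e1
        · omega
        · rw [hyo] at e1
          rcases (Nat.dvd_prime e1).1 h3 with h' | h' <;> omega
        · rw [hyo, hprod] at e1
          have h31 : 3 ∣ (2 ^ k + 1) * (2 ^ k - 1) := hprod ▸ h3
          obtain ⟨u, v, huv, hu3, hu, hv⟩ : ∃ u v, u * v = p * q ∧ 3 ∣ u ∧ 3 < u ∧ 1 < v := by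
            rcases Nat.prime_three.dvd_mul.1 h31 with h' | h'
            · exact ⟨_, _, e1, h', by omega, by omega⟩
            · exact ⟨_, _, (mul_comm _ _).trans e1, h', by omega, by omega⟩
          obtain ⟨w, rfl⟩ := hu3
          have hw : 1 < w := by omega
          rcases Nat.prime_three.dvd_mul.1 (Dvd.intro (w * v) ((mul_assoc _ _ _).symm.trans huv))
            with h' | h'
          · have h3p := (Nat.prime_dvd_prime_iff_eq Nat.prime_three hp).1 h'
            rw [← h3p, mul_assoc] at huv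
            exact Nat.not_prime_mul hw.ne' hv.ne' (Nat.eq_of_mul_eq_mul_left three_pos huv ▸ hq)
          · have h3q := (Nat.prime_dvd_prime_iff_eq Nat.prime_three hq).1 h'
            rw [← h3q, mul_assoc, mul_comm p] at huv
            exact Nat.not_prime_mul hw.ne' hv.ne' (Nat.eq_of_mul_eq_mul_left three_pos huv ▸ hp)
      · have h3 : 3 ∣ 2 ^ (2 * k + 1) + 1 := H70.Eppo.three_dvd_odd ⟨k, rfl⟩
        have hm' : 2 ^ (2 * k + 1) + 1 = p * q := by
          rcases hord (e.symm z) with e1 | e1 | e1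
          · omega
          · rw [hzo] at e1
            rcases (Nat.dvd_prime e1).1 h3 with h' | h' <;> omega
          · omega
        have hpr : (2 ^ (2 * k + 1) - 1).Prime := by
          rcases hord y' with e1 | e1 | e1
          · omega
          · rwa [hyo] at e1
          · omega
        refine Or.inr (Or.inr (Or.inr (Or.inr ?_)))
        rw [hm'] at h3
        rcases Nat.prime_three.dvd_mul.1 h3 with h' | h'
        · obtain rfl := (Nat.prime_dvd_prime_iff_eq Nat.prime_three hp).1 h'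
          exact ⟨F, _, _, 2 * k + 1, q, hpr, hq, hm', hn, ⟨e⟩⟩
        · obtain rfl := (Nat.prime_dvd_prime_iff_eq Nat.prime_three hq).1 h'
          exact ⟨F, _, _, 2 * k + 1, p, hpr, hp, hm'.trans (mul_comm _ _), hn, ⟨e⟩⟩
    · rcases lt_or_ge k 3 with hk3 | hk3
      · refine listed_of_psl (Or.inl ?_) e
        have := Fintype.one_lt_card (α := F)
        interval_cases k <;> norm_num at hk <;> omega
      · exfalso
        have h8 : 8 ≤ 2 ^ k := le_trans (by norm_num) (Nat.pow_le_pow_right two_pos hk3)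
        have hodd : Fintype.card F % 2 = 1 := by
          rcases hFp.eq_two_or_odd with h' | h' <;> omega
        have h2k : 2 ^ k = 2 * 2 ^ (k - 1) := by rw [← pow_succ']; congr 1; omega
        obtain ⟨x, hx⟩ : ∃ x : Matrix.ProjectiveSpecialLinearGroup (Fin 2) F,
            orderOf x = 2 ^ (k - 1) := by
          rcases hk with h' | h'
          · obtain ⟨x, hx⟩ := H70.SpecCN.exists_order_half_psl (F := F) hodd false
            refine ⟨x, hx.trans ?_⟩
            simp only [Bool.false_eq_true, if_false]; omega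
          · obtain ⟨x, hx⟩ := H70.SpecCN.exists_order_half_psl (F := F) hodd true
            refine ⟨x, hx.trans ?_⟩
            simp only [if_true]; omega
        have := heven (e.symm x) (by
          rw [MulEquiv.orderOf_eq, hx]; exact dvd_pow_self 2 (by omega))
        rw [MulEquiv.orderOf_eq, hx] at this
        omega
  · exact Or.inr (Or.inl h3)
  · exfalso
    obtain ⟨F, _, _, m, hm', hF, ⟨e⟩⟩ := hsz
    haveI : Suzuki.SzField F m := ⟨hF, hm'⟩
    obtain ⟨x, hx⟩ := suzuki_order_four (F := F) m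
    have := heven ((e.trans (Suzuki.lieEquiv m).symm).symm x) (by
      rw [MulEquiv.orderOf_eq, hx]; norm_num)
    rw [MulEquiv.orderOf_eq, hx] at this
    omega

/-- An even mixed order. -/
theorem listed_even (hna : ¬ IsMulCommutative G) (h : OneComp G) {g₀ : G} {r : ℕ} (hr : r.Prime)
    (hr2 : r ≠ 2) (hg₀ : orderOf g₀ = 2 * r) : Listed G := by
  classical
  have hm1 : 1 < 2 * r := by have := hr.two_le; omega
  have hm : ¬ (2 * r).Prime := Nat.not_prime_mul (by norm_num) hr.ne_one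
  have hord := h.cases hg₀ hm1 hm
  let H : Hyp G :=
    { r := r
      hr := hr
      hr2 := hr2
      hna := hna
      heven := fun g hg => by
        rcases hord g with e | e | e
        · omega
        · exact Or.inl ((Nat.prime_dvd_prime_iff_eq Nat.prime_two e).1 hg).symm
        · exact Or.inr e
      hrord := fun g hg => by
        rcases hord g with e | e | e
        · exact absurd (Nat.dvd_one.1 (e ▸ hg)) hr.ne_one
        · exact Or.inl ((Nat.prime_dvd_prime_iff_eq hr e).1 hg).symm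
        · exact Or.inr e }
  obtain ⟨F, _, _, hodd, ⟨e⟩⟩ := H.iso_psl2_odd ⟨g₀, hg₀⟩
  have hF3 := (not_small hna e).2
  have hq2 : Fintype.card F % 2 = 1 := Nat.odd_iff.1 hodd
  have hq1 := Fintype.one_lt_card (α := F)
  obtain ⟨x, hx⟩ := H70.SpecCN.exists_order_half_psl (F := F) hq2 false
  obtain ⟨y, hy⟩ := H70.SpecCN.exists_order_half_psl (F := F) hq2 true
  simp only [Bool.false_eq_true, if_false] at hx
  simp only [if_true] at hy
  have hx' := hord (e.symm x)
  have hy' := hord (e.symm y)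
  rw [MulEquiv.orderOf_eq, hx] at hx'
  rw [MulEquiv.orderOf_eq, hy] at hy'
  have hrodd : r % 2 = 1 := hr.eq_two_or_odd.resolve_left hr2
  by_cases h5 : Fintype.card F = 5
  · exact listed_of_psl (Or.inl h5) e
  -- one half is `2r`, the other a prime
  obtain ⟨s, hs, hsr⟩ : ∃ s : ℕ, s.Prime ∧
      ((Fintype.card F + 1 = 4 * r ∧ Fintype.card F - 1 = 2 * s) ∨
        (Fintype.card F - 1 = 4 * r ∧ Fintype.card F + 1 = 2 * s)) := by
    rcases Nat.mod_two_eq_zero_or_one ((Fintype.card F - 1) / 2) with ha | ha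
    · have e1 : (Fintype.card F - 1) / 2 = 2 * r := by
        rcases hx' with e1 | e1 | e1
        · omega
        · rcases e1.eq_two_or_odd with h' | h' <;> omega
        · exact e1
      rcases hy' with e2 | e2 | e2
      · omega
      · exact ⟨_, e2, Or.inr ⟨by omega, by omega⟩⟩
      · omega
    · have e1 : (Fintype.card F + 1) / 2 = 2 * r := by
        rcases hy' with e1 | e1 | e1
        · omega
        · rcases e1.eq_two_or_odd with h' | h' <;> omega
        · exact e1
      rcases hx' with e2 | e2 | e2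
      · omega
      · exact ⟨_, e2, Or.inl ⟨by omega, by omega⟩⟩
      · omega
  by_cases h3q : 3 ∣ Fintype.card F
  · obtain ⟨p, hchar⟩ := CharP.exists F
    obtain ⟨n, hp, hn⟩ := FiniteField.card F p
    obtain rfl : 3 = p := (Nat.prime_dvd_prime_iff_eq Nat.prime_three hp).1
      (Nat.prime_three.dvd_of_dvd_pow (hn ▸ h3q))
    rcases hsr with ⟨h1, h2⟩ | ⟨h1, h2⟩
    · exact Or.inr (Or.inr (Or.inr (Or.inl ⟨F, _, _, (n : ℕ), s, r, hs, hr, hn ▸ h2, hn ▸ h1,
        hn, ⟨e⟩⟩)))
    · exfalso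
      rcases Nat.even_or_odd' (n : ℕ) with ⟨j, hj | hj⟩
      · have : 3 ^ (2 * j) % 8 = 1 := by rw [pow_mul, Nat.pow_mod]; norm_num
        rw [hn, hj] at h1; omega
      · have : 3 ^ (2 * j + 1) % 8 = 3 := by
          rw [pow_succ, pow_mul, Nat.mul_mod, Nat.pow_mod]; norm_num
        rw [hn, hj] at h1; omega
  · refine listed_of_psl ?_ e
    have h3 : r = 3 ∨ s = 3 := by
      have : 3 ∣ Fintype.card F - 1 ∨ 3 ∣ Fintype.card F + 1 := by
        obtain ⟨j, hj⟩ : ∃ j, Fintype.card F = 3 * j + 1 ∨ Fintype.card F = 3 * j + 2 :=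
          ⟨Fintype.card F / 3, by have := Nat.div_add_mod (Fintype.card F) 3; omega⟩
        rcases hj with hj | hj
        · exact Or.inl ⟨j, by omega⟩
        · exact Or.inr ⟨j + 1, by omega⟩
      have key : ∀ d : ℕ, 3 ∣ 4 * r ∨ 3 ∣ 2 * s → r = 3 ∨ s = 3 := fun _ hd => by
        rcases hd with hd | hd <;> rcases Nat.prime_three.dvd_mul.1 hd with h' | h'
        · norm_num at h'
        · exact Or.inl ((Nat.prime_dvd_prime_iff_eq Nat.prime_three hr).1 h').symm
        · norm_num at h'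
        · exact Or.inr ((Nat.prime_dvd_prime_iff_eq Nat.prime_three hs).1 h').symm
      refine key 0 ?_
      rcases hsr with ⟨h1, h2⟩ | ⟨h1, h2⟩ <;> omega
    have := hr.two_le
    omega

theorem listed (hna : ¬ IsMulCommutative G) (h : OneComp G) : Listed G := by
  by_cases he : H70.Eppo.IsEPPO G
  · exact listed_eppo hna h he
  simp only [H70.Eppo.IsEPPO, not_forall] at he
  obtain ⟨g, hg, hgp⟩ := he
  obtain ⟨p, q, hp, hq, hpq, ho⟩ := h.exists_two_primes hg hgp
  by_cases hp2 : p = 2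
  · subst hp2; exact listed_even hna h hq hpq.symm ho
  by_cases hq2 : q = 2
  · subst hq2; exact listed_even hna h hp hp2 (ho.trans (mul_comm _ _))
  exact listed_odd hna h hp hq hp2 hq2 ho

end Cfsg.Agent.H76.OneMixed
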