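import Cfsg.Agent.H76.OneMixed.Centralize
import Cfsg.Agent.H76.OneMixed.OddTransitive
import Cfsg.Agent.H39.ElemCount
import Cfsg.Agent.H26.StronglyEmbedded
import Cfsg.Agent.H70.Eppo.Numbers

/-!
Sylow 2-subgroups with trivial intersections in a group with one mixed order: the pair stabilisers
are odd and act faithfully on the Sylow subgroups.
-/

set_option autoImplicit false
set_option linter.style.haveILetI false
set_option linter.unusedSectionVars false

namespace Cfsg.Agent.H76.OneMixed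

open Subgroup MulAction
open scoped Pointwise

universe u

variable {G : Type u} [Group G] [Finite G]

/-- The normaliser of a Sylow 2-subgroup. -/
abbrev nrmS (S : Sylow 2 G) : Subgroup G := normalizer ((S : Subgroup G) : Set G)

/-- The stabiliser of two Sylow 2-subgroups. -/
abbrev pairStab (x y : Sylow 2 G) : Subgroup G := nrmS x ⊓ nrmS y

/-- Distinct Sylow 2-subgroups intersect trivially, and some element has order `2r`. -/
structure SEData (H : Hyp G) : Prop where
  ti : ∀ S S' : Sylow 2 G, ∀ u : G, u ∈ (S : Subgroup G) → u ∈ (S' : Subgroup G) → u ≠ 1 → S = S'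
  mixed : ∃ g : G, orderOf g = 2 * H.r

omit [Finite G] in
theorem mem_smul_iff {S : Sylow 2 G} {g a : G} :
    a ∈ ((g • S : Sylow 2 G) : Subgroup G) ↔ g⁻¹ * a * g ∈ (S : Subgroup G) := by
  rw [Sylow.coe_subgroup_smul, Subgroup.mem_pointwise_smul_iff_inv_smul_mem]
  simp [MulAut.smul_def]

omit [Finite G] in
theorem mem_nrmS_iff {S : Sylow 2 G} {a : G} : a ∈ nrmS S ↔ a • S = S :=
  Sylow.smul_eq_iff_mem_normalizer.symm

omit [Finite G] in
theorem mem_nrmS_smul_iff {S : Sylow 2 G} {g a : G} :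
    a ∈ nrmS (g • S) ↔ g⁻¹ * a * g ∈ nrmS S := by
  rw [mem_nrmS_iff, mem_nrmS_iff, mul_smul, mul_smul, inv_smul_eq_iff]

omit [Finite G] in
theorem conj_mem_sylow {S : Sylow 2 G} {n a : G} (hn : n ∈ nrmS S) (ha : a ∈ (S : Subgroup G)) :
    n * a * n⁻¹ ∈ (S : Subgroup G) :=
  (mem_normalizer_iff.1 hn a).1 ha

theorem card_sylow_eq (S S' : Sylow 2 G) :
    Nat.card (S : Subgroup G) = Nat.card (S' : Subgroup G) := by
  haveI : Fact (Nat.Prime 2) := ⟨Nat.prime_two⟩
  rw [S.card_eq_multiplicity, S'.card_eq_multiplicity]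

namespace Hyp

variable (H : Hyp G)

include H

theorem inv_eq_self_of_mem {S : Subgroup G} (hS : IsPGroup 2 S) {x : G} (hx : x ∈ S) : x⁻¹ = x :=
  inv_eq_of_mul_eq_one_right (H.sq_of_isPGroup hS hx)

theorem orderOf_two_of_sylow {S : Sylow 2 G} {x : G} (hx : x ∈ (S : Subgroup G)) (hx1 : x ≠ 1) :
    orderOf x = 2 :=
  H.orderOf_two_of_mem S.isPGroup' hx hx1

theorem exists_ne_one [IsSimpleGroup G] (S : Sylow 2 G) : ∃ t ∈ (S : Subgroup G), t ≠ 1 := by
  have h := H.four_le_sylow S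
  haveI : Nontrivial ↥(S : Subgroup G) := Finite.one_lt_card_iff_nontrivial.1 (by omega)
  obtain ⟨⟨t, ht⟩, ht1⟩ := exists_ne (1 : ↥(S : Subgroup G))
  exact ⟨t, ht, fun e => ht1 (Subtype.ext e)⟩

/-- An involution normalising a Sylow 2-subgroup lies in it. -/
theorem mem_of_mem_nrmS {S : Sylow 2 G} {u : G} (hu : orderOf u = 2) (hn : u ∈ nrmS S) :
    u ∈ (S : Subgroup G) := by
  haveI : Fact (Nat.Prime 2) := ⟨Nat.prime_two⟩
  have hz : IsPGroup 2 (zpowers u) :=
    IsPGroup.of_card (n := 1) (by rw [Nat.card_zpowers, hu, pow_one])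
  have hle := hz.to_sup_of_normal_right' S.isPGroup' (zpowers_le.2 hn)
  exact (S.is_maximal' hle le_sup_right) ▸ mem_sup_left (mem_zpowers u)

theorem exists_sylow_mem {u : G} (hu : orderOf u = 2) : ∃ S : Sylow 2 G, u ∈ (S : Subgroup G) := by
  haveI : Fact (Nat.Prime 2) := ⟨Nat.prime_two⟩
  have hz : IsPGroup 2 (zpowers u) :=
    IsPGroup.of_card (n := 1) (by rw [Nat.card_zpowers, hu, pow_one])
  obtain ⟨S, hS⟩ := hz.exists_le_sylow
  exact ⟨S, hS (mem_zpowers u)⟩

theorem nrmS_ne_top [IsSimpleGroup G] (S : Sylow 2 G) : nrmS S ≠ ⊤ := by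
  intro h
  rcases (normalizer_eq_top_iff.1 h).eq_bot_or_eq_top with e | e
  · obtain ⟨t, ht, ht1⟩ := H.exists_ne_one S
    rw [e, mem_bot] at ht
    exact ht1 ht
  · refine H.hna ⟨⟨fun a b => ?_⟩⟩
    exact (H.comm_of_isPGroup S.isPGroup' (e ▸ mem_top a) (e ▸ mem_top b)).eq

end Hyp

namespace SEData

variable {H : Hyp G} (E : SEData H)

include E

/-- The centraliser of an involution normalises its Sylow 2-subgroup. -/
theorem centralizer_le {S : Sylow 2 G} {u c : G} (hu : u ∈ (S : Subgroup G)) (hu1 : u ≠ 1)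
    (hc : Commute c u) : c ∈ nrmS S := by
  rw [mem_nrmS_iff]
  refine (E.ti _ _ u ?_ hu hu1)
  rw [mem_smul_iff, mul_assoc, ← hc.eq, inv_mul_cancel_left]
  exact hu

theorem eq_of_involution {x y : Sylow 2 G} {u : G} (hu : orderOf u = 2) (hx : u ∈ nrmS x)
    (hy : u ∈ nrmS y) : x = y :=
  E.ti x y u (H.mem_of_mem_nrmS hu hx) (H.mem_of_mem_nrmS hu hy)
    (fun h => by rw [h, orderOf_one] at hu; omega)

theorem odd_pairStab {x y : Sylow 2 G} (hxy : x ≠ y) : Odd (Nat.card (pairStab x y)) :=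
  H39.odd_card_of_forall fun _ hv h2 => hxy (E.eq_of_involution h2 hv.1 hv.2)

theorem odd_orderOf {x y : Sylow 2 G} (hxy : x ≠ y) {d : G} (hd : d ∈ pairStab x y) :
    Odd (orderOf d) :=
  H39.odd_of_mem (E.odd_pairStab hxy) hd

variable [IsSimpleGroup G]

theorem isStronglyEmbedded (T : Sylow 2 G) : Cfsg.IsStronglyEmbedded (nrmS T) := by
  obtain ⟨t, ht, ht1⟩ := H.exists_ne_one T
  have heven : Even (Nat.card (nrmS T)) := by
    rw [even_iff_two_dvd, ← H.orderOf_two_of_sylow ht ht1]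
    exact orderOf_dvd_natCard _ (le_normalizer ht)
  refine (H26.isStronglyEmbedded_iff_involution _ (H.nrmS_ne_top T) heven).2
    fun a ha ha2 g hg => ?_
  have ha' := H.mem_of_mem_nrmS ha2 ha
  have hg' := H.mem_of_mem_nrmS (by rw [H39.orderOf_conj]; exact ha2) hg
  rw [mem_nrmS_iff]
  refine E.ti _ _ (g * a * g⁻¹) ?_ hg' fun h => ?_
  · rw [mem_smul_iff]
    simpa [mul_assoc] using ha'
  · rw [conj_eq_one_iff] at h
    rw [h, orderOf_one] at ha2
    omega

theorem card_involutions (T : Sylow 2 G) :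
    Nat.card {t : G // orderOf t = 2 ∧ t ∈ nrmS T} + 1 = Nat.card (T : Subgroup G) := by
  classical
  haveI := Fintype.ofFinite ↥(T : Subgroup G)
  have e : {t : G // orderOf t = 2 ∧ t ∈ nrmS T} ≃ {t : ↥(T : Subgroup G) // t ≠ 1} :=
    { toFun := fun t => ⟨⟨t.1, H.mem_of_mem_nrmS t.2.1 t.2.2⟩, fun h => by
        have h' := t.2.1
        rw [show t.1 = 1 from congrArg Subtype.val h, orderOf_one] at h'
        omega⟩
      invFun := fun t => ⟨t.1, H.orderOf_two_of_sylow t.1.2 fun h => t.2 (Subtype.ext h),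
        le_normalizer t.1.2⟩
      left_inv := fun _ => rfl
      right_inv := fun _ => rfl }
  rw [Nat.card_congr e, Nat.card_eq_fintype_card, Nat.card_eq_fintype_card,
    Fintype.card_subtype_compl, Fintype.card_subtype_eq]
  have := Fintype.card_pos (α := ↥(T : Subgroup G))
  omega

/-- Exactly `q - 1` involutions map a Sylow 2-subgroup to another one. -/
theorem card_swap (x y : Sylow 2 G) :
    Nat.card {i : G // orderOf i = 2 ∧ i • x = y} + 1 = Nat.card (x : Subgroup G) := by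
  haveI : Fact (Nat.Prime 2) := ⟨Nat.prime_two⟩
  obtain ⟨b, rfl⟩ := MulAction.exists_smul_eq G x y
  have h := H39.se_card_swap (E.isStronglyEmbedded x) (QuotientGroup.mk 1) (QuotientGroup.mk b)
  rw [← E.card_involutions x, ← h]
  congr 1
  refine Nat.card_congr (Equiv.subtypeEquivRight fun i => and_congr_right fun _ => ?_)
  rw [MulAction.Quotient.smul_mk, smul_eq_mul, mul_one, QuotientGroup.eq]
  rw [mem_nrmS_iff, mul_smul, inv_smul_eq_iff, eq_comm]

theorem exists_swap {x y : Sylow 2 G} : ∃ u : G, orderOf u = 2 ∧ u • x = y := by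
  have h := E.card_swap x y
  have h4 := H.four_le_sylow x
  obtain ⟨⟨u, hu⟩⟩ := (Nat.card_pos_iff.1 (show 0 < Nat.card {i : G // orderOf i = 2 ∧ i • x = y}
    by omega)).1
  exact ⟨u, hu⟩

omit E [IsSimpleGroup G] in
theorem smul_symm {x y : Sylow 2 G} {u : G} (hu : orderOf u = 2) (h : u • x = y) : u • y = x := by
  rw [← h, smul_smul, H39.mul_self_of_orderOf_eq_two hu, one_smul]

omit E [IsSimpleGroup G] in
theorem conj_mem_pairStab {x y : Sylow 2 G} {u d : G} (hu : orderOf u = 2) (h : u • x = y)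
    (hd : d ∈ pairStab x y) : u * d * u⁻¹ ∈ pairStab x y := by
  have hui : u⁻¹ = u := inv_eq_of_mul_eq_one_right (H39.mul_self_of_orderOf_eq_two hu)
  have h' := smul_symm hu h
  obtain ⟨h1, h2⟩ := mem_inf.1 hd
  rw [mem_nrmS_iff] at h1 h2
  refine mem_inf.2 ⟨?_, ?_⟩ <;> rw [mem_nrmS_iff, hui, mul_smul, mul_smul]
  · rw [h, h2, h']
  · rw [h', h1, h]

/-- The pair stabiliser is transitive on the involutions of each Sylow subgroup. -/
theorem transitive {x y : Sylow 2 G} (hxy : x ≠ y) {s t : G} (hs : s ∈ (x : Subgroup G))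
    (hs1 : s ≠ 1) (ht : t ∈ (x : Subgroup G)) (ht1 : t ≠ 1) :
    ∃ d ∈ pairStab x y, d * s * d⁻¹ = t := by
  obtain ⟨u, hu, hux⟩ := E.exists_swap (x := x) (y := y)
  have huH : u ∉ nrmS x := fun h => hxy ((Sylow.smul_eq_iff_mem_normalizer.2 h).symm.trans hux)
  obtain ⟨d, hd, he⟩ := H39.se_transitive (E.isStronglyEmbedded x) huH
    (H.orderOf_two_of_sylow hs hs1) (le_normalizer hs) (H.orderOf_two_of_sylow ht ht1)
    (le_normalizer ht)
  refine ⟨d, mem_inf.2 ⟨(mem_inf.1 hd).1, ?_⟩, he⟩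
  rw [← hux, mem_nrmS_smul_iff]
  exact H39.mem_map_conj.1 (mem_inf.1 hd).2

/-- An element inverted by a swapping involution has odd centraliser. -/
theorem odd_centralizer_of_inverted {x y : Sylow 2 G} (hxy : x ≠ y) {u : G} (hu : orderOf u = 2)
    {d : G} (hd : d ∈ pairStab x y) (hd1 : d ≠ 1)
    (hinv : u * d * u⁻¹ = d⁻¹) : Odd (Nat.card (centralizer ({d} : Set G))) := by
  have hdo : Odd (orderOf d) := E.odd_orderOf hxy hd
  have hnsq : d⁻¹ ≠ d := fun h => hd1 (H39.eq_one_of_sq_of_odd (by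
    rw [pow_two]; nth_rewrite 1 [← h]; exact inv_mul_cancel d) hdo)
  refine H39.odd_card_of_forall fun v hv hv2 => ?_
  have hvd : Commute v d := mem_centralizer_singleton_iff.1 hv
  have huu := H39.mul_self_of_orderOf_eq_two hu
  have hui : u⁻¹ = u := inv_eq_of_mul_eq_one_right huu
  have hvi : v⁻¹ = v := inv_eq_of_mul_eq_one_right (H39.mul_self_of_orderOf_eq_two hv2)
  have hpm : ∀ k ∈ zpowers (u * v), k * d * k⁻¹ = d ∨ k * d * k⁻¹ = d⁻¹ := by
    intro k hk
    obtain ⟨i, rfl⟩ := mem_powers_iff_mem_zpowers.2 hk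
    show (u * v) ^ i * d * ((u * v) ^ i)⁻¹ = d ∨ (u * v) ^ i * d * ((u * v) ^ i)⁻¹ = d⁻¹
    clear hk
    induction i with
    | zero => left; simp
    | succ i ih =>
      have e : (u * v) ^ (i + 1) * d * ((u * v) ^ (i + 1))⁻¹ =
          u * (v * ((u * v) ^ i * d * ((u * v) ^ i)⁻¹) * v⁻¹) * u⁻¹ := by
        rw [pow_succ', mul_inv_rev, mul_inv_rev]; simp only [mul_assoc]
      rw [e]
      rcases ih with h | h
      · right
        rw [h, hvd.eq, mul_inv_cancel_right, hinv]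
      · left
        rw [h, hvd.inv_right.eq, mul_inv_cancel_right, ← conj_inv, hinv, inv_inv]
  -- an involution of `C(d)` commuting with `u`
  obtain ⟨w, hw, hwd, hwu⟩ : ∃ w : G, orderOf w = 2 ∧ Commute w d ∧ Commute w u := by
    rcases Nat.even_or_odd (orderOf (u * v)) with he | ho
    · obtain ⟨c, hc, hcz, hcv, hcu⟩ := H39.exists_central_involution hv2 hu he
      rcases hpm c hcz with h | h
      · exact ⟨c, hc, mul_inv_eq_iff_eq_mul.1 h, hcu⟩
      rcases eq_or_ne c u with rfl | hne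
      · exact ⟨v, hv2, hvd, hcv.symm⟩
      refine ⟨c * u, H39.orderOf_eq_two_of_mul_self ?_ ?_, ?_, ?_⟩
      · rw [mul_assoc, ← mul_assoc u c u, ← hcu.eq, mul_assoc c u u, huu, mul_one,
          H39.mul_self_of_orderOf_eq_two hc]
      · exact fun h1 => hne ((mul_eq_one_iff_eq_inv.1 h1).trans hui)
      · refine mul_inv_eq_iff_eq_mul.1 ?_
        rw [show c * u * d * (c * u)⁻¹ = c * (u * d * u⁻¹) * c⁻¹ by group, hinv, ← conj_inv, h,
          inv_inv]
      · exact hcu.mul_left (Commute.refl u)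
    · exfalso
      obtain ⟨k, hk, -, -, hkc⟩ := H39.exists_conj_of_odd hv2 hu ho
      have hc : Commute u (k * d * k⁻¹) := by
        rw [← hkc]
        show k * v * k⁻¹ * (k * d * k⁻¹) = k * d * k⁻¹ * (k * v * k⁻¹)
        calc k * v * k⁻¹ * (k * d * k⁻¹) = k * (v * d) * k⁻¹ := by group
          _ = k * (d * v) * k⁻¹ := by rw [hvd.eq]
          _ = k * d * k⁻¹ * (k * v * k⁻¹) := by group
      have hud2 : Commute u d := by
        rcases hpm k hk with h | h <;> rw [h] at hc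
        · exact hc
        · simpa using hc.inv_right
      exact hnsq (by rw [← hinv, hud2.eq, mul_inv_cancel_right])
  obtain ⟨S, hS⟩ := H.exists_sylow_mem hw
  have hw1 : w ≠ 1 := fun h => by rw [h, orderOf_one] at hw; omega
  have huS : u ∈ (S : Subgroup G) := H.mem_of_mem_nrmS hu (E.centralizer_le hS hw1 hwu.symm)
  have hdS : d ∈ nrmS S := E.centralizer_le hS hw1 hwd.symm
  have hmem : u * (d * u⁻¹ * d⁻¹) ∈ (S : Subgroup G) :=
    mul_mem huS (conj_mem_sylow hdS (inv_mem huS))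
  rw [show u * (d * u⁻¹ * d⁻¹) = (u * d * u⁻¹) * d⁻¹ by group, hinv] at hmem
  have h1 := H.sq_of_isPGroup S.isPGroup' hmem
  refine hnsq ?_
  have hsq : (d⁻¹ * d⁻¹) ^ 2 = 1 := by rw [pow_two]; exact h1
  have hod : Odd (orderOf (d⁻¹ * d⁻¹)) := by
    refine hdo.of_dvd_nat ?_
    rw [← pow_two, ← orderOf_inv d]
    exact orderOf_pow_dvd 2
  exact inv_eq_of_mul_eq_one_right (inv_injective (by
    rw [mul_inv_rev, inv_one]; exact H39.eq_one_of_sq_of_odd hsq hod))

end SEData

end Cfsg.Agent.H76.OneMixed
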