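import Cfsg.Agent.H76.OneMixed.SEFrob
import Cfsg.Agent.S2807

/-!
No group with one mixed order has Sylow 2-subgroups with trivial intersections.
-/

set_option autoImplicit false
set_option linter.style.haveILetI false
set_option linter.unusedSectionVars false

namespace Cfsg.Agent.H76.OneMixed

open Subgroup MulAction
open scoped Pointwise commutatorElement

universe u

variable {G : Type u} [Group G]

theorem commute_conj_of_exp_three {f g : G} (hg : g ^ 3 = 1)
    (h1 : (f * g) ^ 3 = 1) (h2 : (f * g⁻¹) ^ 3 = 1) : Commute f (g * f * g⁻¹) := by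
  have e1 : f * g * f = g⁻¹ * f⁻¹ * g⁻¹ := by
    rw [pow_three] at h1
    calc f * g * f = f * g * (f * g * (f * g)) * (g⁻¹ * f⁻¹ * g⁻¹) := by group
      _ = g⁻¹ * f⁻¹ * g⁻¹ := by rw [h1, one_mul]
  have e2 : f * g⁻¹ * f = g * f⁻¹ * g := by
    rw [pow_three] at h2
    calc f * g⁻¹ * f = f * g⁻¹ * (f * g⁻¹ * (f * g⁻¹)) * (g * f⁻¹ * g) := by group
      _ = g * f⁻¹ * g := by rw [h2, one_mul]
  have hgg : g * g = g⁻¹ := eq_inv_of_mul_eq_one_left (by rw [← hg, pow_three]; group)
  have hgi : g⁻¹ * g⁻¹ = g := by rw [← mul_inv_rev, hgg, inv_inv]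
  calc f * (g * f * g⁻¹) = (f * g * f) * g⁻¹ := by group
    _ = g⁻¹ * f⁻¹ * (g⁻¹ * g⁻¹) := by rw [e1]; group
    _ = g⁻¹ * f⁻¹ * g := by rw [hgi]
    _ = (g * g) * f⁻¹ * g := by rw [hgg]
    _ = g * (g * f⁻¹ * g) := by group
    _ = g * (f * g⁻¹ * f) := by rw [e2]
    _ = g * f * g⁻¹ * f := by group

/-- An involution acting on a group inverting it modulo its derived group centralises central
commutators. -/
theorem map_commutator_eq {P : Type*} [Group P] (c : P →* P)
    (hc : ∀ x : P, x * c x ∈ commutator P) (hle : commutator P ≤ center P) (a b : P) :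
    c ⁅a, b⁆ = ⁅a, b⁆ := by
  have hk : ∀ w : P, w * ⁅a, b⁆ = ⁅a, b⁆ * w := fun w =>
    Subgroup.mem_center_iff.1 (hle (commutator_mem_commutator (mem_top a) (mem_top b))) w
  have hsh : ∀ x : P, ∃ z ∈ center P, c x = x⁻¹ * z := fun x =>
    ⟨x * c x, hle (hc x), by group⟩
  obtain ⟨z₁, hz₁, e₁⟩ := hsh a
  obtain ⟨z₂, hz₂, e₂⟩ := hsh b
  rw [map_commutatorElement, e₁, e₂]
  have h1 : ∀ w : P, w * z₁ = z₁ * w := Subgroup.mem_center_iff.1 hz₁
  have h2 : ∀ w : P, w * z₂ = z₂ * w := Subgroup.mem_center_iff.1 hz₂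
  have hk' : ⁅a⁻¹, b⁻¹⁆ = ⁅a, b⁆ := by
    calc ⁅a⁻¹, b⁻¹⁆ = a⁻¹ * b⁻¹ * (⁅a, b⁆ * b * a) := by simp [commutatorElement_def, mul_assoc]
      _ = a⁻¹ * b⁻¹ * (b * a * ⁅a, b⁆) := by rw [hk (b * a), mul_assoc (⁅a, b⁆) b a]
      _ = ⁅a, b⁆ := by group
  rw [← hk']
  simp only [commutatorElement_def, mul_inv_rev, inv_inv]
  calc a⁻¹ * z₁ * (b⁻¹ * z₂) * (z₁⁻¹ * a) * (z₂⁻¹ * b)
      = a⁻¹ * (z₁ * (b⁻¹ * z₂)) * (z₁⁻¹ * a) * (z₂⁻¹ * b) := by group
    _ = a⁻¹ * ((b⁻¹ * z₂) * z₁) * (z₁⁻¹ * a) * (z₂⁻¹ * b) := by rw [h1 (b⁻¹ * z₂)]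
    _ = a⁻¹ * b⁻¹ * (z₂ * a) * z₂⁻¹ * b := by group
    _ = a⁻¹ * b⁻¹ * (a * z₂) * z₂⁻¹ * b := by rw [h2 a]
    _ = a⁻¹ * b⁻¹ * a * b := by group

/-- If a group of index two lies in the derived group, the outer involution inverts it modulo its
derived group. -/
theorem inverts_mod_commutator {P N : Subgroup G} {v : G} (hv : v * v = 1) (hvN : v ∈ N)
    (hPN : P ≤ N) (hvP : v ∉ P) (hidx : (P.subgroupOf N).index = 2) (hle : P ≤ ⁅N, N⁆)
    (hn : ∀ p ∈ P, v * p * v⁻¹ ∈ P) (p : P) :
    p * ⟨v * p * v⁻¹, hn p p.2⟩ ∈ commutator P := by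
  classical
  have hvi : v⁻¹ = v := inv_eq_of_mul_eq_one_right hv
  have hmem : ∀ m n : N, (m : G) * n ∈ P ↔ ((m : G) ∈ P ↔ (n : G) ∈ P) := fun m n => by
    have := mul_mem_iff_of_index_two hidx (a := m) (b := n)
    simpa [mem_subgroupOf] using this
  let θ : ↥P → Abelianization P := fun x =>
    Abelianization.of x * Abelianization.of (⟨v * x * v⁻¹, hn x x.2⟩ : P)
  have hθm : ∀ x y : P, θ (x * y) = θ x * θ y := by
    intro x y
    have e : (⟨v * (x * y : P) * v⁻¹, hn _ (x * y).2⟩ : P) =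
        ⟨v * x * v⁻¹, hn x x.2⟩ * ⟨v * y * v⁻¹, hn y y.2⟩ := Subtype.ext (by push_cast; group)
    simp only [θ]
    rw [e, map_mul, map_mul, mul_mul_mul_comm]
  have hθc : ∀ x : P, θ ⟨v * x * v⁻¹, hn x x.2⟩ = θ x := by
    intro x
    simp only [θ]
    rw [mul_comm]
    congr 2
    refine Subtype.ext ?_
    show v * (v * (x : G) * v⁻¹) * v⁻¹ = x
    rw [show v * (v * (x : G) * v⁻¹) * v⁻¹ = (v * v) * x * (v * v)⁻¹ by group, hv]
    group
  have hout : ∀ n : N, (n : G) ∉ P → (n : G) * v ∈ P := fun n hnP =>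
    (hmem n ⟨v, hvN⟩).2 ⟨fun h => absurd h hnP, fun h => absurd h hvP⟩
  let ν : ↥N → Abelianization P := fun n =>
    if h : (n : G) ∈ P then θ ⟨n, h⟩ else θ ⟨(n : G) * v, hout n h⟩
  have hνm : ∀ m n : N, ν (m * n) = ν m * ν n := by
    intro m n
    simp only [ν]
    by_cases hm : (m : G) ∈ P <;> by_cases hn' : (n : G) ∈ P
    · have hmn : ((m * n : N) : G) ∈ P := mul_mem hm hn'
      rw [dif_pos hm, dif_pos hn', dif_pos hmn, ← hθm]; rfl
    · have hmn : ((m * n : N) : G) ∉ P := fun h => hn' (((hmem m n).1 h).1 hm)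
      rw [dif_pos hm, dif_neg hn', dif_neg hmn, ← hθm]
      congr 1; exact Subtype.ext (by push_cast; group)
    · have hmn : ((m * n : N) : G) ∉ P := fun h => hm (((hmem m n).1 h).2 hn')
      rw [dif_neg hm, dif_pos hn', dif_neg hmn, ← hθc ⟨n, hn'⟩, ← hθm]
      congr 1; refine Subtype.ext ?_
      push_cast
      calc (m : G) * n * v = (m : G) * v * (v⁻¹ * n * v) := by group
        _ = (m : G) * v * (v * n * v⁻¹) := by rw [hvi]
    · have hmn : ((m * n : N) : G) ∈ P :=
        (hmem m n).2 ⟨fun h => absurd h hm, fun h => absurd h hn'⟩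
      rw [dif_neg hm, dif_neg hn', dif_pos hmn, ← hθc ⟨(n : G) * v, hout n hn'⟩, ← hθm]
      congr 1; refine Subtype.ext ?_
      push_cast
      calc (m : G) * n = (m : G) * (v * v) * n * (v * v⁻¹) := by rw [hv]; group
        _ = (m : G) * v * (v * ((n : G) * v) * v⁻¹) := by group
  have hker : (⟨p, hPN p.2⟩ : N) ∈ (MonoidHom.mk' ν hνm).ker := by
    refine Abelianization.commutator_subset_ker _ ?_
    obtain ⟨q, hq, he⟩ : (p : G) ∈ (commutator N).map N.subtype := by
      rw [map_subtype_commutator]; exact hle p.2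
    rwa [show (⟨p, hPN p.2⟩ : N) = q from Subtype.ext he.symm]
  rw [MonoidHom.mem_ker, MonoidHom.mk'_apply] at hker
  simp only [ν] at hker
  rw [dif_pos p.2] at hker
  simp only [θ] at hker
  rw [← map_mul] at hker
  exact (QuotientGroup.eq_one_iff _).1 hker

theorem sylow_card_nine [Fact (Nat.Prime 3)] (W : Sylow 3 (Equiv.Perm (Fin (3 ^ 2)))) :
    81 ≤ Nat.card (W : Subgroup (Equiv.Perm (Fin (3 ^ 2)))) := by
  rw [W.card_eq_multiplicity]
  refine Nat.le_of_dvd (by positivity) ?_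
  refine (show (81 : ℕ) = 3 ^ 4 by norm_num) ▸ pow_dvd_pow 3 ?_
  rw [← Nat.prime_three.pow_dvd_iff_le_factorization Nat.card_pos.ne', Nat.card_perm, Nat.card_fin]
  decide

variable [Finite G] [IsSimpleGroup G] {H : Hyp G}

/-- The trivial intersection configuration is impossible. -/
theorem SEData.false (E : SEData H) : False := by
  classical
  obtain ⟨x, y, t, f, hT⟩ := E.exists_twist
  obtain ⟨hr3, hC18, hL6, h9, hreal⟩ := hT.facts E
  haveI h3 : Fact (Nat.Prime 3) := ⟨Nat.prime_three⟩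
  haveI : Fact (Nat.Prime 2) := ⟨Nat.prime_two⟩
  haveI := Fact.mk H.hr
  set C := centralizer ({f} : Set G) with hC
  have hfo : orderOf f = 3 := hT.order_f.trans hr3
  have hf1 : f ≠ 1 := fun e => by rw [e, orderOf_one] at hfo; omega
  have hodd3 : Odd (orderOf f) := by rw [hfo]; decide
  have hfinv : f ≠ f⁻¹ := fun e => hf1 (H39.eq_one_of_sq_of_odd
    (by rw [pow_two]; nth_rewrite 2 [e]; exact mul_inv_cancel f) hodd3)
  have hfC : f ∈ C := mem_centralizer_singleton_iff.2 rfl
  have hp3 : ∀ {Q : Subgroup G}, IsPGroup 3 Q → IsPGroup H.r Q := fun {Q} h => by rw [hr3]; exact h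
  -- a Sylow 3-subgroup of the centraliser
  obtain ⟨RC, hRC⟩ := (((IsPGroup.of_card (n := 1) (G := ↥(zpowers f))
    (by rw [Nat.card_zpowers, hfo, pow_one])) : IsPGroup 3 ↥(zpowers f)).comap_subtype
      (K := C)).exists_le_sylow
  set A := (RC : Subgroup ↥C).map C.subtype with hA
  have hA9 : Nat.card A = 9 := by
    rw [hA, Subgroup.card_map_of_injective C.subtype_injective, RC.card_eq_multiplicity, hC18,
      show (9 : ℕ) = 3 ^ 2 by norm_num]
    congr 1
    refine le_antisymm ?_ ((Nat.prime_three.pow_dvd_iff_le_factorization (by norm_num)).1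
      (by norm_num))
    by_contra hlt
    have := (Nat.prime_three.pow_dvd_iff_le_factorization (k := 3) (n := 18) (by norm_num)).2
      (by omega)
    norm_num at this
  have hAC : A ≤ C := map_subtype_le _
  have hfA : f ∈ A := ⟨⟨f, hfC⟩, hRC (mem_subgroupOf.2 (mem_zpowers f)), rfl⟩
  obtain ⟨P, hAP'⟩ := (RC.isPGroup'.map C.subtype).exists_le_sylow
  have hAP : A ≤ (P : Subgroup G) := hAP'
  have hPp : IsPGroup 3 (P : Subgroup G) := P.isPGroup'
  have hexp : ∀ g ∈ (P : Subgroup G), g ^ 3 = 1 := fun g hg => by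
    rw [← hr3]; exact H.pow_r_of_mem (hp3 hPp) hg
  have hord : ∀ g ∈ (P : Subgroup G), g ≠ 1 → orderOf g = H.r := fun g hg hg1 =>
    H.orderOf_of_mem (hp3 hPp) hg hg1
  have hPC : (P : Subgroup G) ⊓ C = A := by
    refine (Subgroup.eq_of_le_of_card_ge (le_inf hAP hAC) ?_).symm
    obtain ⟨k, hk⟩ := IsPGroup.iff_card.1 (hPp.to_le (inf_le_left : (P : Subgroup G) ⊓ C ≤ _))
    have hd : 3 ^ k ∣ 18 := hk ▸ hC18 ▸ card_dvd_of_le inf_le_right
    rw [hA9, hk]
    refine le_trans (Nat.pow_le_pow_right (by norm_num) (?_ : k ≤ 2)) (by norm_num)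
    by_contra hk3
    have := (pow_dvd_pow 3 (show 3 ≤ k by omega)).trans hd
    norm_num at this
  obtain ⟨m, hm⟩ := IsPGroup.iff_card.1 hPp
  have hfP : f ∈ (P : Subgroup G) := hAP hfA
  -- the two possible orders
  have hshape : (Nat.card (P : Subgroup G) = 9 ∧ (P : Subgroup G) = A) ∨
      (Nat.card (P : Subgroup G) = 27 ∧ ¬ (P : Subgroup G) ≤ C) := by
    by_cases hcen : (P : Subgroup G) ≤ C
    · left
      have e : (P : Subgroup G) = A := by rw [← hPC, inf_eq_left.2 hcen]
      exact ⟨e ▸ hA9, e⟩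
    right
    refine ⟨?_, hcen⟩
    haveI : Nontrivial (P : Subgroup G) :=
      ⟨⟨⟨f, hfP⟩, 1, fun e => hf1 (congrArg Subtype.val e)⟩⟩
    haveI := hPp.center_nontrivial
    obtain ⟨⟨z, hzc⟩, hz1⟩ := exists_ne (1 : Subgroup.center (P : Subgroup G))
    have hzcomm : ∀ p ∈ (P : Subgroup G), Commute p (z : G) := fun p hp =>
      congrArg Subtype.val (Subgroup.mem_center_iff.1 hzc ⟨p, hp⟩)
    have hzA : (z : G) ∈ A := hPC ▸ mem_inf.2 ⟨z.2,
      mem_centralizer_singleton_iff.2 (hzcomm f hfP).symm.eq⟩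
    have hz1' : (z : G) ≠ 1 := fun e => hz1 (Subtype.ext (Subtype.ext e))
    letI : MulAction ↥(P : Subgroup G) G := MulAction.compHom _
      ((MulAut.conj : G →* MulAut G).comp (P : Subgroup G).subtype)
    have hst : stabilizer ↥(P : Subgroup G) f = A.subgroupOf (P : Subgroup G) := by
      ext g
      rw [mem_stabilizer_iff, mem_subgroupOf, ← hPC, mem_inf, mem_centralizer_singleton_iff]
      constructor
      · intro h; exact ⟨g.2, mul_inv_eq_iff_eq_mul.1 (h : (g : G) * f * (g : G)⁻¹ = f)⟩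
      · rintro ⟨-, h⟩
        show (g : G) * f * (g : G)⁻¹ = f
        rw [h, mul_inv_cancel_right]
    have horb : orbit ↥(P : Subgroup G) f ⊆ (A : Set G) \ (zpowers (z : G) : Set G) := by
      rintro _ ⟨g, rfl⟩
      show (g : G) * f * (g : G)⁻¹ ∈ (A : Set G) \ (zpowers (z : G) : Set G)
      have hmem : (g : G) * f * (g : G)⁻¹ ∈ (P : Subgroup G) :=
        mul_mem (mul_mem g.2 hfP) (inv_mem g.2)
      refine ⟨hPC ▸ mem_inf.2 ⟨hmem, mem_centralizer_singleton_iff.2 ?_⟩, fun h => hcen ?_⟩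
      · exact (commute_conj_of_exp_three (hexp _ g.2) (hexp _ (mul_mem hfP g.2))
          (hexp _ (mul_mem hfP (inv_mem g.2)))).eq.symm
      · intro p hp
        refine mem_centralizer_singleton_iff.2 ?_
        have h1 : ∀ q ∈ (P : Subgroup G), Commute q ((g : G) * f * (g : G)⁻¹) := fun q hq =>
          H39.commute_of_mem_zpowers (hzcomm q hq) h
        have h2 := h1 _ (mul_mem (mul_mem g.2 hp) (inv_mem g.2))
        calc p * f = (g : G)⁻¹ * (((g : G) * p * (g : G)⁻¹) * ((g : G) * f * (g : G)⁻¹)) * g := by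
              group
          _ = (g : G)⁻¹ * (((g : G) * f * (g : G)⁻¹) * ((g : G) * p * (g : G)⁻¹)) * g := by
              rw [h2.eq]
          _ = f * p := by group
    have hcard := Nat.card_congr (orbitProdStabilizerEquivGroup ↥(P : Subgroup G) f)
    rw [Nat.card_prod, hst, Nat.card_congr (subgroupOfEquivOfLe hAP).toEquiv, hA9,
      Nat.card_coe_set_eq, hm] at hcard
    have hle : (orbit ↥(P : Subgroup G) f).ncard ≤ 6 := by
      refine (Set.ncard_le_ncard horb (Set.toFinite _)).trans ?_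
      rw [Set.ncard_sdiff (fun w hw => (zpowers_le.2 hzA) hw) (Set.toFinite _),
        ← Nat.card_coe_set_eq, ← Nat.card_coe_set_eq]
      simp only [SetLike.coe_sort_coe]
      rw [hA9, Nat.card_zpowers, hord _ z.2 hz1', hr3]
    have hne : (orbit ↥(P : Subgroup G) f).ncard ≠ 1 := by
      intro h1
      refine hcen fun p hp => mem_centralizer_singleton_iff.2 ?_
      obtain ⟨w, hw⟩ := Set.ncard_eq_one.1 h1
      have e1 : f = w := by simpa [hw] using mem_orbit_self (M := ↥(P : Subgroup G)) f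
      have e2 : p * f * p⁻¹ ∈ orbit ↥(P : Subgroup G) f := ⟨⟨p, hp⟩, rfl⟩
      rw [hw, Set.mem_singleton_iff, ← e1] at e2
      exact mul_inv_eq_iff_eq_mul.1 e2
    rw [hm]
    have hm3 : m ≤ 3 := by
      by_contra hlt
      have : 3 ^ 4 ≤ 3 ^ m := Nat.pow_le_pow_right (by norm_num) (by omega)
      rw [← hcard] at this
      omega
    generalize (orbit ↥(P : Subgroup G) f).ncard = o at hcard hle hne
    interval_cases m
    all_goals omega
  have hP27 : Nat.card (P : Subgroup G) ≤ 27 := by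
    rcases hshape with ⟨h, -⟩ | ⟨h, -⟩ <;> omega
  set N := normalizer ((P : Subgroup G) : Set G) with hN
  have hPN : (P : Subgroup G) ≤ N := le_normalizer
  -- the Sylow 3-subgroup lies in the derived group of its normaliser
  have hfocal : (P : Subgroup G) ≤ ⁅N, N⁆ := by
    by_contra hne
    have hcomm : commutator G = ⊤ := by
      rcases (inferInstance : (commutator G).Normal).eq_bot_or_eq_top with e | e
      · exact absurd ((commutator_eq_bot_iff G).1 e) H.hna
      · exact e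
    obtain ⟨W, φ, hφ⟩ := S2807.result P (by
      rw [hcomm, inf_top_eq]; exact fun e => hne (e.le.trans inf_le_right))
    have := (sylow_card_nine W).trans (Nat.card_le_card_of_surjective φ hφ)
    omega
  -- elements with large centraliser fix no point
  have hkey : Nat.card (P : Subgroup G) = 27 → ∀ w ∈ (P : Subgroup G), w ≠ 1 →
      (∀ p ∈ (P : Subgroup G), Commute p w) → ∀ v : G, orderOf v = 2 → ¬ Commute v w := by
    intro h27 w hw hw1 hwc v hv hc
    obtain ⟨S, hS⟩ := H.exists_sylow_mem hv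
    have hwS : w ∈ nrmS S := E.centralizer_le hS (H39.ne_one_of_orderOf_eq_two hv) hc.symm
    obtain ⟨g, hg⟩ := MulAction.exists_smul_eq G S x
    have hwL : g * w * g⁻¹ ∈ nrmS x := by
      rw [← hg, mem_nrmS_smul_iff]; simpa [mul_assoc] using hwS
    have hsyl : ∀ z : G, z ∈ nrmS x → orderOf z = 3 →
        ∃ S : Sylow 3 ↥(nrmS x), (S : Subgroup ↥(nrmS x)) = (zpowers z).subgroupOf (nrmS x) := by
      intro z hz hzo
      have hp : IsPGroup 3 (zpowers z) :=
        IsPGroup.of_card (n := 1) (by rw [Nat.card_zpowers, hzo, pow_one])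
      obtain ⟨R, hR⟩ := (hp.comap_subtype (K := nrmS x)).exists_le_sylow
      refine ⟨R, (Subgroup.eq_of_le_of_card_ge hR ?_).symm⟩
      obtain ⟨k, hk⟩ := IsPGroup.iff_card.1 R.isPGroup'
      show _ ≤ Nat.card ↥((zpowers z).subgroupOf (nrmS x))
      rw [Nat.card_congr (subgroupOfEquivOfLe (zpowers_le.2 hz)).toEquiv, Nat.card_zpowers, hzo, hk]
      refine le_trans (Nat.pow_le_pow_right (by norm_num) ?_) (pow_one _).le
      by_contra hk2
      exact h9 ((pow_dvd_pow 3 (show 2 ≤ k by omega)).trans (hk ▸ card_subgroup_dvd_card _))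
    obtain ⟨R₁, hR₁⟩ := hsyl f (mem_inf.1 hT.mem_f).1 hfo
    obtain ⟨R₂, hR₂⟩ := hsyl _ hwL (by rw [H39.orderOf_conj, hord w hw hw1, hr3])
    obtain ⟨d, hd⟩ := MulAction.exists_smul_eq ↥(nrmS x) R₂ R₁
    set k := (d : G) * g with hk
    have hkw : k * w * k⁻¹ ∈ zpowers f := by
      have hmem : d * ⟨_, hwL⟩ * d⁻¹ ∈ ((d • R₂ : Sylow 3 ↥(nrmS x)) : Subgroup ↥(nrmS x)) := by
        rw [Sylow.coe_subgroup_smul, Subgroup.mem_pointwise_smul_iff_inv_smul_mem, hR₂,
          mem_subgroupOf]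
        simp [MulAut.smul_def, mul_assoc]
      rw [hd, hR₁, mem_subgroupOf] at hmem
      simpa [hk, mul_assoc] using hmem
    have hpow : f ∈ zpowers (k * w * k⁻¹) := by
      rw [Subgroup.eq_of_le_of_card_ge (zpowers_le.2 hkw) (by
        rw [Nat.card_zpowers, Nat.card_zpowers, hfo, H39.orderOf_conj, hord w hw hw1, hr3])]
      exact mem_zpowers f
    have hPk : (P : Subgroup G).map (MulAut.conj k).toMonoidHom ≤ C := by
      rintro _ ⟨p, hp, rfl⟩
      refine mem_centralizer_singleton_iff.2 (H39.commute_of_mem_zpowers ?_ hpow).eq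
      show k * p * k⁻¹ * (k * w * k⁻¹) = k * w * k⁻¹ * (k * p * k⁻¹)
      calc k * p * k⁻¹ * (k * w * k⁻¹) = k * (p * w) * k⁻¹ := by group
        _ = k * (w * p) * k⁻¹ := by rw [(hwc p hp).eq]
        _ = k * w * k⁻¹ * (k * p * k⁻¹) := by group
    have h1 := card_dvd_of_le hPk
    rw [H39.card_map_conj, h27, hC18] at h1
    norm_num at h1
  -- the centre in the larger case
  have hcenter : Nat.card (P : Subgroup G) = 27 →
      Nat.card (center (P : Subgroup G)) = 3 := by
    intro h27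
    haveI : Nontrivial (P : Subgroup G) :=
      ⟨⟨⟨f, hfP⟩, 1, fun e => hf1 (congrArg Subtype.val e)⟩⟩
    haveI := hPp.center_nontrivial
    have hle : center (P : Subgroup G) < A.subgroupOf (P : Subgroup G) := by
      refine lt_of_le_of_ne (fun z hz => ?_) fun e => ?_
      · rw [mem_subgroupOf, ← hPC]
        exact mem_inf.2 ⟨z.2, mem_centralizer_singleton_iff.2
          (congrArg Subtype.val (Subgroup.mem_center_iff.1 hz ⟨f, hfP⟩)).symm⟩
      · have hfc : (⟨f, hfP⟩ : (P : Subgroup G)) ∈ center (P : Subgroup G) := by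
          rw [e, mem_subgroupOf]; exact hfA
        rcases hshape with ⟨h, -⟩ | ⟨-, hn⟩
        · omega
        · exact hn fun p hp => mem_centralizer_singleton_iff.2
            (congrArg Subtype.val (Subgroup.mem_center_iff.1 hfc ⟨p, hp⟩))
    obtain ⟨k, hk⟩ := IsPGroup.iff_card.1 (hPp.to_subgroup (center (P : Subgroup G)))
    have h1 : Nat.card (center (P : Subgroup G)) < 9 := by
      rw [← hA9, ← Nat.card_congr (subgroupOfEquivOfLe hAP).toEquiv]
      by_contra hge
      exact hle.ne (Subgroup.eq_of_le_of_card_ge hle.le (not_lt.1 hge))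
    have h2 : 1 < Nat.card (center (P : Subgroup G)) := Finite.one_lt_card
    rw [hk] at h1 h2 ⊢
    rcases k with _ | _ | k
    · norm_num at h2
    · norm_num
    · have : 3 ^ 2 ≤ 3 ^ (k + 1 + 1) := Nat.pow_le_pow_right (by norm_num) (by omega)
      omega
  -- conjugation of a central element
  have hcenconj : Nat.card (P : Subgroup G) = 27 → ∀ z ∈ center (P : Subgroup G), z ≠ 1 →
      ∀ n ∈ N, Commute n (z : G) ∨ n * (z : G) * n⁻¹ = (z : G)⁻¹ := by
    intro h27 z hz hz1 n hn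
    have hzo : orderOf (z : G) = 3 :=
      (hord _ z.2 (fun e => hz1 (Subtype.ext e))).trans hr3
    have hconj : n * (z : G) * n⁻¹ ∈ (P : Subgroup G) := (mem_normalizer_iff.1 hn _).1 z.2
    have hmem : (⟨_, hconj⟩ : (P : Subgroup G)) ∈ center (P : Subgroup G) := by
      refine Subgroup.mem_center_iff.2 fun p => Subtype.ext ?_
      have hp' : n⁻¹ * (p : G) * n ∈ (P : Subgroup G) := by
        simpa using (mem_normalizer_iff.1 (inv_mem hn) _).1 p.2
      have h := congrArg Subtype.val (Subgroup.mem_center_iff.1 hz ⟨_, hp'⟩)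
      push_cast at h ⊢
      calc (p : G) * (n * (z : G) * n⁻¹) = n * ((n⁻¹ * p * n) * z) * n⁻¹ := by group
        _ = n * (z * (n⁻¹ * p * n)) * n⁻¹ := by rw [h]
        _ = n * (z : G) * n⁻¹ * p := by group
    have hz0 : zpowers z = center (P : Subgroup G) :=
      Subgroup.eq_of_le_of_card_ge (zpowers_le.2 hz)
        (by rw [hcenter h27, Nat.card_zpowers, ← orderOf_coe, hzo])
    rw [← hz0] at hmem
    obtain ⟨i₀, hi₀⟩ := mem_powers_iff_mem_zpowers.2 hmem
    obtain ⟨i, hi, he⟩ : ∃ i, i < 3 ∧ (z : G) ^ i = n * (z : G) * n⁻¹ := by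
      refine ⟨i₀ % 3, Nat.mod_lt _ (by norm_num), ?_⟩
      have hmod := pow_mod_orderOf (z : G) i₀
      rw [hzo] at hmod
      rw [hmod]
      exact congrArg Subtype.val hi₀
    interval_cases i
    · rw [pow_zero, eq_comm, conj_eq_one_iff] at he
      exact absurd (Subtype.ext he) hz1
    · left
      rw [pow_one] at he
      exact mul_inv_eq_iff_eq_mul.1 he.symm
    · right
      rw [← he]
      refine eq_inv_of_mul_eq_one_left ?_
      have hpow := pow_orderOf_eq_one (z : G)
      rw [hzo] at hpow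
      rw [← pow_succ]
      exact hpow
  -- odd primes other than three
  have hprimes : ∀ l : ℕ, l.Prime → l ∣ Nat.card N → l = 2 ∨ l = 3 := by
    intro l hl hld
    by_contra! hne
    haveI := Fact.mk hl
    obtain ⟨⟨n, hn⟩, hno⟩ := exists_prime_orderOf_dvd_card' l hld
    rw [orderOf_mk] at hno
    have hnodd : Odd (orderOf n) := hno ▸ hl.odd_of_ne_two hne.1
    have hnc : ∀ p ∈ (P : Subgroup G), p ≠ 1 → ¬ Commute n p := by
      intro p hp hp1 hc
      have := orderOf_dvd_of_pow_eq_one (H.pow_of_commute_r (hord p hp hp1) hnodd hc.symm)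
      rw [hno, hr3] at this
      exact hne.2 ((Nat.prime_dvd_prime_iff_eq hl Nat.prime_three).1 this)
    rcases hshape with ⟨h, -⟩ | ⟨h27, -⟩
    · letI : MulAction ↥(zpowers n) ↥(P : Subgroup G) :=
        MulAction.compHom _ (actHom (zpowers_le.2 hn : zpowers n ≤ N))
      have hz : IsPGroup l (zpowers n) :=
        IsPGroup.of_card (n := 1) (by rw [Nat.card_zpowers, hno, pow_one])
      have hfix : fixedPoints ↥(zpowers n) ↥(P : Subgroup G) = {1} := by
        ext p
        constructor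
        · intro hp
          by_contra hp1
          exact hnc p p.2 (fun e => hp1 (Subtype.ext e)) (mul_inv_eq_iff_eq_mul.1
            (congrArg Subtype.val (hp ⟨n, mem_zpowers n⟩) : n * (p : G) * n⁻¹ = p))
        · rintro rfl g
          exact Subtype.ext (by show (g : G) * 1 * (g : G)⁻¹ = 1; group)
      have h1 := hz.card_modEq_card_fixedPoints (α := ↥(P : Subgroup G))
      rw [h, hfix, Nat.card_eq_fintype_card, Fintype.card_unique] at h1
      have h2 := (Nat.modEq_iff_dvd' (by norm_num)).1 h1.symm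
      norm_num at h2
      have h3' : l ∣ 2 ^ 3 := by norm_num; exact h2
      exact hne.1 ((Nat.prime_dvd_prime_iff_eq hl Nat.prime_two).1 (hl.dvd_of_dvd_pow h3'))
    · haveI : Nontrivial (center (P : Subgroup G)) :=
        Finite.one_lt_card_iff_nontrivial.1 (by rw [hcenter h27]; norm_num)
      obtain ⟨⟨z, hz⟩, hz1⟩ := exists_ne (1 : center (P : Subgroup G))
      have hz1' : z ≠ 1 := fun e => hz1 (Subtype.ext e)
      have hzG : (z : G) ≠ 1 := fun e => hz1' (Subtype.ext e)
      rcases hcenconj h27 z hz hz1' n hn with hc | hinv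
      · exact hnc _ z.2 hzG hc
      · obtain ⟨j, hj⟩ := hnodd
        have h2 : Commute (n ^ 2) (z : G) := by
          refine mul_inv_eq_iff_eq_mul.1 ?_
          rw [pow_two, show n * n * (z : G) * (n * n)⁻¹ = n * (n * (z : G) * n⁻¹) * n⁻¹ by group,
            hinv, ← conj_inv, hinv, inv_inv]
        refine hnc _ z.2 hzG ?_
        have := h2.pow_left (j + 1)
        rwa [← pow_mul, show 2 * (j + 1) = (2 * j + 1) + 1 by ring, pow_succ, ← hj,
          pow_orderOf_eq_one, one_mul] at this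
  -- a Sylow 2-subgroup of the normaliser has order at most two
  obtain ⟨S₂, hS₂⟩ : ∃ S₂ : Sylow 2 ↥N, Nat.card (S₂ : Subgroup ↥N) ≤ 2 := by
    have hinvol : ∀ S₂ : Sylow 2 ↥N, ∀ w ∈ (S₂ : Subgroup ↥N), w ≠ 1 → orderOf (w : G) = 2 :=
      fun S₂ w hw hw1 => H.orderOf_two_of_mem (S₂.isPGroup'.map N.subtype) ⟨w, hw, rfl⟩
        fun e => hw1 (Subtype.ext e)
    rcases hshape with ⟨-, e⟩ | ⟨h27, -⟩
    · have htC : t ∈ C := mem_centralizer_singleton_iff.2 hT.comm.symm.eq
      have hCN : C ≤ N := by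
        intro c hc
        rw [hN, e]
        refine H39.mem_normalizer_of_conj_mem ?_
        rintro _ ⟨a, ha, rfl⟩
        haveI : (RC : Subgroup ↥C).Normal := normal_of_index_eq_two (by
          have h := (RC : Subgroup ↥C).card_mul_index
          rw [hC18, ← Subgroup.card_map_of_injective C.subtype_injective, ← hA, hA9] at h
          omega)
        exact ⟨⟨c, hc⟩ * a * ⟨c, hc⟩⁻¹, (inferInstance : (RC : Subgroup ↥C).Normal).conj_mem a ha _,
          rfl⟩
      have hz : IsPGroup 2 (zpowers t) := IsPGroup.of_card (n := 1)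
        (by rw [Nat.card_zpowers, H.orderOf_two_of_sylow hT.mem_t hT.ne_t, pow_one])
      obtain ⟨S₂, hle⟩ := (hz.comap_subtype (K := N)).exists_le_sylow
      refine ⟨S₂, ?_⟩
      have htS : (⟨t, hCN htC⟩ : ↥N) ∈ (S₂ : Subgroup ↥N) :=
        hle (mem_subgroupOf.2 (mem_zpowers t))
      have hle' : (S₂ : Subgroup ↥N).map N.subtype ≤ C := by
        rintro _ ⟨w, hw, rfl⟩
        refine mem_centralizer_singleton_iff.2 (hreal (w : G) ?_).eq
        have hwt : Commute (w : G) t := H.comm_of_isPGroup (S₂.isPGroup'.map N.subtype)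
          ⟨w, hw, rfl⟩ ⟨_, htS, rfl⟩
        have hmemP : (w : G) * f * (w : G)⁻¹ ∈ (P : Subgroup G) :=
          (mem_normalizer_iff.1 w.2 f).1 hfP
        have hmemC : (w : G) * f * (w : G)⁻¹ ∈ C := hAC (e ▸ hmemP)
        have hct : Commute ((w : G) * f * (w : G)⁻¹) t :=
          (hwt.mul_left hT.comm).mul_left hwt.inv_left
        exact eq_zpowers_of_dvd H.hr hT.order_f (S := nrmS x ⊓ C)
          (by rw [hL6, hr3]; norm_num)
          (mem_inf.2 ⟨(mem_inf.1 hT.mem_f).1, hfC⟩)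
          (mem_inf.2 ⟨E.centralizer_le hT.mem_t hT.ne_t hct, hmemC⟩)
          (H.pow_r_of_mem (hp3 hPp) hmemP) (mem_centralizer_singleton_iff.1 hmemC)
      have h1 := card_dvd_of_le hle'
      rw [Subgroup.card_map_of_injective N.subtype_injective, hC18] at h1
      obtain ⟨k, hk⟩ := IsPGroup.iff_card.1 S₂.isPGroup'
      rw [hk] at h1 ⊢
      by_contra hlt
      have hk2 : 2 ≤ k := by
        by_contra h
        interval_cases k <;> norm_num at hlt
      have := (pow_dvd_pow 2 hk2).trans h1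
      norm_num at this
    · refine ⟨default, ?_⟩
      set S₂ : Sylow 2 ↥N := default
      haveI : Nontrivial (center (P : Subgroup G)) :=
        Finite.one_lt_card_iff_nontrivial.1 (by rw [hcenter h27]; norm_num)
      obtain ⟨⟨z, hz⟩, hz1⟩ := exists_ne (1 : center (P : Subgroup G))
      have hz1' : z ≠ 1 := fun e => hz1 (Subtype.ext e)
      have hzG : (z : G) ≠ 1 := fun e => hz1' (Subtype.ext e)
      have hzc : ∀ p ∈ (P : Subgroup G), Commute p (z : G) := fun p hp =>
        congrArg Subtype.val (Subgroup.mem_center_iff.1 hz ⟨p, hp⟩)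
      have hinv : ∀ w ∈ (S₂ : Subgroup ↥N), w ≠ 1 → (w : G) * (z : G) * (w : G)⁻¹ = (z : G)⁻¹ :=
        fun w hw hw1 => (hcenconj h27 z hz hz1' w w.2).resolve_left
          (hkey h27 _ z.2 hzG hzc _ (hinvol S₂ w hw hw1))
      have huniq : ∀ w ∈ (S₂ : Subgroup ↥N), w ≠ 1 → ∀ w' ∈ (S₂ : Subgroup ↥N), w' ≠ 1 → w = w' := by
        intro w hw hw1 w' hw' hw1'
        by_contra hne
        have hprod : w⁻¹ * w' ≠ 1 := fun e => hne (inv_mul_eq_one.1 e)
        refine hkey h27 _ z.2 hzG hzc _ (hinvol S₂ _ (mul_mem (inv_mem hw) hw') hprod)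
          (mul_inv_eq_iff_eq_mul.1 ?_)
        push_cast
        rw [show (w : G)⁻¹ * w' * (z : G) * ((w : G)⁻¹ * w')⁻¹ =
          (w : G)⁻¹ * ((w' : G) * z * (w' : G)⁻¹) * w by group, hinv w' hw' hw1']
        have := congrArg (fun q => (w : G)⁻¹ * q * w) (hinv w hw hw1)
        simp only [mul_assoc, inv_mul_cancel_left, inv_mul_cancel, mul_one] at this
        rw [mul_assoc]
        exact this.symm
      by_contra hlt
      obtain ⟨w, hw1⟩ : ∃ w : (S₂ : Subgroup ↥N), w ≠ 1 := by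
        haveI : Nontrivial (S₂ : Subgroup ↥N) := Finite.one_lt_card_iff_nontrivial.1 (by omega)
        exact exists_ne 1
      have hsub : ((S₂ : Subgroup ↥N) : Set ↥N) ⊆ {1, (w : ↥N)} := fun w' hw' => by
        rcases eq_or_ne w' 1 with e | e
        · exact Or.inl e
        · exact Or.inr (huniq w' hw' e w w.2 fun e' => hw1 (Subtype.ext e'))
      have h1 := (Set.ncard_le_ncard hsub (Set.toFinite _)).trans
        ((Set.ncard_insert_le _ _).trans (by rw [Set.ncard_singleton]))
      rw [← Nat.card_coe_set_eq] at h1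
      simp only [SetLike.coe_sort_coe] at h1
      omega
  -- the order of the normaliser
  set P' : Sylow 3 ↥N := P.subtype hPN with hP'
  have hcP' : Nat.card (P' : Subgroup ↥N) = Nat.card (P : Subgroup G) :=
    Nat.card_congr (subgroupOfEquivOfLe hPN).toEquiv
  have hNcard : Nat.card N = Nat.card (P' : Subgroup ↥N) * Nat.card (S₂ : Subgroup ↥N) := by
    refine Nat.dvd_antisymm ?_ ?_
    · rw [← Nat.factorization_prime_le_iff_dvd Nat.card_pos.ne'
        (Nat.mul_pos Nat.card_pos Nat.card_pos).ne']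
      intro p hp
      by_cases hd : p ∣ Nat.card N
      · rw [← hp.pow_dvd_iff_le_factorization (Nat.mul_pos Nat.card_pos Nat.card_pos).ne']
        rcases hprimes p hp hd with rfl | rfl
        · exact dvd_mul_of_dvd_right (S₂.card_eq_multiplicity ▸ dvd_rfl) _
        · exact dvd_mul_of_dvd_left (P'.card_eq_multiplicity ▸ dvd_rfl) _
      · rw [Nat.factorization_eq_zero_of_not_dvd hd]; exact Nat.zero_le _
    · refine Nat.Coprime.mul_dvd_of_dvd_of_dvd ?_ (card_subgroup_dvd_card _) (card_subgroup_dvd_card _)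
      obtain ⟨i, hi⟩ := IsPGroup.iff_card.1 P'.isPGroup'
      obtain ⟨j, hj⟩ := IsPGroup.iff_card.1 S₂.isPGroup'
      rw [hi, hj]
      exact Nat.Coprime.pow _ _ (by norm_num)
  have hidx : ((P : Subgroup G).subgroupOf N).index = Nat.card (S₂ : Subgroup ↥N) := by
    have h := ((P : Subgroup G).subgroupOf N).card_mul_index
    rw [hNcard] at h
    exact Nat.eq_of_mul_eq_mul_left Nat.card_pos h
  rcases (show Nat.card (S₂ : Subgroup ↥N) = 1 ∨ Nat.card (S₂ : Subgroup ↥N) = 2 by
    have := Nat.card_pos (α := (S₂ : Subgroup ↥N)); omega) with h1 | h2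
  · have e : N = (P : Subgroup G) := by
      refine le_antisymm ?_ hPN
      rw [← subgroupOf_eq_top, ← Subgroup.index_eq_one, hidx, h1]
    rw [e] at hfocal
    haveI : Nontrivial (P : Subgroup G) := ⟨⟨⟨f, hfP⟩, 1, fun e => hf1 (congrArg Subtype.val e)⟩⟩
    haveI : Group.IsSolvable (P : Subgroup G) :=
      S0144.result 3 2 m 0 Nat.prime_three Nat.prime_two (hm.trans (by rw [pow_zero, mul_one]))
    refine (Group.IsSolvable.commutator_lt_top_of_nontrivial (P : Subgroup G)).ne
      (map_injective (P : Subgroup G).subtype_injective ?_)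
    rw [map_subtype_commutator, ← MonoidHom.range_eq_map, range_subtype]
    exact le_antisymm (commutator_le.2 fun a ha b hb =>
      mul_mem (mul_mem (mul_mem ha hb) (inv_mem ha)) (inv_mem hb)) hfocal
  obtain ⟨w, hw1⟩ : ∃ w : (S₂ : Subgroup ↥N), w ≠ 1 := by
    haveI : Nontrivial (S₂ : Subgroup ↥N) := Finite.one_lt_card_iff_nontrivial.1 (by omega)
    exact exists_ne 1
  set v : G := ((w : ↥N) : G) with hv
  have hvo : orderOf v = 2 := H.orderOf_two_of_mem (S₂.isPGroup'.map N.subtype)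
    ⟨_, w.2, rfl⟩ fun e => hw1 (Subtype.ext (Subtype.ext e))
  have hvP : v ∉ (P : Subgroup G) := fun h => by
    have := hord v h (H39.ne_one_of_orderOf_eq_two hvo)
    rw [hvo] at this
    exact H.hr2 this.symm
  have hn : ∀ p ∈ (P : Subgroup G), v * p * v⁻¹ ∈ (P : Subgroup G) := fun p hp =>
    (mem_normalizer_iff.1 (w : ↥N).2 p).1 hp
  have hinv := inverts_mod_commutator (H39.mul_self_of_orderOf_eq_two hvo) (w : ↥N).2 hPN hvP
    (hidx.trans h2) hfocal hn
  rcases hshape with ⟨h9', -⟩ | ⟨h27, hncen⟩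
  · have hcomm : ∀ a b : (P : Subgroup G), a * b = b * a :=
      IsPGroup.commutative_of_card_eq_prime_sq (h9'.trans (by norm_num : 9 = 3 ^ 2))
    have hbot : commutator (P : Subgroup G) = ⊥ :=
      (commutator_eq_bot_iff _).2 ⟨⟨hcomm⟩⟩
    have h := hinv ⟨f, hfP⟩
    rw [hbot, mem_bot] at h
    have h' : v * f * v⁻¹ = f⁻¹ := (inv_eq_of_mul_eq_one_right (congrArg Subtype.val h)).symm
    have hc := hreal v (h' ▸ inv_mem (mem_zpowers f))
    rw [hc.eq, mul_inv_cancel_right] at h'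
    exact hfinv h'
  · obtain ⟨a, b, hab⟩ : ∃ a b : (P : Subgroup G), ⁅a, b⁆ ≠ 1 := by
      by_contra! hall
      exact hncen fun p hp => mem_centralizer_singleton_iff.2
        (congrArg Subtype.val (commutatorElement_eq_one_iff_mul_comm.1 (hall ⟨p, hp⟩ ⟨f, hfP⟩)))
    have hle : commutator (P : Subgroup G) ≤ center (P : Subgroup G) := by
      rw [← Normal.quotient_commutative_iff_commutator_le]
      refine ⟨⟨IsPGroup.commutative_of_card_eq_prime_sq (p := 3) ?_⟩⟩
      have h := Subgroup.card_eq_card_quotient_mul_card_subgroup (center (P : Subgroup G))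
      rw [h27, hcenter h27] at h
      omega
    let c : ↥(P : Subgroup G) →* ↥(P : Subgroup G) :=
      MonoidHom.mk' (fun p => ⟨v * p * v⁻¹, hn p p.2⟩) fun p q => Subtype.ext (by push_cast; group)
    have hk := congrArg Subtype.val (map_commutator_eq c (fun p => hinv p) hle a b)
    refine hkey h27 _ ⁅a, b⁆.2 (fun e => hab (Subtype.ext e)) (fun p hp => ?_) v hvo
      (mul_inv_eq_iff_eq_mul.1 (hk : v * ((⁅a, b⁆ : (P : Subgroup G)) : G) * v⁻¹ = _))
    exact congrArg Subtype.val (Subgroup.mem_center_iff.1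
      (hle (commutator_mem_commutator (mem_top a) (mem_top b))) ⟨p, hp⟩)

end Cfsg.Agent.H76.OneMixed
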