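import Cfsg.Agent.H76.OneMixed.SETwoTrans

/-!
A twisted two-point stabiliser forces `r = 3` and an element of order three with centraliser of
order eighteen.
-/

set_option autoImplicit false
set_option linter.style.haveILetI false
set_option linter.unusedSectionVars false

namespace Cfsg.Agent.H76.OneMixed

open Subgroup MulAction
open scoped Pointwise

universe u

variable {G : Type u} [Group G] [Finite G]

/-- An `r`-element of a two-point stabiliser commuting with an involution and with a swap. -/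
structure Twist (H : Hyp G) (x y : Sylow 2 G) (t f : G) : Prop where
  ne : x ≠ y
  mem_t : t ∈ (x : Subgroup G)
  ne_t : t ≠ 1
  order_f : orderOf f = H.r
  mem_f : f ∈ pairStab x y
  comm : Commute f t
  fixed : ∀ s ∈ (x : Subgroup G), Commute f s → s = 1 ∨ s = t
  swap : ∃ u : G, orderOf u = 2 ∧ u • x = y ∧ Commute u f
  small : ¬ H.r ^ 2 ∣ Nat.card (pairStab x y)

omit [Finite G] in
theorem zpow_mem_conj {f n : G} (h : n * f * n⁻¹ ∈ zpowers f) {g : G} (hg : g ∈ zpowers f) :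
    n * g * n⁻¹ ∈ zpowers f := by
  obtain ⟨i, rfl⟩ := mem_zpowers_iff.1 hg
  rw [← conj_zpow]
  exact zpow_mem h i

theorem eq_zpowers_of_dvd {f : G} {r : ℕ} (hr : r.Prime) (hf : orderOf f = r) {S : Subgroup G}
    (hS : ¬ r ^ 2 ∣ Nat.card S) (hfS : f ∈ S) {g : G} (hg : g ∈ S) (hgr : g ^ r = 1)
    (hc : Commute g f) : g ∈ zpowers f := by
  by_contra hgf
  apply hS
  haveI := Fact.mk hr
  set X := zpowers f ⊔ zpowers g with hX
  have hd : zpowers f ⊓ zpowers g = ⊥ := by
    refine (eq_bot_iff_forall _).2 fun z hz => ?_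
    by_contra hz1
    have hzo : orderOf z = r := orderOf_eq_prime (by
      obtain ⟨i, rfl⟩ := mem_zpowers_iff.1 (mem_inf.1 hz).1
      rw [← zpow_natCast, ← zpow_mul, mul_comm, zpow_mul, zpow_natCast, ← hf, pow_orderOf_eq_one,
        one_zpow]) hz1
    have e1 : zpowers z = zpowers f := Subgroup.eq_of_le_of_card_ge (zpowers_le.2 (mem_inf.1 hz).1)
      (by rw [Nat.card_zpowers, Nat.card_zpowers, hzo, hf])
    have hg1 : g ≠ 1 := fun e => hgf (e ▸ one_mem _)
    have e2 : zpowers z = zpowers g := Subgroup.eq_of_le_of_card_ge (zpowers_le.2 (mem_inf.1 hz).2)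
      (by rw [Nat.card_zpowers, Nat.card_zpowers, hzo, orderOf_eq_prime hgr hg1])
    exact hgf (e1 ▸ e2 ▸ mem_zpowers g)
  have hcard := H41.card_sup_of_commute (zpowers f) (zpowers g) (fun a ha b hb => by
    obtain ⟨i, rfl⟩ := mem_zpowers_iff.1 ha
    obtain ⟨j, rfl⟩ := mem_zpowers_iff.1 hb
    exact ((hc.zpow_zpow j i).symm).eq) hd
  rw [Nat.card_zpowers, Nat.card_zpowers, hf,
    orderOf_eq_prime hgr (fun e => hgf (e ▸ one_mem _)), ← pow_two] at hcard
  exact hcard ▸ card_dvd_of_le (sup_le (zpowers_le.2 hfS) (zpowers_le.2 hg))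

namespace SEData

variable {H : Hyp G} (E : SEData H) [IsSimpleGroup G]

include E

theorem exists_twist : ∃ (x y : Sylow 2 G) (t f : G), Twist H x y t f := by
  classical
  haveI := Fact.mk H.hr
  haveI : Fact (Nat.Prime 2) := ⟨Nat.prime_two⟩
  obtain ⟨g, hg⟩ := not_forall.1 fun h' =>
    H.nrmS_ne_top (default : Sylow 2 G) ((eq_top_iff' _).2 h')
  set x : Sylow 2 G := default with hx
  set y := g • x with hy
  have hxy : x ≠ y := fun h => hg (mem_nrmS_iff.2 h.symm)
  obtain ⟨P, hP⟩ := E.exists_torus hxy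
  obtain ⟨hnr, hst⟩ := hP.shape.resolve_left (E.not_regular hxy hP)
  obtain ⟨t₀, ht₀, ht₀1⟩ := H.exists_ne_one x
  obtain ⟨-, hD⟩ := hst t₀ ht₀ ht₀1
  have hPc := hP.card
  have hPodd := hP.odd_card E hxy
  obtain ⟨u, hu, hux⟩ := E.exists_swap (x := x) (y := y)
  have hui : u⁻¹ = u := H39.inv_eq_of_orderOf_eq_two hu
  have huu := H39.mul_self_of_orderOf_eq_two hu
  -- a fixed element outside the torus
  obtain ⟨c, hc, hcP⟩ : ∃ c ∈ pairStab x y, c ∉ P := by
    by_contra! h
    have := Subgroup.eq_of_le_of_card_ge hP.le (Nat.le_of_dvd Nat.card_pos (card_dvd_of_le h))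
    exact E.not_regular hxy hP this
  set e := c⁻¹ * (u * c * u⁻¹) with he
  have heD : e ∈ pairStab x y := mul_mem (inv_mem hc) (conj_mem_pairStab hu hux hc)
  have hei : u * e * u⁻¹ = e⁻¹ := by
    rw [he, show u * (c⁻¹ * (u * c * u⁻¹)) * u⁻¹ = (u * c * u⁻¹)⁻¹ * ((u * u) * c * (u * u)⁻¹) by
      group, huu]
    simp
  have heP : e ∈ P := (hP.inv_iff u hu hux e heD).1 hei
  obtain ⟨j, hj⟩ := hPodd.of_dvd_nat (orderOf_dvd_natCard P heP)
  set h := e ^ (j + 1) with hh
  have hh2 : h * h = e := by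
    rw [hh, ← pow_add, show j + 1 + (j + 1) = (2 * j + 1) + 1 by ring, ← hj, pow_succ,
      pow_orderOf_eq_one, one_mul]
  have hhP : h ∈ P := pow_mem heP _
  set f := c * h with hf
  have hfD : f ∈ pairStab x y := mul_mem hc (hP.le hhP)
  have hfu : Commute u f := by
    refine mul_inv_eq_iff_eq_mul.1 ?_
    calc u * f * u⁻¹ = (u * c * u⁻¹) * (u * h * u⁻¹) := by rw [hf]; group
      _ = c * e * h⁻¹ := by rw [(hP.inv_iff u hu hux h (hP.le hhP)).2 hhP, he]; group
      _ = f := by rw [← hh2, hf]; group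
  have hfP : f ∉ P := fun h' => hcP (by
    have := mul_mem h' (inv_mem hhP)
    rwa [hf, mul_inv_cancel_right] at this)
  have hf1 : f ≠ 1 := fun e' => hfP (e' ▸ one_mem P)
  have hfr : orderOf f = H.r := by
    by_cases hd : H.r ∣ orderOf f
    · rcases H.hrord f hd with e' | e'
      · exact e'
      · exact (H.not_two_mul_odd e' (E.odd_orderOf hxy hfD)).elim
    exfalso
    haveI : (P.subgroupOf (pairStab x y)).Normal := normal_subgroupOf_of_le_normalizer hP.norm
    set f' : ↥(pairStab x y) := ⟨f, hfD⟩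
    have h2 : Nat.card (↥(pairStab x y) ⧸ P.subgroupOf (pairStab x y)) = H.r := by
      have h := Subgroup.card_eq_card_quotient_mul_card_subgroup (P.subgroupOf (pairStab x y))
      rw [Nat.card_congr (subgroupOfEquivOfLe hP.le).toEquiv, hD, mul_comm] at h
      exact (Nat.eq_of_mul_eq_mul_right Nat.card_pos h).symm
    have h1 : orderOf (QuotientGroup.mk f' : _ ⧸ P.subgroupOf (pairStab x y)) ∣ orderOf f := by
      refine (orderOf_map_dvd (QuotientGroup.mk' (P.subgroupOf (pairStab x y))) f').trans ?_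
      rw [← orderOf_coe]
    have h3 := Nat.eq_one_of_dvd_coprimes ((Nat.Prime.coprime_iff_not_dvd H.hr).2 hd)
      (h2 ▸ orderOf_dvd_natCard _) h1
    rw [orderOf_eq_one_iff, QuotientGroup.eq_one_iff] at h3
    exact hfP h3
  -- it fixes an involution of `x`
  obtain ⟨t, ht, ht1, hft⟩ : ∃ t ∈ (x : Subgroup G), t ≠ 1 ∧ Commute f t := by
    have hz : IsPGroup H.r (zpowers f) :=
      IsPGroup.of_card (n := 1) (by rw [Nat.card_zpowers, hfr, pow_one])
    have hle : zpowers f ≤ nrmS x := zpowers_le.2 (mem_inf.1 hfD).1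
    letI : MulAction ↥(zpowers f) ↥(x : Subgroup G) := MulAction.compHom _ (actHom hle)
    set X := {s : ↥(x : Subgroup G) // s ≠ 1}
    letI : MulAction ↥(zpowers f) X :=
      { smul := fun z s => ⟨z • s.1, fun e' => s.2 (MulAction.injective z (e'.trans (Subtype.ext
          (by show (1 : G) = (z : G) * 1 * (z : G)⁻¹; group))))⟩
        one_smul := fun s => Subtype.ext (one_smul _ s.1)
        mul_smul := fun a b s => Subtype.ext (mul_smul a b s.1) }
    have hXc : Nat.card X = Nat.card P := by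
      haveI := Fintype.ofFinite ↥(x : Subgroup G)
      have := Nat.card_pos (α := ↥(x : Subgroup G))
      simp only [X, Nat.card_eq_fintype_card, Fintype.card_subtype_compl, Fintype.card_subtype_eq]
      rw [← Nat.card_eq_fintype_card (α := ↥(x : Subgroup G))]
      rw [← hPc]
      simp
    obtain ⟨s, hs⟩ := hz.nonempty_fixed_point_of_prime_not_dvd_card X (hXc ▸ hnr)
    refine ⟨s.1, s.1.2, fun e' => s.2 (Subtype.ext e'), ?_⟩
    exact mul_inv_eq_iff_eq_mul.1 (congrArg (fun w : X => ((w.1 : ↥(x : Subgroup G)) : G))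
      (hs ⟨f, mem_zpowers f⟩) : f * (s.1 : G) * f⁻¹ = s.1)
  refine ⟨x, y, t, f, hxy, ht, ht1, hfr, hfD, hft, fun s hs hfs => ?_, ⟨u, hu, hux, hfu⟩, ?_⟩
  · by_contra! hne
    obtain ⟨p, hp, hpe⟩ := hP.exists_conj_eq ht ht1 hs hne.1
    have hcP' : p⁻¹ * f * p * f⁻¹ ∈ P := by
      rw [show p⁻¹ * f * p * f⁻¹ = p⁻¹ * (f * p * f⁻¹) by group]
      exact mul_mem (inv_mem hp) ((mem_normalizer_iff.1 (hP.norm hfD) p).1 hp)
    have hcomm : Commute (p⁻¹ * f * p * f⁻¹) t := by
      have h1 : Commute (p⁻¹ * f * p) t := by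
        refine mul_inv_eq_iff_eq_mul.1 ?_
        calc p⁻¹ * f * p * t * (p⁻¹ * f * p)⁻¹ = p⁻¹ * (f * (p * t * p⁻¹) * f⁻¹) * p := by group
          _ = p⁻¹ * (p * t * p⁻¹) * p := by rw [hpe, hfs.eq, mul_inv_cancel_right]
          _ = t := by group
      exact h1.mul_left hft.inv_left
    have he1 : p⁻¹ * f * p * f⁻¹ = 1 := by
      by_contra h1
      exact ht1 (hP.fpf _ hcP' h1 t ht hcomm)
    have hfp : Commute f p := by
      rw [mul_inv_eq_one, mul_assoc, inv_mul_eq_iff_eq_mul] at he1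
      exact he1
    have hp1 : p = 1 := by
      have h2 := orderOf_dvd_of_pow_eq_one (H.pow_of_commute_r hfr
        (hPodd.of_dvd_nat (orderOf_dvd_natCard P hp)) hfp)
      rcases (Nat.dvd_prime H.hr).1 h2 with e' | e'
      · exact orderOf_eq_one_iff.1 e'
      · exact absurd (e' ▸ orderOf_dvd_natCard P hp) hnr
    rw [hp1, one_mul, inv_one, mul_one] at hpe
    exact hne.2 hpe.symm
  · rw [hD, pow_two]
    exact fun h' => hnr (Nat.dvd_of_mul_dvd_mul_right H.hr.pos h')

end SEData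

namespace Twist

variable {H : Hyp G} [IsSimpleGroup G] {x y : Sylow 2 G} {t f : G} (hT : Twist H x y t f)
  (E : SEData H)

include hT E

/-- Elements of `N(x)` normalising `⟨f⟩` centralise it. -/
theorem commute_of_normalizes {g : G} (hg : g ∈ nrmS x) (hgf : g * f * g⁻¹ ∈ zpowers f) :
    Commute g f := by
  haveI := Fact.mk H.hr
  have ht2 := H.orderOf_two_of_sylow hT.mem_t hT.ne_t
  have key : ∀ a : G, a ∈ nrmS x → a * f * a⁻¹ ∈ zpowers f → Odd (orderOf a) ∨ orderOf a = 2 →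
      Commute a f := by
    intro a ha haf hor
    rcases hor with ho | ho
    · rcases eq_or_ne a 1 with rfl | ha1
      · exact Commute.one_left f
      obtain ⟨i, hi⟩ := mem_zpowers_iff.1 haf
      have hat : Commute a t := by
        have hs : a * t * a⁻¹ ∈ (x : Subgroup G) := conj_mem_sylow ha hT.mem_t
        have hfs : Commute f (a * t * a⁻¹) := by
          have hc : Commute (a⁻¹ * f * a) t := by
            have hmem : a⁻¹ * f * a ∈ zpowers f := by
              have hN : a ∈ normalizer ((zpowers f : Subgroup G) : Set G) :=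
                H39.mem_normalizer_of_conj_mem fun z hz => zpow_mem_conj haf hz
              simpa using (mem_normalizer_iff.1 (inv_mem hN) f).1 (mem_zpowers f)
            exact (H39.commute_of_mem_zpowers hT.comm.symm hmem).symm
          calc f * (a * t * a⁻¹) = a * ((a⁻¹ * f * a) * t) * a⁻¹ := by group
            _ = a * (t * (a⁻¹ * f * a)) * a⁻¹ := by rw [hc.eq]
            _ = a * t * a⁻¹ * f := by group
        rcases hT.fixed _ hs hfs with e | e
        · exact absurd (conj_eq_one_iff.1 e) hT.ne_t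
        · exact mul_inv_eq_iff_eq_mul.1 e
      have har := H.order_of_commute_involution ht2 ho ha1 hat.symm
      -- `a` induces an automorphism of order dividing `r` and `r - 1`
      by_contra hne
      have hN : a ∈ normalizer ((zpowers f : Subgroup G) : Set G) :=
        H39.mem_normalizer_of_conj_mem fun z hz => zpow_mem_conj haf hz
      have := FiveOrbits.dvd_sub_one_of_normalizes H.hr H.hr hT.order_f har hne hN
      have := Nat.le_of_dvd (by have := H.hr.two_le; omega) this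
      have := H.hr.two_le
      omega
    · have hax := H.mem_of_mem_nrmS ho ha
      have h1 : a * (f * a⁻¹ * f⁻¹) ∈ (x : Subgroup G) :=
        mul_mem hax (conj_mem_sylow (mem_inf.1 hT.mem_f).1 (inv_mem hax))
      have h2 : a * (f * a⁻¹ * f⁻¹) ∈ zpowers f := by
        rw [show a * (f * a⁻¹ * f⁻¹) = (a * f * a⁻¹) * f⁻¹ by group]
        exact mul_mem haf (inv_mem (mem_zpowers f))
      have h3 := H39.eq_one_of_sq_of_odd (by rw [pow_two]; exact H.sq_of_isPGroup x.isPGroup' h1)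
        ((hT.order_f ▸ H.odd_r : Odd (orderOf f)).of_dvd_nat (orderOf_dvd_of_mem_zpowers h2))
      refine mul_inv_eq_iff_eq_mul.1 ?_
      rw [← mul_inv_eq_one, ← h3]
      group
  have hN : g ∈ normalizer ((zpowers f : Subgroup G) : Set G) :=
    H39.mem_normalizer_of_conj_mem fun z hz => zpow_mem_conj hgf hz
  have hpow : ∀ k : ℕ, g ^ k * f * (g ^ k)⁻¹ ∈ zpowers f := fun k =>
    (mem_normalizer_iff.1 (pow_mem hN k) f).1 (mem_zpowers f)
  rcases Nat.even_or_odd (orderOf g) with he | ho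
  · rcases H.heven g (even_iff_two_dvd.1 he) with e | e
    · exact key g hg hgf (Or.inr e)
    have h1 : orderOf (g ^ H.r) = 2 := by
      rw [orderOf_pow_of_dvd H.hr.ne_zero (e ▸ dvd_mul_left H.r 2), e,
        Nat.mul_div_cancel _ H.hr.pos]
    have h2 : orderOf (g ^ 2) = H.r := by
      rw [orderOf_pow_of_dvd two_ne_zero (e ▸ dvd_mul_right 2 H.r), e,
        Nat.mul_div_cancel_left _ two_pos]
    obtain ⟨k, hk⟩ := H.odd_r
    have hg' : g = (g ^ 2) ^ (k + 1) * g ^ H.r := by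
      rw [← pow_mul, ← pow_add, show 2 * (k + 1) + H.r = 2 * H.r + 1 by omega, pow_succ, ← e,
        pow_orderOf_eq_one, one_mul]
    rw [hg']
    exact ((key _ (pow_mem hg 2) (hpow 2) (Or.inl (h2 ▸ H.odd_r))).pow_left _).mul_left
      (key _ (pow_mem hg _) (hpow _) (Or.inr h1))
  · exact key g hg hgf (Or.inl ho)

theorem card_two_part : Nat.card ↥((x : Subgroup G) ⊓ centralizer ({f} : Set G)) ≤ 2 := by
  rw [← SetLike.coe_sort_coe, Nat.card_coe_set_eq]
  refine (Set.ncard_le_ncard (t := {1, t}) ?_ (Set.toFinite _)).trans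
    ((Set.ncard_insert_le _ _).trans (by rw [Set.ncard_singleton]))
  rintro s ⟨hs, hsf⟩
  simpa using hT.fixed s hs (mem_centralizer_singleton_iff.1 hsf : Commute s f).symm

theorem smul_fix_iff {a : Sylow 2 G} : f • a = a ↔ f ∈ nrmS a := mem_nrmS_iff.symm

/-- The centraliser of `f` in `N(x)` is transitive on the other fixed points. -/
theorem exists_centralizer_smul {a : Sylow 2 G} (ha : a ≠ x) (hfa : f ∈ nrmS a) :
    ∃ g ∈ nrmS x, Commute g f ∧ g • y = a := by
  haveI := Fact.mk H.hr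
  obtain ⟨n, hn, hna⟩ := E.exists_smul_eq hT.ne ha.symm
  have hnx : n • x = x := mem_nrmS_iff.1 hn
  set D' := pairStab x a with hD'
  have hfD : f ∈ D' := mem_inf.2 ⟨(mem_inf.1 hT.mem_f).1, hfa⟩
  have hnf : n * f * n⁻¹ ∈ D' := mem_inf.2
    ⟨mul_mem (mul_mem hn (mem_inf.1 hT.mem_f).1) (inv_mem hn), by
      rw [← hna, mem_nrmS_smul_iff]; simpa [mul_assoc] using (mem_inf.1 hT.mem_f).2⟩
  have hsmall : ¬ H.r ^ 2 ∣ Nat.card D' := by
    rw [hD', E.card_pairStab_eq hT.ne ha.symm]; exact hT.small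
  -- both generate Sylow subgroups of the pair stabiliser
  have hsyl : ∀ z : G, z ∈ D' → orderOf z = H.r →
      ∃ S : Sylow H.r ↥D', (S : Subgroup ↥D') = (zpowers z).subgroupOf D' := by
    intro z hz hzo
    have hp : IsPGroup H.r (zpowers z) :=
      IsPGroup.of_card (n := 1) (by rw [Nat.card_zpowers, hzo, pow_one])
    obtain ⟨S, hS⟩ := (hp.comap_subtype (K := D')).exists_le_sylow
    refine ⟨S, (Subgroup.eq_of_le_of_card_ge hS ?_).symm⟩
    obtain ⟨k, hk⟩ := IsPGroup.iff_card.1 S.isPGroup'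
    show _ ≤ Nat.card ↥((zpowers z).subgroupOf D')
    rw [Nat.card_congr (subgroupOfEquivOfLe (zpowers_le.2 hz)).toEquiv, Nat.card_zpowers, hzo, hk]
    refine le_trans (Nat.pow_le_pow_right H.hr.pos ?_) (pow_one _).le
    by_contra hk2
    exact hsmall ((pow_dvd_pow _ (by omega)).trans (hk ▸ card_subgroup_dvd_card _))
  obtain ⟨S₁, hS₁⟩ := hsyl f hfD hT.order_f
  obtain ⟨S₂, hS₂⟩ := hsyl _ hnf (by rw [H39.orderOf_conj, hT.order_f])
  obtain ⟨d, hd⟩ := MulAction.exists_smul_eq ↥D' S₂ S₁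
  set g := (d : G) * n with hg
  have hgx : g ∈ nrmS x := mul_mem (mem_inf.1 d.2).1 hn
  have hgf : g * f * g⁻¹ ∈ zpowers f := by
    have hmem : d * ⟨n * f * n⁻¹, hnf⟩ * d⁻¹ ∈ ((d • S₂ : Sylow H.r ↥D') : Subgroup ↥D') := by
      rw [Sylow.coe_subgroup_smul, Subgroup.mem_pointwise_smul_iff_inv_smul_mem, hS₂,
        mem_subgroupOf]
      simp [MulAut.smul_def, mul_assoc]
    rw [hd, hS₁, mem_subgroupOf] at hmem
    simpa [hg, mul_assoc] using hmem
  exact ⟨g, hgx, hT.commute_of_normalizes E hgx hgf, by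
    rw [hg, mul_smul, hna, mem_nrmS_iff.1 (mem_inf.1 d.2).2]⟩

/-- The numerical consequences. -/
theorem facts : H.r = 3 ∧ Nat.card (centralizer ({f} : Set G)) = 18 ∧
    Nat.card ↥(nrmS x ⊓ centralizer ({f} : Set G)) = 6 ∧ ¬ 9 ∣ Nat.card (nrmS x) ∧
    ∀ n : G, n * f * n⁻¹ ∈ zpowers f → Commute n f := by
  classical
  haveI := Fact.mk H.hr
  haveI : Fact (Nat.Prime 2) := ⟨Nat.prime_two⟩
  obtain ⟨u, hu, hux, huf⟩ := hT.swap
  set C := centralizer ({f} : Set G) with hC
  set L := nrmS x with hL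
  have htC : t ∈ L ⊓ C :=
    mem_inf.2 ⟨le_normalizer hT.mem_t, mem_centralizer_singleton_iff.2 hT.comm.symm.eq⟩
  have hfC : f ∈ L ⊓ C := mem_inf.2 ⟨(mem_inf.1 hT.mem_f).1, mem_centralizer_singleton_iff.2 rfl⟩
  -- the shape of the centraliser in `N(x)`
  have hfr : orderOf f = 2 ∨ orderOf f = H.r := Or.inr hT.order_f
  obtain ⟨a, b, hab⟩ := FiveOrbits.eq_prime_pow_mul (q := H.r) (Nat.card_pos (α := ↥(L ⊓ C))).ne'
    Nat.prime_two fun d hd hdvd =>
      H.prime_of_dvd_centralizer hfr hd (hdvd.trans (card_dvd_of_le inf_le_right))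
  have ha1 : a = 1 := by
    have h2 : 2 ∣ Nat.card ↥(L ⊓ C) := by
      rw [← H.orderOf_two_of_sylow hT.mem_t hT.ne_t]; exact orderOf_dvd_natCard _ htC
    rcases a with _ | _ | a
    · rw [hab, pow_zero, one_mul] at h2
      exact absurd (((Nat.prime_dvd_prime_iff_eq Nat.prime_two H.hr).1
        (Nat.prime_two.dvd_of_dvd_pow h2))) (Ne.symm H.hr2)
    · rfl
    exfalso
    obtain ⟨K, hK⟩ := Sylow.exists_subgroup_card_pow_prime (G := ↥(L ⊓ C)) 2 (n := 2)
      (hab ▸ (pow_dvd_pow 2 (by omega)).trans (dvd_mul_right _ _))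
    have hKle : K.map (L ⊓ C).subtype ≤ (x : Subgroup G) ⊓ C := by
      rintro _ ⟨k, hk, rfl⟩
      refine mem_inf.2 ⟨?_, (mem_inf.1 k.2).2⟩
      rcases eq_or_ne (k : G) 1 with e | e
      · simp only [coe_subtype, e]; exact one_mem _
      refine H.mem_of_mem_nrmS (FiveOrbits.orderOf_eq_two_of_sq ?_ e) (mem_inf.1 k.2).1
      exact H.sq_of_isPGroup ((IsPGroup.of_card (n := 2) hK).map _) ⟨k, hk, rfl⟩
    have h4 := (Nat.le_of_dvd Nat.card_pos (card_dvd_of_le hKle)).trans (hT.card_two_part E)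
    rw [Subgroup.card_map_of_injective (Subgroup.subtype_injective _), hK] at h4
    norm_num at h4
  have hb1 : 1 ≤ b := by
    have h2 : H.r ∣ Nat.card ↥(L ⊓ C) := by
      rw [← hT.order_f]; exact orderOf_dvd_natCard _ hfC
    rcases b with _ | b
    · rw [hab, ha1, pow_one, pow_zero, mul_one] at h2
      exact absurd ((Nat.prime_dvd_prime_iff_eq H.hr Nat.prime_two).1 h2) H.hr2
    · omega
  subst ha1
  rw [pow_one] at hab
  -- fixed points
  set Φ : Set (Sylow 2 G) := {a | f ∈ nrmS a} with hΦ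
  have hΦC : ∀ g ∈ C, ∀ a ∈ Φ, g • a ∈ Φ := fun g hg a ha => by
    show f ∈ nrmS (g • a)
    rw [mem_nrmS_smul_iff, mul_assoc, ← (mem_centralizer_singleton_iff.1 hg : g * f = f * g),
      inv_mul_cancel_left]
    exact ha
  have hxΦ : x ∈ Φ := (mem_inf.1 hT.mem_f).1
  have hyΦ : y ∈ Φ := (mem_inf.1 hT.mem_f).2
  have horb : orbit ↥(L ⊓ C) y = Φ \ {x} := by
    ext a
    constructor
    · rintro ⟨⟨g, hg⟩, rfl⟩
      refine ⟨hΦC g (mem_inf.1 hg).2 y hyΦ, fun h => hT.ne (MulAction.injective g ?_)⟩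
      exact (mem_nrmS_iff.1 (mem_inf.1 hg).1).trans (h : g • y = x).symm
    · rintro ⟨haΦ, hax⟩
      obtain ⟨g, hg, hgf, he⟩ := hT.exists_centralizer_smul E hax haΦ
      exact ⟨⟨g, mem_inf.2 ⟨hg, mem_centralizer_singleton_iff.2 hgf.eq⟩⟩, he⟩
  have hst : stabilizer ↥(L ⊓ C) y = (zpowers f).subgroupOf (L ⊓ C) := by
    ext g
    rw [mem_stabilizer_iff, mem_subgroupOf]
    constructor
    · intro h
      have hgD : (g : G) ∈ pairStab x y := mem_inf.2 ⟨(mem_inf.1 g.2).1, mem_nrmS_iff.2 h⟩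
      have hc : Commute (g : G) f := mem_centralizer_singleton_iff.1 (mem_inf.1 g.2).2
      exact eq_zpowers_of_dvd H.hr hT.order_f hT.small hT.mem_f hgD
        (H.pow_of_commute_r hT.order_f (E.odd_orderOf hT.ne hgD) hc.symm) hc
    · intro h
      exact mem_nrmS_iff.1 ((zpowers_le.2 (mem_inf.1 hT.mem_f).2) h)
  have hcount : (Φ \ {x}).ncard * H.r = 2 * H.r ^ b := by
    rw [← hab, ← Nat.card_congr (orbitProdStabilizerEquivGroup ↥(L ⊓ C) y), Nat.card_prod, hst,
      Nat.card_congr (subgroupOfEquivOfLe (zpowers_le.2 hfC)).toEquiv, Nat.card_zpowers,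
      hT.order_f, horb, Nat.card_coe_set_eq]
  obtain ⟨b', rfl⟩ := Nat.exists_eq_add_of_le hb1
  have hm : (Φ \ {x}).ncard = 2 * H.r ^ b' :=
    Nat.eq_of_mul_eq_mul_right H.hr.pos (hcount.trans (by rw [pow_add, pow_one]; ring))
  have horbC : orbit ↥C x = Φ := by
    ext a
    constructor
    · rintro ⟨⟨g, hg⟩, rfl⟩
      exact hΦC g hg x hxΦ
    · intro haΦ
      rcases eq_or_ne a x with rfl | hax
      · exact mem_orbit_self _
      obtain ⟨g, hg, hgf, he⟩ := hT.exists_centralizer_smul E hax haΦ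
      refine ⟨⟨g * u, mul_mem (mem_centralizer_singleton_iff.2 hgf.eq)
        (mem_centralizer_singleton_iff.2 huf.eq)⟩, ?_⟩
      show (g * u) • x = a
      rw [mul_smul, hux, he]
  have hstC : stabilizer ↥C x = (L ⊓ C).subgroupOf C := by
    ext g
    rw [mem_stabilizer_iff, mem_subgroupOf]
    exact ⟨fun h => mem_inf.2 ⟨mem_nrmS_iff.2 h, g.2⟩, fun h => mem_nrmS_iff.1 (mem_inf.1 h).1⟩
  have hCcard : Nat.card C = (2 * H.r ^ b' + 1) * (2 * H.r ^ (1 + b')) := by
    rw [← Nat.card_congr (orbitProdStabilizerEquivGroup ↥C x), Nat.card_prod, hstC,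
      Nat.card_congr (subgroupOfEquivOfLe inf_le_right).toEquiv, hab, horbC,
      Nat.card_coe_set_eq, ← hm, Set.ncard_sdiff_singleton_add_one hxΦ]
  have hprime : ∀ p : ℕ, p.Prime → p ∣ 2 * H.r ^ b' + 1 → p = H.r := by
    intro p hp hd
    rcases H.prime_of_dvd_centralizer hfr hp (hCcard ▸ hd.trans (dvd_mul_right _ _)) with e | e
    · subst e; omega
    · exact e
  obtain ⟨p, hp, hpd⟩ := Nat.exists_prime_and_dvd (n := 2 * H.r ^ b' + 1)
    (by have := Nat.one_le_pow b' H.r H.hr.pos; omega)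
  obtain rfl : b' = 0 := by
    by_contra hb
    have h1 : H.r ∣ 2 * H.r ^ b' := (dvd_pow_self H.r hb).mul_left 2
    have h2 := (Nat.dvd_add_right h1).1 (hprime p hp hpd ▸ hpd)
    exact H.hr.one_lt.ne' (Nat.dvd_one.1 h2)
  have hr3 : H.r = 3 := by
    have h := hprime p hp hpd ▸ hpd
    simp only [pow_zero, mul_one] at h
    exact (Nat.prime_dvd_prime_iff_eq H.hr Nat.prime_three).1 h
  have hLC : Nat.card ↥(L ⊓ C) = 6 := by rw [hab, hr3]; norm_num
  refine ⟨hr3, by rw [hCcard, hr3]; norm_num, hLC, ?_, ?_⟩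
  · intro h9
    -- a Sylow 3-subgroup containing `f`
    haveI : Fact (Nat.Prime 3) := ⟨Nat.prime_three⟩
    have hz : IsPGroup 3 (zpowers f) :=
      IsPGroup.of_card (n := 1) (by rw [Nat.card_zpowers, hT.order_f, hr3, pow_one])
    obtain ⟨R, hR⟩ := (hz.comap_subtype (K := L)).exists_le_sylow
    haveI : Nontrivial (R : Subgroup ↥L) := by
      rw [Subgroup.nontrivial_iff_ne_bot]
      exact R.ne_bot_of_dvd_card ((show 3 ∣ 9 by norm_num).trans h9)
    haveI := R.isPGroup'.center_nontrivial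
    obtain ⟨⟨z, hzc⟩, hz1⟩ := exists_ne (1 : Subgroup.center (R : Subgroup ↥L))
    have hfR : (⟨f, (mem_inf.1 hT.mem_f).1⟩ : ↥L) ∈ (R : Subgroup ↥L) :=
      hR (mem_subgroupOf.2 (mem_zpowers f))
    set zG : G := ((z : ↥L) : G) with hzG
    have hzf : Commute zG f :=
      (congrArg (fun w : (R : Subgroup ↥L) => ((w : ↥L) : G))
        (Subgroup.mem_center_iff.1 hzc ⟨_, hfR⟩)).symm
    have hz1' : zG ≠ 1 := fun e => hz1 (Subtype.ext (Subtype.ext (Subtype.ext e)))
    have hRp : IsPGroup H.r ((R : Subgroup ↥L).map L.subtype) := by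
      rw [hr3]; exact R.isPGroup'.map _
    have hzR : zG ∈ (R : Subgroup ↥L).map L.subtype := ⟨z, z.2, rfl⟩
    have hzmem : zG ∈ zpowers f := eq_zpowers_of_dvd H.hr hT.order_f
      (S := L ⊓ C) (by rw [hLC, hr3]; norm_num) hfC
      (mem_inf.2 ⟨(z : ↥L).2, mem_centralizer_singleton_iff.2 hzf.eq⟩)
      (H.pow_r_of_mem hRp hzR) hzf
    have hzpow : zpowers zG = zpowers f := Subgroup.eq_of_le_of_card_ge (zpowers_le.2 hzmem) (by
      rw [Nat.card_zpowers, Nat.card_zpowers, hT.order_f, H.orderOf_of_mem hRp hzR hz1'])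
    have hRC : (R : Subgroup ↥L).map L.subtype ≤ L ⊓ C := by
      rintro _ ⟨w, hw, rfl⟩
      refine mem_inf.2 ⟨w.2, mem_centralizer_singleton_iff.2 ?_⟩
      have hc : Commute (w : G) zG := congrArg (fun v : (R : Subgroup ↥L) => ((v : ↥L) : G))
        (Subgroup.mem_center_iff.1 hzc ⟨w, hw⟩)
      exact (H39.commute_of_mem_zpowers hc (hzpow ▸ mem_zpowers f)).eq
    have h3 := card_dvd_of_le hRC
    rw [hLC, Subgroup.card_map_of_injective L.subtype_injective] at h3
    have : 3 ^ 2 ∣ Nat.card (R : Subgroup ↥L) := by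
      rw [R.card_eq_multiplicity]
      exact pow_dvd_pow 3 ((Nat.prime_three.pow_dvd_iff_le_factorization Nat.card_pos.ne').1 h9)
    exact absurd (this.trans h3) (by norm_num)
  · intro n hn
    have hnN : n ∈ normalizer ((zpowers f : Subgroup G) : Set G) :=
      H39.mem_normalizer_of_conj_mem fun z hz => zpow_mem_conj hn hz
    have hnx : n • x ∈ Φ := by
      show f ∈ nrmS (n • x)
      rw [mem_nrmS_smul_iff]
      refine (zpowers_le.2 (mem_inf.1 hT.mem_f).1) ?_
      simpa using (mem_normalizer_iff.1 (inv_mem hnN) f).1 (mem_zpowers f)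
    obtain ⟨⟨c, hc⟩, hcx⟩ : n • x ∈ orbit ↥C x := horbC.symm ▸ hnx
    have hcf : Commute c f := mem_centralizer_singleton_iff.1 hc
    have hg : c⁻¹ * n ∈ nrmS x := by
      rw [mem_nrmS_iff, mul_smul, inv_smul_eq_iff]; exact hcx.symm
    have hgn : c⁻¹ * n * f * (c⁻¹ * n)⁻¹ ∈ zpowers f := by
      rw [show c⁻¹ * n * f * (c⁻¹ * n)⁻¹ = c⁻¹ * (n * f * n⁻¹) * c by group, mul_assoc,
        ← (H39.commute_of_mem_zpowers hcf hn).eq, inv_mul_cancel_left]
      exact hn
    have := hcf.mul_left (hT.commute_of_normalizes E hg hgn)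
    rwa [mul_inv_cancel_left] at this

end Twist

end Cfsg.Agent.H76.OneMixed
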