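import Cfsg.Agent.H76.OneMixed.SEBasic

/-!
No non-trivial element fixing two Sylow 2-subgroups centralises one of them.
-/

set_option autoImplicit false
set_option linter.style.haveILetI false
set_option linter.unusedSectionVars false

namespace Cfsg.Agent.H76.OneMixed

open Subgroup MulAction
open scoped Pointwise

universe u

variable {G : Type u} [Group G]

theorem eq_one_of_two_pow_sub_one {n r j : ℕ} (hn : 2 ≤ n) (hr : 3 ≤ r) (hodd : Odd r)
    (h : r ^ j + 1 = 2 ^ n) : j = 1 := by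
  rcases Nat.even_or_odd j with ⟨k, rfl⟩ | hj
  · exfalso
    obtain ⟨c, hc⟩ := hodd.pow (n := k)
    obtain ⟨n, rfl⟩ := Nat.exists_eq_add_of_le hn
    rw [pow_add, hc, pow_add] at h
    have e : (2 * c + 1) * (2 * c + 1) + 1 = 4 * (c * c + c) + 2 := by ring
    omega
  by_contra hj1
  have hj3 : 2 ≤ j := by rcases hj with ⟨i, rfl⟩; omega
  have hdvd : r + 1 ∣ 2 ^ n := by
    have := hj.nat_add_dvd_pow_add_pow r 1
    rwa [one_pow, h] at this
  obtain ⟨m, -, hm⟩ := (Nat.dvd_prime_pow Nat.prime_two).1 hdvd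
  have hlt : m < n := by
    by_contra hle
    have h1 : 2 ^ n ≤ 2 ^ m := Nat.pow_le_pow_right two_pos (not_lt.1 hle)
    have h2 : r ^ 2 ≤ r ^ j := Nat.pow_le_pow_right (by omega) hj3
    nlinarith
  obtain ⟨i, rfl⟩ := hj
  have hmod : r ^ 2 ≡ 1 [MOD 2 ^ (m + 1)] := by
    refine (Nat.modEq_iff_dvd' (Nat.one_le_pow _ _ (by omega))).2 ?_ |>.symm
    have : r ^ 2 - 1 = (r + 1) * (r - 1) := by rw [← Nat.sq_sub_sq]
    rw [this, hm, pow_succ]
    obtain ⟨c, rfl⟩ := hodd
    exact Nat.mul_dvd_mul_left _ ⟨c, by omega⟩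
  have h2 : r ^ (2 * i + 1) + 1 ≡ r + 1 [MOD 2 ^ (m + 1)] := by
    refine Nat.ModEq.add_right 1 ?_
    have := (hmod.pow i).mul_right r
    rwa [← pow_mul, ← pow_succ, one_pow, one_mul] at this
  rw [h, hm] at h2
  have h3 : 2 ^ n ≡ 0 [MOD 2 ^ (m + 1)] := Nat.modEq_zero_iff_dvd.2 (pow_dvd_pow 2 hlt)
  have h4 := (Nat.modEq_zero_iff_dvd.1 (h2.symm.trans h3))
  have := Nat.le_of_dvd (by positivity) h4
  rw [pow_succ] at this
  have := Nat.two_pow_pos m
  omega

/-- The conjugation action of a subgroup of the normaliser on a subgroup. -/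
noncomputable def actHom {T D : Subgroup G} (h : D ≤ normalizer (T : Set G)) : ↥D →* MulAut ↥T :=
  T.normalizerMonoidHom.comp (inclusion h)

theorem actHom_apply {T D : Subgroup G} (h : D ≤ normalizer (T : Set G)) (d : D) (t : T) :
    ((actHom h d t : T) : G) = (d : G) * t * (d : G)⁻¹ := rfl

/-- A transitive action on the non-identity elements. -/
theorem card_add_one_dvd {T D : Subgroup G} [Finite G] (h : D ≤ normalizer (T : Set G))
    (hT : ∃ t ∈ T, t ≠ 1)
    (htr : ∀ s ∈ T, s ≠ 1 → ∀ t ∈ T, t ≠ 1 → ∃ d ∈ D, d * s * d⁻¹ = t) :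
    ∃ k, Nat.card T = k + 1 ∧ k ∣ Nat.card D := by
  classical
  letI : MulAction ↥D ↥T := MulAction.compHom _ (actHom h)
  obtain ⟨t₀, ht₀, ht₀1⟩ := hT
  have horb : orbit ↥D (⟨t₀, ht₀⟩ : T) = {x : T | x ≠ 1} := by
    refine Set.ext fun x => ⟨?_, fun hx => ?_⟩
    · rintro ⟨d, rfl⟩ he
      have := congrArg Subtype.val he
      exact ht₀1 (conj_eq_one_iff.1 (this : (d : G) * t₀ * (d : G)⁻¹ = 1))
    · obtain ⟨d, hd, he⟩ := htr t₀ ht₀ ht₀1 x x.2 fun e => hx (Subtype.ext e)
      exact ⟨⟨d, hd⟩, Subtype.ext he⟩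
  refine ⟨Nat.card {x : T // x ≠ 1}, ?_, ?_⟩
  · haveI := Fintype.ofFinite ↥T
    rw [Nat.card_eq_fintype_card, Nat.card_eq_fintype_card, Fintype.card_subtype_compl,
      Fintype.card_subtype_eq]
    have := Fintype.card_pos (α := ↥T)
    omega
  · rw [← Nat.card_congr (orbitProdStabilizerEquivGroup ↥D (⟨t₀, ht₀⟩ : T)), Nat.card_prod, horb]
    exact dvd_mul_right _ _

omit [Group G] in
theorem le_normalizer_conj_centralizer [Group G] {S : Subgroup G} {n c : G}
    (hn : n ∈ normalizer (S : Set G)) (hc : c ∈ centralizer (S : Set G)) :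
    n * c * n⁻¹ ∈ centralizer (S : Set G) := by
  refine mem_centralizer_iff.2 fun s hs => ?_
  have hs' : n⁻¹ * s * n ∈ S := by
    simpa using (mem_normalizer_iff.1 (inv_mem hn) s).1 hs
  have h := mem_centralizer_iff.1 hc _ hs'
  calc s * (n * c * n⁻¹) = n * ((n⁻¹ * s * n) * c) * n⁻¹ := by group
    _ = n * (c * (n⁻¹ * s * n)) * n⁻¹ := by rw [h]
    _ = n * c * n⁻¹ * s := by group

variable [Finite G]

namespace SEData

variable {H : Hyp G} (E : SEData H) [IsSimpleGroup G]

include E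

/-- The centraliser of an odd element centralising a Sylow 2-subgroup normalises it. -/
theorem centralizer_le_of_centralizes {S : Sylow 2 G} {a : G}
    (ha : a ∈ centralizer ((S : Subgroup G) : Set G)) (ha1 : a ≠ 1) (hodd : Odd (orderOf a)) :
    centralizer ({a} : Set G) ≤ nrmS S := by
  haveI : Fact (Nat.Prime 2) := ⟨Nat.prime_two⟩
  obtain ⟨t, ht, ht1⟩ := H.exists_ne_one S
  have har : orderOf a = H.r := H.order_of_commute_involution (H.orderOf_two_of_sylow ht ht1) hodd
    ha1 (mem_centralizer_iff.1 ha t ht)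
  have hSC : (S : Subgroup G) ≤ centralizer ({a} : Set G) := fun s hs =>
    mem_centralizer_singleton_iff.2 (mem_centralizer_iff.1 ha s hs)
  haveI := H.isMulCommutative_of_isPGroup S.isPGroup'
  have hnorm : (S : Subgroup G) ≤ normalizer (H.core a : Set G) := fun s hs =>
    H39.mem_normalizer_of_conj_mem fun d hd => H.core_conj (hSC hs) hd
  have hcore : H.core a ≤ nrmS S := by
    obtain ⟨k, hk⟩ := IsPGroup.iff_card.1 S.isPGroup'
    refine Coprime.le_of_centralizer_noncyclic_le
      (H.not_isCyclic_of_four S.isPGroup' (H.four_le_sylow S)) hnorm ?_ fun s hs hs1 y hy => ?_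
    · rw [hk]; exact Nat.Coprime.pow_left _ (Nat.coprime_two_left.2 (H.core_odd a))
    · exact E.centralizer_le hs hs1 (mem_centralizer_singleton_iff.1 (mem_inf.1 hy).2)
  intro g hg
  obtain ⟨o, ho, n, -, hn, rfl⟩ := H.exists_factor (Or.inr har) hSC S.isPGroup'
    (fun Q hQ _ hle => S.is_maximal' hQ hle) hg
  exact mul_mem (hcore ho) hn

omit E in
/-- An `r`-group fixing an involution of a Sylow subgroup of order `r + 1` centralises it. -/
theorem fix_centralizes {S : Sylow 2 G} (hq : Nat.card (S : Subgroup G) = H.r + 1) {B : Subgroup G}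
    (hB : IsPGroup H.r B) (hBS : B ≤ nrmS S) {t : G} (ht : t ∈ (S : Subgroup G)) (ht1 : t ≠ 1)
    (hBt : ∀ b ∈ B, Commute b t) : B ≤ centralizer ((S : Subgroup G) : Set G) := by
  classical
  haveI := Fact.mk H.hr
  letI : MulAction ↥B ↥(S : Subgroup G) := MulAction.compHom _ (actHom hBS)
  set F := fixedPoints ↥B ↥(S : Subgroup G) with hF
  have hmod := hB.card_modEq_card_fixedPoints (α := ↥(S : Subgroup G))
  rw [hq] at hmod
  have h1 : (1 : ↥(S : Subgroup G)) ∈ F := fun b => Subtype.ext (by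
    show (b : G) * 1 * (b : G)⁻¹ = 1
    group)
  have h2 : (⟨t, ht⟩ : ↥(S : Subgroup G)) ∈ F := fun b => Subtype.ext (by
    show (b : G) * t * (b : G)⁻¹ = t
    rw [(hBt b b.2).eq, mul_inv_cancel_right])
  have htwo : 2 ≤ Nat.card F := by
    haveI : Nontrivial F :=
      ⟨⟨⟨1, h1⟩, ⟨_, h2⟩, fun e => ht1 (congrArg (fun x : F => ((x : ↥(S : Subgroup G)) : G)) e).symm⟩⟩
    exact Finite.one_lt_card
  have hle : Nat.card F ≤ H.r + 1 := hq ▸ Finite.card_subtype_le _
  have hall : Nat.card F = H.r + 1 := by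
    have hdvd := (Nat.modEq_iff_dvd' hle).1 hmod.symm
    rcases Nat.eq_zero_or_pos (H.r + 1 - Nat.card F) with h | h
    · omega
    · have := Nat.le_of_dvd h hdvd; omega
  have hFuniv : F = Set.univ := Set.eq_of_subset_of_ncard_le (Set.subset_univ _)
    (by rw [Set.ncard_univ, hq, ← Nat.card_coe_set_eq]; exact hall.ge) (Set.toFinite _)
  intro b hb
  refine mem_centralizer_iff.2 fun s hs => ?_
  have : (⟨s, hs⟩ : ↥(S : Subgroup G)) ∈ F := hFuniv ▸ Set.mem_univ _
  exact (mul_inv_eq_iff_eq_mul.1 (congrArg Subtype.val (this ⟨b, hb⟩) : b * s * b⁻¹ = s)).symm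

theorem eq_one_of_centralizes_both {x y : Sylow 2 G} (hxy : x ≠ y) {c : G}
    (hc : c ∈ pairStab x y) (hx : c ∈ centralizer ((x : Subgroup G) : Set G))
    (hy : c ∈ centralizer ((y : Subgroup G) : Set G)) : c = 1 := by
  by_contra hc1
  obtain ⟨s, hs, hs1⟩ := H.exists_ne_one y
  have hsx : s ∈ nrmS x := E.centralizer_le_of_centralizes hx hc1 (E.odd_orderOf hxy hc)
    (mem_centralizer_singleton_iff.2 (mem_centralizer_iff.1 hy s hs))
  exact hxy (E.eq_of_involution (H.orderOf_two_of_sylow hs hs1) hsx (le_normalizer hs))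

theorem fpf_of_centralizes {x y : Sylow 2 G} (hxy : x ≠ y) {b : G}
    (hb : b ∈ pairStab x y) (hby : b ∈ centralizer ((y : Subgroup G) : Set G)) (hb1 : b ≠ 1)
    {t : G} (ht : t ∈ (x : Subgroup G)) (hc : Commute b t) : t = 1 := by
  by_contra ht1
  have hty : t ∈ nrmS y := E.centralizer_le_of_centralizes hby hb1 (E.odd_orderOf hxy hb)
    (mem_centralizer_singleton_iff.2 hc.symm.eq)
  exact hxy (E.eq_of_involution (H.orderOf_two_of_sylow ht ht1) (le_normalizer ht) hty)

/-- The part of a pair stabiliser centralising the second subgroup has order `r`. -/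
theorem card_cent {x y : Sylow 2 G} (hxy : x ≠ y) {a : G} (ha : a ∈ pairStab x y)
    (hay : a ∈ centralizer ((y : Subgroup G) : Set G)) (ha1 : a ≠ 1) :
    Nat.card ↥(pairStab x y ⊓ centralizer ((y : Subgroup G) : Set G)) = H.r := by
  haveI := Fact.mk H.hr
  set B := pairStab x y ⊓ centralizer ((y : Subgroup G) : Set G) with hB
  obtain ⟨s, hs, hs1⟩ := H.exists_ne_one y
  have hodd : Odd (Nat.card B) := (E.odd_pairStab hxy).of_dvd_nat (card_dvd_of_le inf_le_left)
  have hBp : IsPGroup H.r B := H.isPGroup_of_le_centralizer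
    (Or.inl (H.orderOf_two_of_sylow hs hs1) : orderOf s = 2 ∨ orderOf s = H.r)
    (fun c hc => mem_centralizer_singleton_iff.2 (mem_centralizer_iff.1 (mem_inf.1 hc).2 s hs).symm)
    hodd
  haveI : Group.IsNilpotent B := hBp.isNilpotent
  letI : CommGroup ↥(x : Subgroup G) :=
    { (inferInstance : Group ↥(x : Subgroup G)) with
      mul_comm := fun a b => Subtype.ext (H.comm_of_isPGroup x.isPGroup' a.2 b.2).eq }
  obtain ⟨t, ht, ht1⟩ := H.exists_ne_one x
  haveI : Nontrivial ↥(x : Subgroup G) :=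
    ⟨⟨⟨t, ht⟩, 1, fun e => ht1 (congrArg Subtype.val e)⟩⟩
  haveI hcyc : IsCyclic B := isCyclic_of_fpf hodd
    (φ := actHom (inf_le_left.trans inf_le_left : B ≤ nrmS x)) fun b hb v hv => by
      have hc : Commute (b : G) v :=
        mul_inv_eq_iff_eq_mul.1 (congrArg Subtype.val hv : (b : G) * v * (b : G)⁻¹ = v)
      exact Subtype.ext (E.fpf_of_centralizes hxy (mem_inf.1 b.2).1 (mem_inf.1 b.2).2
        (fun e => hb (Subtype.ext e)) v.2 hc)
  obtain ⟨g, hg⟩ := hcyc.exists_ofOrder_eq_natCard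
  rw [← hg, ← orderOf_coe]
  refine H.orderOf_of_mem hBp g.2 fun e => ?_
  rw [Subtype.ext (e.trans B.coe_one.symm) , orderOf_one] at hg
  haveI : Subsingleton B := (Nat.card_eq_one_iff_unique.1 hg.symm).1
  exact ha1 (congrArg Subtype.val (Subsingleton.elim (⟨a, mem_inf.2 ⟨ha, hay⟩⟩ : B) 1))

/-- Pair stabilisers act faithfully. -/
theorem faithful {x y : Sylow 2 G} (hxy : x ≠ y) {a : G} (ha : a ∈ pairStab x y)
    (hax : a ∈ centralizer ((x : Subgroup G) : Set G)) : a = 1 := by
  by_contra ha1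
  haveI := Fact.mk H.hr
  haveI : Fact (Nat.Prime 2) := ⟨Nat.prime_two⟩
  obtain ⟨u, hu, hux⟩ := E.exists_swap (x := x) (y := y)
  have hui : u⁻¹ = u := H39.inv_eq_of_orderOf_eq_two hu
  set b := u * a * u⁻¹ with hb
  have hbD : b ∈ pairStab x y := conj_mem_pairStab hu hux ha
  have hby : b ∈ centralizer ((y : Subgroup G) : Set G) := by
    refine mem_centralizer_iff.2 fun s hs => ?_
    rw [SetLike.mem_coe, ← hux, mem_smul_iff] at hs
    have h := mem_centralizer_iff.1 hax _ hs
    calc s * b = u * ((u⁻¹ * s * u) * a) * u⁻¹ := by rw [hb]; group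
      _ = u * (a * (u⁻¹ * s * u)) * u⁻¹ := by rw [h]
      _ = b * s := by rw [hb]; group
  have hb1 : b ≠ 1 := fun h => ha1 (conj_eq_one_iff.1 h)
  have hab : Commute a b := by
    have hmem : a * b * a⁻¹ * b⁻¹ ∈ pairStab x y :=
      mul_mem (mul_mem (mul_mem ha hbD) (inv_mem ha)) (inv_mem hbD)
    refine commutatorElement_eq_one_iff_commute.1 (E.eq_one_of_centralizes_both hxy hmem ?_ ?_)
    · rw [commutatorElement_def, mul_assoc a b, mul_assoc a (b * a⁻¹)]
      refine mul_mem hax ?_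
      exact le_normalizer_conj_centralizer (mem_inf.1 hbD).1 (inv_mem hax)
    · rw [commutatorElement_def]
      exact mul_mem (le_normalizer_conj_centralizer (mem_inf.1 ha).2 hby) (inv_mem hby)
  have hbr : orderOf b = H.r := by
    obtain ⟨s, hs, hs1⟩ := H.exists_ne_one y
    exact H.order_of_commute_involution (H.orderOf_two_of_sylow hs hs1) (E.odd_orderOf hxy hbD) hb1
      (mem_centralizer_iff.1 hby s hs)
  -- the pair stabiliser is an `r`-group
  have hDp : IsPGroup H.r (pairStab x y) := by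
    refine IsPGroup.of_card (Nat.eq_prime_pow_of_unique_prime_dvd Nat.card_pos.ne' fun {l} hl hld => ?_)
    by_contra hlr
    haveI := Fact.mk hl
    obtain ⟨⟨n, hn⟩, hno⟩ := exists_prime_orderOf_dvd_card' l hld
    rw [orderOf_mk] at hno
    have hnodd : Odd (orderOf n) := E.odd_orderOf hxy hn
    have hl2 : l ≠ 2 := fun h2 => by
      rw [hno, h2] at hnodd
      exact absurd hnodd (by decide)
    set B := pairStab x y ⊓ centralizer ((y : Subgroup G) : Set G) with hBdef
    have hBz : zpowers b = B := Subgroup.eq_of_le_of_card_ge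
      (zpowers_le.2 (mem_inf.2 ⟨hbD, hby⟩))
      (by rw [E.card_cent hxy hbD hby hb1, Nat.card_zpowers, hbr])
    have hnB : ∀ i : ℕ, (n ^ i)⁻¹ * b * n ^ i ∈ B := fun i =>
      mem_inf.2 ⟨mul_mem (mul_mem (inv_mem (pow_mem hn i)) hbD) (pow_mem hn i), by
        simpa using le_normalizer_conj_centralizer
          (inv_mem (pow_mem (mem_inf.1 hn).2 i)) hby⟩
    letI : CommGroup ↥(x : Subgroup G) :=
      { (inferInstance : Group ↥(x : Subgroup G)) with
        mul_comm := fun a b => Subtype.ext (H.comm_of_isPGroup x.isPGroup' a.2 b.2).eq }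
    obtain ⟨t, ht, ht1⟩ := H.exists_ne_one x
    haveI : Nontrivial ↥(x : Subgroup G) :=
      ⟨⟨⟨t, ht⟩, 1, fun e => ht1 (congrArg Subtype.val e)⟩⟩
    letI : MulDistribMulAction ↥(pairStab x y) ↥(x : Subgroup G) :=
      MulDistribMulAction.compHom _ (actHom (inf_le_left : pairStab x y ≤ nrmS x))
    have hzp : ∀ c : ↥(pairStab x y), c ∈ zpowers (⟨b, hbD⟩ : ↥(pairStab x y)) ↔
        (c : G) ∈ zpowers b := by
      intro c
      simp only [mem_zpowers_iff]
      exact exists_congr fun i => ⟨fun h => by rw [← h]; simp, fun h => Subtype.ext (by simpa using h)⟩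
    obtain ⟨v, hv, hfix⟩ := FiveOrbits.exists_fixed_frobenius (A := ↥(pairStab x y))
      (T := ↥(x : Subgroup G)) (fun w => Subtype.ext (H.sq_of_isPGroup x.isPGroup' w.2))
      (p := H.r) (e := l) H.odd_r (a := ⟨b, hbD⟩) (b := ⟨n, hn⟩)
      (Subtype.ext (by push_cast; rw [← hbr]; exact pow_orderOf_eq_one b))
      (Subtype.ext (by push_cast; rw [← hno]; exact pow_orderOf_eq_one n))
      (fun i => (hzp _).2 (by push_cast; rw [hBz]; exact hnB i))
      (fun i hi hil he => by
        have he' : (n ^ i)⁻¹ * b * n ^ i = b := by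
          have := congrArg Subtype.val he
          push_cast at this
          exact this
        have hni : orderOf (n ^ i) = l := by
          refine orderOf_eq_prime (by rw [← pow_mul, mul_comm, pow_mul, ← hno,
            pow_orderOf_eq_one, one_pow]) fun h => ?_
          rw [← orderOf_dvd_iff_pow_eq_one, hno] at h
          exact absurd (Nat.le_of_dvd (Nat.pos_of_ne_zero hi) h) (by omega)
        have hc : Commute b (n ^ i) := by
          have := congrArg (fun z => n ^ i * z) he'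
          simp only [← mul_assoc, mul_inv_cancel, one_mul] at this
          exact this
        have := orderOf_dvd_of_pow_eq_one (H.pow_of_commute_r hbr (hni.symm ▸ hl.odd_of_ne_two hl2) hc)
        rw [hni] at this
        exact hlr ((Nat.prime_dvd_prime_iff_eq hl H.hr).1 this))
      (fun c hc hc1 w hw => Subtype.ext (E.fpf_of_centralizes hxy c.2
        (by have := (hzp c).1 hc; rw [hBz] at this; exact (mem_inf.1 this).2)
        (fun e => hc1 (Subtype.ext e)) w.2
        (mul_inv_eq_iff_eq_mul.1 (congrArg Subtype.val hw : (c : G) * w * (c : G)⁻¹ = w))))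
      hl.pos
    have hv1 : (v : G) ≠ 1 := fun e => hv (Subtype.ext e)
    refine hlr (hno ▸ H.order_of_commute_involution (H.orderOf_two_of_sylow v.2 hv1) hnodd
      (fun h => hl.ne_one (by rw [← hno, h, orderOf_one])) ?_)
    exact (mul_inv_eq_iff_eq_mul.1 (congrArg Subtype.val hfix : n * v * n⁻¹ = v) :
      Commute n (v : G)).symm
  -- `q - 1 = r`
  have hq : ∀ S : Sylow 2 G, Nat.card (S : Subgroup G) = H.r + 1 := by
    intro S
    rw [card_sylow_eq S x]
    obtain ⟨k, hk, hkd⟩ := card_add_one_dvd (inf_le_left : pairStab x y ≤ nrmS x)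
      (H.exists_ne_one x) (fun s hs hs1 t ht ht1 => E.transitive hxy hs hs1 ht ht1)
    obtain ⟨m, hm⟩ := IsPGroup.iff_card.1 hDp
    rw [hm] at hkd
    obtain ⟨j, -, rfl⟩ := (Nat.dvd_prime_pow H.hr).1 hkd
    obtain ⟨n, hn⟩ := IsPGroup.iff_card.1 x.isPGroup'
    have h4 := H.four_le_sylow x
    have hn2 : 2 ≤ n := by
      by_contra hlt
      have : 2 ^ n ≤ 2 ^ 1 := Nat.pow_le_pow_right two_pos (by omega)
      omega
    rw [hk, eq_one_of_two_pow_sub_one hn2 (by have := H.hr.two_le; have := H.hr2; omega) H.odd_r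
      (hk.symm.trans hn), pow_one]
  -- the product is centralised by the swap
  set z := a * b with hz
  have huz : Commute u z := by
    refine mul_inv_eq_iff_eq_mul.1 ?_
    rw [hz, ← conj_mul, ← hb, show u * b * u⁻¹ = (u * u) * a * (u * u)⁻¹ by rw [hb]; group,
      H39.mul_self_of_orderOf_eq_two hu, one_mul, inv_one, mul_one, hab.eq]
  have hzD : z ∈ pairStab x y := mul_mem ha hbD
  have hz1 : z ≠ 1 := by
    intro h
    refine ha1 (E.eq_one_of_centralizes_both hxy ha hax ?_)
    rw [show a = b⁻¹ from eq_inv_of_mul_eq_one_left h]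
    exact inv_mem hby
  obtain ⟨w, hw⟩ := H.exists_sylow_mem hu
  have hu1 := H39.ne_one_of_orderOf_eq_two hu
  have hzw : z ∈ nrmS w := E.centralizer_le hw hu1 huz.symm
  have hzr : IsPGroup H.r (zpowers z) := hDp.to_le (zpowers_le.2 hzD)
  have hzc : z ∈ centralizer ((w : Subgroup G) : Set G) :=
    fix_centralizes (H := H) (hq w) hzr (zpowers_le.2 hzw) hw hu1
      (fun c hc => (H39.commute_of_mem_zpowers huz hc).symm) (mem_zpowers z)
  have haw : a ∈ nrmS w := E.centralizer_le_of_centralizes hzc hz1 (E.odd_orderOf hxy hzD)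
    (mem_centralizer_singleton_iff.2 ((Commute.refl a).mul_right hab).eq)
  have hmem : u * (a * u⁻¹ * a⁻¹) ∈ (w : Subgroup G) :=
    mul_mem hw (conj_mem_sylow haw (inv_mem hw))
  rw [show u * (a * u⁻¹ * a⁻¹) = b * a⁻¹ by rw [hb]; group] at hmem
  have h1 : b * a⁻¹ = 1 :=
    H39.eq_one_of_sq_of_odd (by rw [pow_two]; exact H.sq_of_isPGroup w.isPGroup' hmem)
      (E.odd_orderOf hxy (mul_mem hbD (inv_mem ha)))
  rw [mul_inv_eq_one] at h1
  exact ha1 (E.eq_one_of_centralizes_both hxy ha hax (h1 ▸ hby))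

end SEData

end Cfsg.Agent.H76.OneMixed
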