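import Cfsg.Agent.H76.OneMixed.SEPair

/-!
The cyclic torus of a pair of Sylow 2-subgroups: it fixes no third one.
-/

set_option autoImplicit false
set_option linter.style.haveILetI false
set_option linter.unusedSectionVars false

namespace Cfsg.Agent.H76.OneMixed

open Subgroup MulAction
open scoped Pointwise

universe u

variable {G : Type u} [Group G] [Finite G]

/-- The torus of a pair of Sylow 2-subgroups. -/
structure IsTorus (H : Hyp G) (x y : Sylow 2 G) (P : Subgroup G) : Prop where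
  le : P ≤ pairStab x y
  card : Nat.card P + 1 = Nat.card (x : Subgroup G)
  norm : pairStab x y ≤ normalizer (P : Set G)
  cyclic : IsCyclic P
  inv_iff : ∀ u : G, orderOf u = 2 → u • x = y → ∀ d ∈ pairStab x y, (u * d * u⁻¹ = d⁻¹ ↔ d ∈ P)
  fpf : ∀ a ∈ P, a ≠ 1 → ∀ t ∈ (x : Subgroup G), Commute a t → t = 1
  shape : P = pairStab x y ∨ (¬ H.r ∣ Nat.card P ∧ ∀ t ∈ (x : Subgroup G), t ≠ 1 →
    Nat.card ↥(pairStab x y ⊓ centralizer ({t} : Set G)) = H.r ∧
      Nat.card (pairStab x y) = Nat.card P * H.r)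
  small : H.r ∣ Nat.card P → Nat.card P = H.r ∧ P = pairStab x y
  uniq : ∀ Q : Subgroup G, Q ≤ pairStab x y → Nat.card Q + 1 = Nat.card (x : Subgroup G) → Q = P

omit [Finite G] in
theorem mem_nrmS_smul_of_normalizes {P : Subgroup G} {a : Sylow 2 G} {n : G}
    (hn : n ∈ normalizer (P : Set G)) (h : P ≤ nrmS a) : P ≤ nrmS (n • a) := by
  intro p hp
  rw [mem_nrmS_smul_iff]
  exact h (by simpa using (mem_normalizer_iff.1 (inv_mem hn) p).1 hp)

namespace SEData

variable {H : Hyp G} (E : SEData H) [IsSimpleGroup G]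

include E

theorem exists_torus {x y : Sylow 2 G} (hxy : x ≠ y) : ∃ P : Subgroup G, IsTorus H x y P := by
  classical
  haveI := Fact.mk H.hr
  set D := pairStab x y with hD
  have hDx : D ≤ nrmS x := inf_le_left
  letI : CommGroup ↥(x : Subgroup G) :=
    { (inferInstance : Group ↥(x : Subgroup G)) with
      mul_comm := fun a b => Subtype.ext (H.comm_of_isPGroup x.isPGroup' a.2 b.2).eq }
  letI : MulDistribMulAction ↥D ↥(x : Subgroup G) := MulDistribMulAction.compHom _ (actHom hDx)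
  obtain ⟨t₀, ht₀, ht₀1⟩ := H.exists_ne_one x
  haveI : Nontrivial ↥(x : Subgroup G) :=
    ⟨⟨⟨t₀, ht₀⟩, 1, fun e => ht₀1 (congrArg Subtype.val e)⟩⟩
  have hsmul : ∀ (d : D) (t : ↥(x : Subgroup G)), d • t = t ↔ Commute (d : G) t := fun d t =>
    ⟨fun h => mul_inv_eq_iff_eq_mul.1 (congrArg Subtype.val h : (d : G) * t * (d : G)⁻¹ = t),
      fun h => Subtype.ext (by
        show (d : G) * t * (d : G)⁻¹ = t
        rw [h.eq, mul_inv_cancel_right])⟩
  -- the construction from one swap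
  have aux : ∀ u : G, orderOf u = 2 → u • x = y → ∃ P : Subgroup G, P ≤ D ∧
      Nat.card P + 1 = Nat.card (x : Subgroup G) ∧ D ≤ normalizer (P : Set G) ∧ IsCyclic P ∧
      (∀ d ∈ D, (u * d * u⁻¹ = d⁻¹ ↔ d ∈ P)) ∧
      (∀ a ∈ P, a ≠ 1 → ∀ t ∈ (x : Subgroup G), Commute a t → t = 1) ∧
      (P = D ∨ (¬ H.r ∣ Nat.card P ∧ ∀ t ∈ (x : Subgroup G), t ≠ 1 →
        Nat.card ↥(D ⊓ centralizer ({t} : Set G)) = H.r ∧ Nat.card D = Nat.card P * H.r)) ∧
      (H.r ∣ Nat.card P → Nat.card P = H.r ∧ P = D) := by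
    intro u hu hux
    have huu := H39.mul_self_of_orderOf_eq_two hu
    have hui : u⁻¹ = u := H39.inv_eq_of_orderOf_eq_two hu
    let σ : ↥D ≃* ↥D :=
      { toFun := fun d => ⟨u * d * u⁻¹, conj_mem_pairStab hu hux d.2⟩
        invFun := fun d => ⟨u * d * u⁻¹, conj_mem_pairStab hu hux d.2⟩
        left_inv := fun d => Subtype.ext (by
          show u * (u * d * u⁻¹) * u⁻¹ = d
          rw [hui, ← mul_assoc, ← mul_assoc, huu, one_mul, mul_assoc, huu, mul_one])
        right_inv := fun d => Subtype.ext (by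
          show u * (u * d * u⁻¹) * u⁻¹ = d
          rw [hui, ← mul_assoc, ← mul_assoc, huu, one_mul, mul_assoc, huu, mul_one])
        map_mul' := fun a b => Subtype.ext (by
          show u * ((a : G) * b) * u⁻¹ = u * a * u⁻¹ * (u * b * u⁻¹)
          group) }
    have hσ : ∀ d : D, σ d = d⁻¹ ↔ u * d * u⁻¹ = (d : G)⁻¹ := fun d =>
      ⟨fun h => congrArg Subtype.val h, fun h => Subtype.ext h⟩
    have hunx : u ∉ D := fun h =>
      hxy ((mem_nrmS_iff.1 (mem_inf.1 h).1).symm.trans hux)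
    have hJ : Nat.card {d : D // σ d = d⁻¹} + 1 = Nat.card ↥(x : Subgroup G) := by
      rw [← E.card_swap x y]
      congr 1
      refine Nat.card_congr
        { toFun := fun d => ⟨u * d.1, H39.orderOf_eq_two_of_mul_self ?_ fun h => hunx ?_, ?_⟩
          invFun := fun i => ⟨⟨u * i.1, mem_inf.2 ⟨?_, ?_⟩⟩, Subtype.ext ?_⟩
          left_inv := fun d => Subtype.ext (Subtype.ext (by
            show u * (u * (d.1 : G)) = d.1
            rw [← mul_assoc, huu, one_mul]))
          right_inv := fun i => Subtype.ext (by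
            show u * (u * i.1) = i.1
            rw [← mul_assoc, huu, one_mul]) }
      · have h := (hσ _).1 d.2
        calc u * (d.1 : G) * (u * d.1) = u * d.1 * u⁻¹ * d.1 := by rw [hui]; group
          _ = 1 := by rw [h, inv_mul_cancel]
      · rw [← hui, mul_eq_one_iff_inv_eq.1 h]
        exact d.1.2
      · rw [mul_smul, mem_nrmS_iff.1 (mem_inf.1 d.1.2).1, hux]
      · rw [mem_nrmS_iff, mul_smul, i.2.2, smul_symm hu hux]
      · rw [mem_nrmS_iff, mul_smul, smul_symm i.2.1 i.2.2, hux]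
      · show u * (u * i.1) * u⁻¹ = (u * i.1)⁻¹
        rw [← mul_assoc, huu, one_mul, mul_inv_rev, H39.inv_eq_of_orderOf_eq_two i.2.1]
    obtain ⟨P, hPn, hPc, hPcard, hPiff, hPfpf, hPA, hshape, hsmall⟩ := odd_transitive
      (A := ↥D) (T := ↥(x : Subgroup G))
      (fun w => Subtype.ext (H.sq_of_isPGroup x.isPGroup' w.2)) (E.odd_pairStab hxy)
      (fun d hd => Subtype.ext (E.faithful hxy d.2 (mem_centralizer_iff.2 fun s hs =>
        ((hsmul d ⟨s, hs⟩).1 (hd _)).eq.symm)))
      (fun s t hs ht => by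
        obtain ⟨d, hd, he⟩ := E.transitive hxy s.2 (fun e => hs (Subtype.ext e)) t.2
          (fun e => ht (Subtype.ext e))
        exact ⟨⟨d, hd⟩, Subtype.ext he⟩)
      H.hr H.odd_r
      (fun a ha => by
        rw [← orderOf_coe] at ha
        refine Subtype.ext ?_
        push_cast
        rcases H.hrord _ ha with e | e
        · rw [← e]; exact pow_orderOf_eq_one _
        · exact (H.not_two_mul_odd e (E.odd_orderOf hxy a.2)).elim)
      (fun t ht a ha => by
        rcases eq_or_ne (a : G) 1 with e | e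
        · exact Subtype.ext (by push_cast; rw [e, one_pow])
        refine Subtype.ext ?_
        push_cast
        rw [← H.order_of_commute_involution (H.orderOf_two_of_sylow t.2
          (fun e' => ht (Subtype.ext e'))) (E.odd_orderOf hxy a.2) e ((hsmul a t).1 ha).symm]
        exact pow_orderOf_eq_one _)
      σ hJ
    have hcP : Nat.card ↥(P.map D.subtype) = Nat.card P :=
      Subgroup.card_map_of_injective D.subtype_injective
    refine ⟨P.map D.subtype, map_subtype_le _, by rw [hcP]; exact hPcard, ?_, ?_, ?_, ?_, ?_, ?_⟩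
    · intro d hd
      refine H39.mem_normalizer_of_conj_mem ?_
      rintro _ ⟨p, hp, rfl⟩
      exact ⟨⟨d, hd⟩ * p * ⟨d, hd⟩⁻¹, hPn.conj_mem p hp _, rfl⟩
    · exact isCyclic_of_surjective _ (P.equivMapOfInjective _ D.subtype_injective).surjective
    · intro d hd
      rw [← hσ ⟨d, hd⟩, ← hPiff]
      exact ⟨fun h => ⟨_, h, rfl⟩, fun ⟨p, hp, he⟩ => by rwa [← show p = ⟨d, hd⟩ from Subtype.ext he]⟩
    · rintro _ ⟨a, ha, rfl⟩ ha1 t ht hc
      exact congrArg Subtype.val
        (hPfpf a ha (fun e => ha1 (by rw [e]; rfl)) ⟨t, ht⟩ ((hsmul a ⟨t, ht⟩).2 hc))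
    · rcases hshape with e | ⟨hnr, hst⟩
      · left
        rw [e, ← MonoidHom.range_eq_map, range_subtype]
      · right
        refine ⟨by rwa [hcP], fun t ht ht1 => ?_⟩
        have ht' : (⟨t, ht⟩ : ↥(x : Subgroup G)) ≠ 1 := fun e => ht1 (congrArg Subtype.val e)
        refine ⟨?_, by rw [hcP, ← hst _ ht']; exact hPA _ ht'⟩
        rw [← hst _ ht']
        exact Nat.card_congr
          { toFun := fun a => ⟨⟨a.1, (mem_inf.1 a.2).1⟩,
              (hsmul _ _).2 (mem_centralizer_singleton_iff.1 (mem_inf.1 a.2).2)⟩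
            invFun := fun a => ⟨a.1.1, mem_inf.2 ⟨a.1.2,
              mem_centralizer_singleton_iff.2 ((hsmul _ _).1 a.2).eq⟩⟩
            left_inv := fun _ => rfl
            right_inv := fun _ => rfl }
    · intro hd
      rw [hcP] at hd ⊢
      obtain ⟨h1, h2⟩ := hsmall hd
      exact ⟨h1, by rw [h2, ← MonoidHom.range_eq_map, range_subtype]⟩
  obtain ⟨u₀, hu₀, hux₀⟩ := E.exists_swap (x := x) (y := y)
  obtain ⟨P, hle, hcard, hnorm, hcyc, hinv, hfpf, hshape, hsmall⟩ := aux u₀ hu₀ hux₀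
  have huniq : ∀ Q : Subgroup G, Q ≤ D → Nat.card Q + 1 = Nat.card (x : Subgroup G) → Q = P := by
    intro Q hQ hQc
    have hcQ : Nat.card Q = Nat.card P := by omega
    rcases hshape with e | ⟨hnr, hst⟩
    · exact Subgroup.eq_of_le_of_card_ge (e ▸ hQ) hcQ.ge
    obtain ⟨-, hDc⟩ := hst t₀ ht₀ ht₀1
    refine Subgroup.eq_of_le_of_card_ge ?_ hcQ.ge
    intro g hg
    -- the image of `g` modulo `P` has order dividing `r` and `|P|`
    haveI : (P.subgroupOf D).Normal := normal_subgroupOf_of_le_normalizer hnorm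
    set g' : ↥D := ⟨g, hQ hg⟩
    have h1 : orderOf (QuotientGroup.mk g' : ↥D ⧸ P.subgroupOf D) ∣ Nat.card P := by
      refine (orderOf_map_dvd (QuotientGroup.mk' (P.subgroupOf D)) g').trans ?_
      rw [← orderOf_coe, ← hcQ]
      exact orderOf_dvd_natCard Q hg
    have h2 : Nat.card (↥D ⧸ P.subgroupOf D) = H.r := by
      have h := Subgroup.card_eq_card_quotient_mul_card_subgroup (P.subgroupOf D)
      rw [Nat.card_congr (subgroupOfEquivOfLe hle).toEquiv, hDc, mul_comm] at h
      exact (Nat.eq_of_mul_eq_mul_right Nat.card_pos h).symm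
    have h3 := Nat.eq_one_of_dvd_coprimes ((Nat.Prime.coprime_iff_not_dvd H.hr).2 hnr)
      (h2 ▸ orderOf_dvd_natCard _) h1
    rw [orderOf_eq_one_iff, QuotientGroup.eq_one_iff] at h3
    exact h3
  refine ⟨P, hle, hcard, hnorm, hcyc, fun u hu hux => ?_, hfpf, hshape, hsmall, huniq⟩
  obtain ⟨P', hle', hcard', -, -, hinv', -⟩ := aux u hu hux
  rwa [huniq P' hle' hcard'] at hinv'

/-- A subgroup of the torus order in a pair stabiliser is the torus. -/
theorem isTorus_of_le {x y a b : Sylow 2 G} {P : Subgroup G} (hP : IsTorus H x y P) (hab : a ≠ b)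
    (ha : P ≤ nrmS a) (hb : P ≤ nrmS b) : IsTorus H a b P := by
  obtain ⟨Q, hQ⟩ := E.exists_torus hab
  rwa [hQ.uniq P (le_inf ha hb) (by rw [hP.card, card_sylow_eq])]

end SEData

namespace IsTorus

variable {H : Hyp G} [IsSimpleGroup G] {x y : Sylow 2 G} {P : Subgroup G} (hP : IsTorus H x y P)

include hP

theorem exists_generator : ∃ p ∈ P, orderOf p = Nat.card P ∧ p ≠ 1 := by
  obtain ⟨p, hp⟩ := hP.cyclic.exists_ofOrder_eq_natCard
  refine ⟨p, p.2, by rw [orderOf_coe, hp], fun e => ?_⟩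
  rw [show p = 1 from Subtype.ext e, orderOf_one] at hp
  have := hP.card
  have := H.four_le_sylow x
  omega

theorem odd_card (E : SEData H) (hxy : x ≠ y) : Odd (Nat.card P) :=
  (E.odd_pairStab hxy).of_dvd_nat (card_dvd_of_le hP.le)

/-- The centraliser of a torus is odd. -/
theorem odd_centralizer (E : SEData H) (hxy : x ≠ y) :
    Odd (Nat.card (centralizer (P : Set G))) := by
  obtain ⟨p, hp, -, hp1⟩ := hP.exists_generator
  obtain ⟨u, hu, hux⟩ := E.exists_swap (x := x) (y := y)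
  refine (E.odd_centralizer_of_inverted hxy hu (hP.le hp) hp1
    ((hP.inv_iff u hu hux p (hP.le hp)).2 hp)).of_dvd_nat (card_dvd_of_le ?_)
  exact centralizer_le (Set.singleton_subset_iff.2 hp)

/-- A swap normalises the torus. -/
theorem swap_mem_normalizer {u : G} (hu : orderOf u = 2) (hux : u • x = y) :
    u ∈ normalizer (P : Set G) :=
  H39.mem_normalizer_of_conj_mem fun p hp => by
    rw [(hP.inv_iff u hu hux p (hP.le hp)).2 hp]
    exact inv_mem hp

/-- The torus is regular on the involutions of each of its Sylow subgroups. -/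
theorem exists_conj_eq {s t : G} (hs : s ∈ (x : Subgroup G)) (hs1 : s ≠ 1)
    (ht : t ∈ (x : Subgroup G)) (ht1 : t ≠ 1) : ∃ p ∈ P, p * s * p⁻¹ = t := by
  classical
  set X : Set G := {z | z ∈ (x : Subgroup G) ∧ z ≠ 1}
  have hmaps : ∀ p ∈ (P : Set G), p * s * p⁻¹ ∈ X := fun p hp =>
    ⟨conj_mem_sylow (mem_inf.1 (hP.le hp)).1 hs, fun h => hs1 (conj_eq_one_iff.1 h)⟩
  have hinj : Set.InjOn (fun p : G => p * s * p⁻¹) (P : Set G) := by
    intro p hp q hq h
    simp only at h
    by_contra hne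
    refine hs1 (hP.fpf (q⁻¹ * p) (mul_mem (inv_mem hq) hp)
      (fun e => hne (inv_mul_eq_one.1 e).symm) s hs ?_)
    refine mul_inv_eq_iff_eq_mul.1 ?_
    calc q⁻¹ * p * s * (q⁻¹ * p)⁻¹ = q⁻¹ * (p * s * p⁻¹) * q := by group
      _ = s := by rw [h]; group
  have hcard : X.ncard ≤ ((fun p : G => p * s * p⁻¹) '' (P : Set G)).ncard := by
    rw [Set.ncard_image_of_injOn hinj, ← Nat.card_coe_set_eq, ← Nat.card_coe_set_eq]
    have hX : Nat.card X + 1 = Nat.card (x : Subgroup G) := by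
      have e : X = ((x : Subgroup G) : Set G) \ {1} := by ext z; rfl
      rw [Nat.card_coe_set_eq, e, Set.ncard_diff_singleton_of_mem (one_mem _) ,
        ← Nat.card_coe_set_eq]
      have := H.four_le_sylow x
      simp only [SetLike.coe_sort_coe]
      omega
    have := hP.card
    simp only [SetLike.coe_sort_coe]
    omega
  have heq := Set.eq_of_subset_of_ncard_le
    (show (fun p : G => p * s * p⁻¹) '' (P : Set G) ⊆ X from Set.image_subset_iff.2 fun p hp => hmaps p hp) hcard (Set.toFinite _)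
  obtain ⟨p, hp, he⟩ := (heq.symm ▸ ⟨ht, ht1⟩ : t ∈ (fun p : G => p * s * p⁻¹) '' (P : Set G))
  exact ⟨p, hp, he⟩

end IsTorus

namespace SEData

variable {H : Hyp G} (E : SEData H) [IsSimpleGroup G]

include E

/-- A torus fixes exactly two Sylow 2-subgroups and has order prime to `r`. -/
theorem torus_facts {x y : Sylow 2 G} (hxy : x ≠ y) {P : Subgroup G} (hP : IsTorus H x y P) :
    ¬ H.r ∣ Nat.card P ∧ ∀ a : Sylow 2 G, P ≤ nrmS a → a = x ∨ a = y := by
  classical
  haveI := Fact.mk H.hr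
  haveI : Fact (Nat.Prime 2) := ⟨Nat.prime_two⟩
  obtain ⟨p₀, hp₀, hp₀o, hp₀1⟩ := hP.exists_generator
  set Q := centralizer (P : Set G) with hQ
  have hQodd : Odd (Nat.card Q) := hP.odd_centralizer E hxy
  have hPodd : Odd (Nat.card P) := hP.odd_card E hxy
  have hPQ : P ≤ Q := by
    haveI := hP.cyclic
    exact fun a ha => mem_centralizer_iff.2 fun b hb =>
      congrArg Subtype.val (IsCyclic.commGroup.mul_comm (⟨b, hb⟩ : P) ⟨a, ha⟩)
  have hxF : P ≤ nrmS x := hP.le.trans inf_le_left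
  have hyF : P ≤ nrmS y := hP.le.trans inf_le_right
  set I : Set G := {u | orderOf u = 2 ∧ u ∈ normalizer (P : Set G)} with hI
  have hmove : ∀ u ∈ I, ∀ a : Sylow 2 G, P ≤ nrmS a → u • a ≠ a := by
    intro u hu a ha h
    have hua := H.mem_of_mem_nrmS hu.1 (mem_nrmS_iff.2 h)
    have hcomm : Commute u p₀ := by
      have h1 : u * (p₀ * u⁻¹ * p₀⁻¹) ∈ (a : Subgroup G) :=
        mul_mem hua (conj_mem_sylow (ha hp₀) (inv_mem hua))
      have h2 : u * (p₀ * u⁻¹ * p₀⁻¹) ∈ P := by
        rw [show u * (p₀ * u⁻¹ * p₀⁻¹) = (u * p₀ * u⁻¹) * p₀⁻¹ by group]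
        exact mul_mem ((mem_normalizer_iff.1 hu.2 p₀).1 hp₀) (inv_mem hp₀)
      have h3 := H39.eq_one_of_sq_of_odd (by rw [pow_two]; exact H.sq_of_isPGroup a.isPGroup' h1)
        (hPodd.of_dvd_nat (orderOf_dvd_natCard P h2))
      refine mul_inv_eq_iff_eq_mul.1 ?_
      rw [← mul_inv_eq_one, ← h3]
      group
    have huQ : u ∈ Q := by
      refine mem_centralizer_iff.2 fun b hb => ?_
      have hmem : (⟨b, hb⟩ : P) ∈ zpowers (⟨p₀, hp₀⟩ : P) := by
        rw [eq_top_of_card_eq (zpowers (⟨p₀, hp₀⟩ : P)) (by rw [Nat.card_zpowers, orderOf_mk, hp₀o])]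
        trivial
      obtain ⟨i, hi⟩ := mem_zpowers_iff.1 hmem
      have hb' : p₀ ^ i = b := by simpa using congrArg Subtype.val hi
      rw [← hb']
      exact (hcomm.zpow_right i).eq.symm
    have := hQodd.of_dvd_nat (orderOf_dvd_natCard Q huQ)
    rw [hu.1] at this
    exact absurd this (by decide)
  have hinvI : ∀ u ∈ I, ∀ b ∈ P, u * b * u⁻¹ = b⁻¹ := by
    intro u hu b hb
    exact ((E.isTorus_of_le hP (hmove u hu x hxF).symm hxF
      (mem_nrmS_smul_of_normalizes hu.2 hxF)).inv_iff u hu.1 rfl b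
        (le_inf hxF (mem_nrmS_smul_of_normalizes hu.2 hxF) hb)).2 hb
  obtain ⟨u₀, hu₀, hux₀⟩ := E.exists_swap (x := x) (y := y)
  have hu₀I : u₀ ∈ I := ⟨hu₀, hP.swap_mem_normalizer hu₀ hux₀⟩
  set F : Set (Sylow 2 G) := {a | P ≤ nrmS a} with hF
  -- counting the involutions normalising the torus
  have hIcard : Nat.card I = Nat.card {b : Sylow 2 G // b ∈ F ∧ b ≠ x} * Nat.card P := by
    haveI := Fintype.ofFinite {b : Sylow 2 G // b ∈ F ∧ b ≠ x}
    let e : I ≃ Σ b : {b : Sylow 2 G // b ∈ F ∧ b ≠ x}, {i : G // orderOf i = 2 ∧ i • x = b.1} :=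
      { toFun := fun u => ⟨⟨(u : G) • x, mem_nrmS_smul_of_normalizes u.2.2 hxF,
          hmove u u.2 x hxF⟩, u.1, u.2.1, rfl⟩
        invFun := fun q => ⟨q.2.1, q.2.2.1,
          (E.isTorus_of_le hP q.1.2.2.symm hxF q.1.2.1).swap_mem_normalizer q.2.2.1 q.2.2.2⟩
        left_inv := fun u => rfl
        right_inv := fun ⟨⟨b, hb⟩, i, hi, hib⟩ => by
          change i • x = b at hib; subst hib; rfl }
    rw [Nat.card_congr e, Nat.card_sigma, Finset.sum_congr rfl (g := fun _ => Nat.card P),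
      Finset.sum_const, Finset.card_univ, smul_eq_mul,
      Nat.card_eq_fintype_card (α := {b : Sylow 2 G // b ∈ F ∧ b ≠ x})]
    intro b _
    have := E.card_swap x b.1
    have := hP.card
    omega
  set k := Nat.card {b : Sylow 2 G // b ∈ F ∧ b ≠ x} with hk
  have hk1 : 1 ≤ k := Nat.card_pos_iff.2 ⟨⟨⟨y, hyF, hxy.symm⟩⟩, inferInstance⟩
  have hFcard : Nat.card F = k + 1 := by
    have e : {b : Sylow 2 G | b ∈ F ∧ b ≠ x} = F \ {x} := by ext b; simp
    have h1 : k = (F \ {x}).ncard := by rw [hk, ← e, ← Nat.card_coe_set_eq]; rfl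
    rw [h1, Nat.card_coe_set_eq, Set.ncard_diff_singleton_add_one (show x ∈ F from hxF)]
  -- the centraliser acts on the fixed set
  have hQF : ∀ g ∈ Q, ∀ a ∈ F, g • a ∈ F := fun g hg a ha =>
    mem_nrmS_smul_of_normalizes (centralizer_le_normalizer (s := (P : Set G)) hg) ha
  letI : MulAction ↥Q ↥F :=
    { smul := fun g a => ⟨(g : G) • a.1, hQF g g.2 a a.2⟩
      one_smul := fun a => Subtype.ext (one_smul G a.1)
      mul_smul := fun g h a => Subtype.ext (mul_smul (g : G) (h : G) a.1) }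
  have hnotF : ¬ H.r ∣ Nat.card P → k = 1 := by
    intro hr
    have hQI : ∀ g ∈ Q, u₀ * g ∈ I := by
      intro g hg
      have hinv : u₀ * g * p₀ * (u₀ * g)⁻¹ = p₀⁻¹ := by
        rw [show u₀ * g * p₀ * (u₀ * g)⁻¹ = u₀ * (g * p₀ * g⁻¹) * u₀⁻¹ by group,
          ← mem_centralizer_iff.1 hg p₀ hp₀, mul_inv_cancel_right, hinvI u₀ hu₀I p₀ hp₀]
      refine ⟨?_, mul_mem hu₀I.2 (centralizer_le_normalizer (s := (P : Set G)) hg)⟩
      rcases Nat.even_or_odd (orderOf (u₀ * g)) with he | ho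
      · rcases H.heven _ (even_iff_two_dvd.1 he) with e | e
        · exact e
        exfalso
        -- the square is an `r`-element centralising the torus
        set s := (u₀ * g) ^ 2 with hs
        have hso : orderOf s = H.r := by
          rw [hs, orderOf_pow_of_dvd two_ne_zero (e ▸ dvd_mul_right 2 H.r), e,
            Nat.mul_div_cancel_left _ two_pos]
        have hsc : Commute s p₀ := by
          refine mul_inv_eq_iff_eq_mul.1 ?_
          rw [hs, pow_two, show u₀ * g * (u₀ * g) * p₀ * (u₀ * g * (u₀ * g))⁻¹ =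
            u₀ * g * (u₀ * g * p₀ * (u₀ * g)⁻¹) * (u₀ * g)⁻¹ by group, hinv, ← conj_inv, hinv,
            inv_inv]
        refine hr ?_
        have h1 := orderOf_dvd_of_pow_eq_one
          (H.pow_of_commute_r hso (hp₀o ▸ hPodd) hsc)
        rcases (Nat.dvd_prime H.hr).1 h1 with e' | e'
        · exact absurd (orderOf_eq_one_iff.1 e') hp₀1
        · rw [← hp₀o, e']
      · exfalso
        obtain ⟨j, hj⟩ := ho
        have hc : Commute ((u₀ * g) ^ 2) p₀ := by
          refine mul_inv_eq_iff_eq_mul.1 ?_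
          rw [pow_two, show u₀ * g * (u₀ * g) * p₀ * (u₀ * g * (u₀ * g))⁻¹ =
            u₀ * g * (u₀ * g * p₀ * (u₀ * g)⁻¹) * (u₀ * g)⁻¹ by group, hinv, ← conj_inv, hinv,
            inv_inv]
        have hc' : Commute (u₀ * g) p₀ := by
          have := hc.pow_left (j + 1)
          rwa [← pow_mul, show 2 * (j + 1) = (2 * j + 1) + 1 by ring, pow_succ, ← hj,
            pow_orderOf_eq_one, one_mul] at this
        refine hp₀1 (H39.eq_one_of_sq_of_odd ?_ (hp₀o ▸ hPodd))
        rw [pow_two]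
        nth_rewrite 1 [← inv_inv p₀]
        rw [← hinv, hc'.eq, mul_inv_cancel_right, inv_mul_cancel]
    have hQcard : Nat.card Q = k * Nat.card P := by
      rw [← hIcard]
      refine Nat.card_congr
        { toFun := fun g => ⟨u₀ * g, hQI g g.2⟩
          invFun := fun u => ⟨u₀ * u.1, ?_⟩
          left_inv := fun g => Subtype.ext (by
            show u₀ * (u₀ * g.1) = g.1
            rw [← mul_assoc, H39.mul_self_of_orderOf_eq_two hu₀, one_mul])
          right_inv := fun u => Subtype.ext (by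
            show u₀ * (u₀ * u.1) = u.1
            rw [← mul_assoc, H39.mul_self_of_orderOf_eq_two hu₀, one_mul]) }
      refine mem_centralizer_iff.2 fun b hb => ?_
      refine (mul_inv_eq_iff_eq_mul.1 ?_).symm
      rw [show u₀ * u.1 * b * (u₀ * u.1)⁻¹ = u₀ * (u.1 * b * u.1⁻¹) * u₀⁻¹ by group,
        hinvI u.1 u.2 b hb, hinvI u₀ hu₀I _ (inv_mem hb), inv_inv]
    have hstab : ∀ a : ↥F, stabilizer ↥Q a = P.subgroupOf Q := by
      intro a
      refine le_antisymm (fun g hg => ?_) fun g hg =>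
        Subtype.ext (mem_nrmS_iff.1 (a.2 (mem_subgroupOf.1 hg)))
      have hga : (g : G) ∈ nrmS a.1 := mem_nrmS_iff.2 (congrArg Subtype.val hg)
      obtain ⟨b, hb, hba⟩ : ∃ b ∈ F, a.1 ≠ b := by
        rcases eq_or_ne a.1 x with e | e
        · exact ⟨y, hyF, e ▸ hxy⟩
        · exact ⟨x, hxF, e⟩
      have hT := E.isTorus_of_le hP hba a.2 hb
      obtain ⟨t, ht, ht1⟩ := H.exists_ne_one a.1
      obtain ⟨p, hp, hpe⟩ := hT.exists_conj_eq ht ht1 (conj_mem_sylow hga ht)
        (fun h => ht1 (conj_eq_one_iff.1 h))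
      have hc : Commute (p⁻¹ * (g : G)) t := by
        refine mul_inv_eq_iff_eq_mul.1 ?_
        calc p⁻¹ * (g : G) * t * (p⁻¹ * (g : G))⁻¹ = p⁻¹ * ((g : G) * t * (g : G)⁻¹) * p := by group
          _ = t := by rw [← hpe]; group
      have hmem : p⁻¹ * (g : G) ∈ Q := mul_mem (hPQ (inv_mem hp)) g.2
      rw [mem_subgroupOf]
      by_contra hgP
      have h1 : p⁻¹ * (g : G) ≠ 1 := fun h => hgP (by rw [← inv_mul_eq_one.1 h]; exact hp)
      have ho := H.order_of_commute_involution (H.orderOf_two_of_sylow ht ht1)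
        (hQodd.of_dvd_nat (orderOf_dvd_natCard Q hmem)) h1 hc.symm
      refine hr ?_
      have h2 := orderOf_dvd_of_pow_eq_one (H.pow_of_commute_r ho (hp₀o ▸ hPodd)
        (mem_centralizer_iff.1 hmem p₀ hp₀).symm)
      rcases (Nat.dvd_prime H.hr).1 h2 with e' | e'
      · exact absurd (orderOf_eq_one_iff.1 e') hp₀1
      · rw [← hp₀o, e']
    have horb : ∀ a : ↥F, Nat.card (orbit ↥Q a) = k := by
      intro a
      have h := Nat.card_congr (orbitProdStabilizerEquivGroup ↥Q a)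
      rw [Nat.card_prod, hstab a, Nat.card_congr (subgroupOfEquivOfLe hPQ).toEquiv, hQcard] at h
      exact Nat.eq_of_mul_eq_mul_right Nat.card_pos h
    have hdvd : k ∣ Nat.card F := by
      haveI := Fintype.ofFinite (Quotient (orbitRel ↥Q ↥F))
      rw [Nat.card_congr (selfEquivSigmaOrbits ↥Q ↥F), Nat.card_sigma]
      exact Finset.dvd_sum fun q _ => by rw [horb]
    rw [hFcard, Nat.dvd_add_self_left, Nat.dvd_one] at hdvd
    exact hdvd
  have hdiv : ¬ H.r ∣ Nat.card P := by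
    intro hr
    obtain ⟨hPr, hPD⟩ := hP.small hr
    have hp₀r : orderOf p₀ = H.r := hp₀o.trans hPr
    have hQexp : ∀ g ∈ Q, g ^ H.r = 1 := fun g hg =>
      H.pow_of_commute_r hp₀r (hQodd.of_dvd_nat (orderOf_dvd_natCard Q hg))
        (mem_centralizer_iff.1 hg p₀ hp₀)
    have hQp : IsPGroup H.r Q := fun g => ⟨1, Subtype.ext (by
      rw [pow_one]; push_cast; exact hQexp g g.2)⟩
    -- the involutions form one class under the centraliser
    have hkr : Nat.card I ∣ Nat.card Q := by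
      letI : MulAction ↥Q G := MulAction.compHom _
        ((MulAut.conj : G →* MulAut G).comp Q.subtype)
      have ho : orbit ↥Q u₀ = I := by
        ext v
        constructor
        · rintro ⟨g, rfl⟩
          show orderOf ((g : G) * u₀ * (g : G)⁻¹) = 2 ∧ (g : G) * u₀ * (g : G)⁻¹ ∈ _
          exact ⟨by rw [H39.orderOf_conj, hu₀], mul_mem (mul_mem
            (centralizer_le_normalizer (s := (P : Set G)) g.2) hu₀I.2)
            (inv_mem (centralizer_le_normalizer (s := (P : Set G)) g.2))⟩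
        · intro hv
          have hvu : v * u₀ ∈ Q := by
            refine mem_centralizer_iff.2 fun b hb => ?_
            refine (mul_inv_eq_iff_eq_mul.1 ?_).symm
            rw [show v * u₀ * b * (v * u₀)⁻¹ = v * (u₀ * b * u₀⁻¹) * v⁻¹ by group,
              hinvI u₀ hu₀I b hb, hinvI v hv _ (inv_mem hb), inv_inv]
          obtain ⟨g, hg, -, -, hgc⟩ := H39.exists_conj_of_odd hu₀ hv.1
            (hQodd.of_dvd_nat (orderOf_dvd_natCard Q hvu))
          exact ⟨⟨g, (zpowers_le.2 hvu) hg⟩, hgc⟩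
      rw [← Nat.card_congr (orbitProdStabilizerEquivGroup ↥Q u₀), Nat.card_prod, ho]
      exact dvd_mul_right _ _
    rw [hIcard] at hkr
    obtain ⟨n, hn⟩ := IsPGroup.iff_card.1 hQp
    rw [hn] at hkr
    obtain ⟨m, -, hm⟩ := (Nat.dvd_prime_pow H.hr).1 (dvd_of_mul_right_dvd hkr)
    have hnd : ¬ H.r ∣ Nat.card F := by
      rw [hFcard, hm]
      rcases m with _ | m
      · rw [pow_zero]
        intro h
        exact H.hr2 (((Nat.prime_dvd_prime_iff_eq H.hr Nat.prime_two).1 h))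
      · intro h
        exact H.hr.one_lt.ne' (Nat.dvd_one.1 ((Nat.dvd_add_right (dvd_pow_self H.r
          m.succ_ne_zero)).1 h))
    obtain ⟨a, ha⟩ := hQp.nonempty_fixed_point_of_prime_not_dvd_card ↥F hnd
    have hfix : ∀ g ∈ Q, g ∈ nrmS a.1 := fun g hg =>
      mem_nrmS_iff.2 (congrArg Subtype.val (ha ⟨g, hg⟩))
    have hbF : P ≤ nrmS (u₀ • a.1) := mem_nrmS_smul_of_normalizes hu₀I.2 a.2
    have hne' : a.1 ≠ u₀ • a.1 := (hmove u₀ hu₀I a.1 a.2).symm
    have hT := E.isTorus_of_le hP hne' a.2 hbF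
    have hQD : Q ≤ pairStab a.1 (u₀ • a.1) := fun g hg => by
      refine mem_inf.2 ⟨hfix g hg, ?_⟩
      rw [mem_nrmS_smul_iff]
      refine hfix _ (mem_centralizer_iff.2 fun b hb => ?_)
      have hb' : u₀ * b * u₀⁻¹ ∈ P := (mem_normalizer_iff.1 hu₀I.2 b).1 hb
      have := mem_centralizer_iff.1 hg _ hb'
      calc b * (u₀⁻¹ * g * u₀) = u₀⁻¹ * ((u₀ * b * u₀⁻¹) * g) * u₀ := by group
        _ = u₀⁻¹ * (g * (u₀ * b * u₀⁻¹)) * u₀ := by rw [this]
        _ = u₀⁻¹ * g * u₀ * b := by group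
    have hQP : Q ≤ P := hQD.trans (hT.small hr).2.ge
    -- an `r`-element centralising the Sylow subgroup `a`
    obtain ⟨g, hg⟩ := E.mixed
    have hv : orderOf (g ^ H.r) = 2 := by
      rw [orderOf_pow_of_dvd H.hr.ne_zero (hg ▸ dvd_mul_left H.r 2), hg,
        Nat.mul_div_cancel _ H.hr.pos]
    have hc : orderOf (g ^ 2) = H.r := by
      rw [orderOf_pow_of_dvd two_ne_zero (hg ▸ dvd_mul_right 2 H.r), hg,
        Nat.mul_div_cancel_left _ two_pos]
    obtain ⟨S, hS⟩ := H.exists_sylow_mem hv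
    have hv1 := H39.ne_one_of_orderOf_eq_two hv
    have hcomm : Commute (g ^ 2) (g ^ H.r) := Commute.pow_pow_self g 2 H.r
    have hcS : g ^ 2 ∈ centralizer ((S : Subgroup G) : Set G) := by
      refine fix_centralizes (H := H) ?_ (B := zpowers (g ^ 2)) ?_ ?_ hS hv1 ?_ (mem_zpowers _)
      · rw [card_sylow_eq S x, ← hP.card, hPr]
      · exact IsPGroup.of_card (n := 1) (by rw [Nat.card_zpowers, hc, pow_one])
      · exact zpowers_le.2 (E.centralizer_le hS hv1 hcomm)
      · exact fun b hb => (H39.commute_of_mem_zpowers hcomm.symm hb).symm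
    obtain ⟨h, hh⟩ := MulAction.exists_smul_eq G S a.1
    set c := h * g ^ 2 * h⁻¹ with hcdef
    have hca : c ∈ centralizer ((a.1 : Subgroup G) : Set G) := by
      refine mem_centralizer_iff.2 fun s hs => ?_
      rw [SetLike.mem_coe, ← hh, mem_smul_iff] at hs
      have := mem_centralizer_iff.1 hcS _ hs
      calc s * c = h * ((h⁻¹ * s * h) * g ^ 2) * h⁻¹ := by rw [hcdef]; group
        _ = h * (g ^ 2 * (h⁻¹ * s * h)) * h⁻¹ := by rw [this]
        _ = c * s := by rw [hcdef]; group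
    -- a Sylow `r`-subgroup of the normaliser containing the torus
    set C := centralizer ((a.1 : Subgroup G) : Set G) with hC
    obtain ⟨t, ht, ht1⟩ := H.exists_ne_one a.1
    have hCN : C ≤ nrmS a.1 := fun z hz =>
      E.centralizer_le ht ht1 (mem_centralizer_iff.1 hz t ht).symm
    have hPp : IsPGroup H.r P := IsPGroup.of_card (n := 1) (by rw [pow_one, hPr])
    obtain ⟨R, hR⟩ := (hPp.comap_subtype (K := nrmS a.1)).exists_le_sylow
    have hcz : IsPGroup H.r (zpowers c) :=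
      IsPGroup.of_card (n := 1) (by rw [Nat.card_zpowers, hcdef, H39.orderOf_conj, hc, pow_one])
    obtain ⟨e, he⟩ := H39.exists_conj_le_sylow (hcz.comap_subtype (K := nrmS a.1)) R
    set W := (R : Subgroup ↥(nrmS a.1)).map (nrmS a.1).subtype ⊓ C with hW
    have hWp : IsPGroup H.r W := (R.isPGroup'.map _).to_le inf_le_left
    have hne : W ≠ ⊥ := by
      intro hbot
      have h1 := he ⟨c, hCN hca⟩ (mem_subgroupOf.2 (mem_zpowers c))
      have hmem : (e : G) * c * (e : G)⁻¹ ∈ W :=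
        mem_inf.2 ⟨⟨_, h1, rfl⟩, le_normalizer_conj_centralizer e.2 hca⟩
      rw [hbot, mem_bot, conj_eq_one_iff] at hmem
      rw [hcdef, conj_eq_one_iff] at hmem
      rw [hmem, orderOf_one] at hc
      exact H.hr.one_lt.ne hc
    have hPW : P ≤ normalizer (W : Set G) := fun p hp =>
      H39.mem_normalizer_of_conj_mem fun w hw => by
        refine mem_inf.2 ⟨?_, le_normalizer_conj_centralizer (a.2 hp) (mem_inf.1 hw).2⟩
        have hpR : p ∈ (R : Subgroup ↥(nrmS a.1)).map (nrmS a.1).subtype :=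
          ⟨⟨p, a.2 hp⟩, hR (mem_subgroupOf.2 hp), rfl⟩
        exact mul_mem (mul_mem hpR (mem_inf.1 hw).1) (inv_mem hpR)
    letI : MulAction ↥P ↥W := MulAction.compHom _ (actHom hPW)
    obtain ⟨j, hj⟩ := IsPGroup.iff_card.1 hWp
    have hdW : H.r ∣ Nat.card W := by
      rw [hj]
      refine dvd_pow_self _ fun h0 => hne (Subgroup.card_eq_one.1 ?_)
      rw [hj, h0, pow_zero]
    obtain ⟨w, hw, hw1⟩ := hPp.exists_fixed_point_of_prime_dvd_card_of_fixed_point ↥W hdW
      (a := (1 : W)) (fun p => Subtype.ext (by show (p : G) * 1 * (p : G)⁻¹ = 1; group))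
    have hwQ : (w : G) ∈ Q := mem_centralizer_iff.2 fun b hb =>
      mul_inv_eq_iff_eq_mul.1 (congrArg Subtype.val (hw ⟨b, hb⟩) : b * (w : G) * b⁻¹ = w)
    have hwD : (w : G) ∈ pairStab a.1 (u₀ • a.1) := hQD hwQ
    exact hw1 (Subtype.ext (E.faithful hne' hwD (mem_inf.1 w.2).2).symm)
  refine ⟨hdiv, fun a ha => ?_⟩
  have hk' := hnotF hdiv
  by_contra h
  push Not at h
  haveI : Subsingleton {b : Sylow 2 G // b ∈ F ∧ b ≠ x} :=
    (Nat.card_eq_one_iff_unique.1 hk').1
  exact h.2 (congrArg Subtype.val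
    (Subsingleton.elim (⟨a, ha, h.1⟩ : {b : Sylow 2 G // b ∈ F ∧ b ≠ x}) ⟨y, hyF, hxy.symm⟩))

end SEData

end Cfsg.Agent.H76.OneMixed
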