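import Cfsg.Agent.H76.OneMixed.SETorus
import Cfsg.Agent.Hall.Existence
import Cfsg.Agent.S0346

/-!
The action on the Sylow 2-subgroups is doubly transitive, and its two-point stabilisers are not
regular.
-/

set_option autoImplicit false
set_option linter.style.haveILetI false
set_option linter.unusedSectionVars false

namespace Cfsg.Agent.H76.OneMixed

open Subgroup MulAction
open scoped Pointwise

universe u

variable {G : Type u} [Group G] [Finite G]

/-- Normalisers of Sylow 2-subgroups are solvable. -/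
theorem isSolvable_nrmS (S : Sylow 2 G) : Group.IsSolvable (nrmS S) := by
  haveI : Fact (Nat.Prime 2) := ⟨Nat.prime_two⟩
  have hle : (S : Subgroup G) ≤ nrmS S := le_normalizer
  set T : Sylow 2 ↥(nrmS S) := S.subtype hle with hT
  set N : Subgroup ↥(nrmS S) := (S : Subgroup G).subgroupOf (nrmS S) with hN
  haveI hNn : N.Normal := normal_subgroupOf_of_le_normalizer le_rfl
  haveI : Group.IsNilpotent N := (S.isPGroup'.comap_subtype (K := nrmS S)).isNilpotent
  haveI : Group.IsSolvable N := by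
    obtain ⟨k, hk⟩ := IsPGroup.iff_card.1 (S.isPGroup'.comap_subtype (K := nrmS S))
    exact S0144.result 2 3 k 0 Nat.prime_two Nat.prime_three (hk.trans (by rw [pow_zero, mul_one]))
  haveI : Group.IsSolvable (↥(nrmS S) ⧸ N) := S0205.result (by
    rw [← Subgroup.index_eq_card, Nat.odd_iff, ← Nat.two_dvd_ne_zero]
    exact T.not_dvd_index)
  exact solvable_of_ker_le_range N.subtype (QuotientGroup.mk' N)
    (by rw [QuotientGroup.ker_mk', range_subtype])

/-- Conjugation of a pair stabiliser. -/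
theorem card_pairStab_smul (g : G) (x y : Sylow 2 G) :
    Nat.card (pairStab (g • x) (g • y)) = Nat.card (pairStab x y) :=
  Nat.card_congr
    { toFun := fun a => ⟨g⁻¹ * a * g,
        mem_inf.2 ⟨mem_nrmS_smul_iff.1 (mem_inf.1 a.2).1, mem_nrmS_smul_iff.1 (mem_inf.1 a.2).2⟩⟩
      invFun := fun a => ⟨g * a * g⁻¹, mem_inf.2 ⟨mem_nrmS_smul_iff.2 (by
        simpa [mul_assoc] using (mem_inf.1 a.2).1), mem_nrmS_smul_iff.2 (by
        simpa [mul_assoc] using (mem_inf.1 a.2).2)⟩⟩
      left_inv := fun a => Subtype.ext (by simp [mul_assoc])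
      right_inv := fun a => Subtype.ext (by simp [mul_assoc]) }

namespace Hyp

variable (H : Hyp G)

include H

theorem prime_of_dvd_inf_centralizer {K : Subgroup G} {t : G} (ht : orderOf t = 2) {p : ℕ}
    (hp : p.Prime) (hd : p ∣ Nat.card ↥(K ⊓ centralizer ({t} : Set G))) : p = 2 ∨ p = H.r :=
  H.prime_of_dvd_centralizer (Or.inl ht) hp (hd.trans (card_dvd_of_le inf_le_right))

end Hyp

namespace SEData

variable {H : Hyp G} (E : SEData H) [IsSimpleGroup G]

include E

theorem card_nrmS {x y : Sylow 2 G} {P : Subgroup G} (hP : IsTorus H x y P)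
    {t : G} (ht : t ∈ (x : Subgroup G)) (ht1 : t ≠ 1) :
    Nat.card (nrmS x) = Nat.card P * Nat.card ↥(nrmS x ⊓ centralizer ({t} : Set G)) := by
  classical
  set L := nrmS x with hL
  have hPL : P ≤ L := hP.le.trans inf_le_left
  refine (Nat.card_congr (Equiv.symm ?_)).trans (Nat.card_prod _ _)
  refine Equiv.ofBijective (fun pc : ↥P × ↥(L ⊓ centralizer ({t} : Set G)) =>
    (⟨(pc.1 : G) * pc.2, mul_mem (hPL pc.1.2) (mem_inf.1 pc.2.2).1⟩ : L)) ⟨?_, ?_⟩
  · rintro ⟨⟨p, hp⟩, ⟨c, hc⟩⟩ ⟨⟨p', hp'⟩, ⟨c', hc'⟩⟩ h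
    have h' : p * c = p' * c' := congrArg Subtype.val h
    have hpp : p'⁻¹ * p = c' * c⁻¹ := by
      rw [eq_mul_inv_iff_mul_eq, mul_assoc, h', inv_mul_cancel_left]
    have hcomm : Commute (p'⁻¹ * p) t := by
      rw [hpp]
      exact Commute.mul_left (mem_centralizer_singleton_iff.1 (mem_inf.1 hc').2)
        (mem_centralizer_singleton_iff.1 (inv_mem (mem_inf.1 hc).2))
    have he : p'⁻¹ * p = 1 := by
      by_contra hne
      exact ht1 (hP.fpf _ (mul_mem (inv_mem hp') hp) hne t ht hcomm)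
    obtain rfl := (inv_mul_eq_one.1 he)
    obtain rfl := mul_left_cancel h'
    rfl
  · rintro ⟨g, hg⟩
    obtain ⟨p, hp, he⟩ := hP.exists_conj_eq ht ht1 (conj_mem_sylow hg ht)
      (fun h => ht1 (conj_eq_one_iff.1 h))
    refine ⟨⟨⟨p, hp⟩, ⟨p⁻¹ * g, mem_inf.2 ⟨mul_mem (inv_mem (hPL hp)) hg, ?_⟩⟩⟩,
      Subtype.ext (by simp)⟩
    refine mem_centralizer_singleton_iff.2 (mul_inv_eq_iff_eq_mul.1 ?_)
    calc p⁻¹ * g * t * (p⁻¹ * g)⁻¹ = p⁻¹ * (g * t * g⁻¹) * p := by group
      _ = t := by rw [← he]; group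

/-- The normaliser of a Sylow 2-subgroup is transitive on the others. -/
theorem exists_smul_eq {x y y' : Sylow 2 G} (hy : x ≠ y) (hy' : x ≠ y') :
    ∃ g ∈ nrmS x, g • y = y' := by
  haveI := Fact.mk H.hr
  obtain ⟨P, hP⟩ := E.exists_torus hy
  obtain ⟨P', hP'⟩ := E.exists_torus hy'
  obtain ⟨t, ht, ht1⟩ := H.exists_ne_one x
  set L := nrmS x with hL
  haveI := isSolvable_nrmS x
  set π : Set ℕ := {p | p ∣ Nat.card P} with hπ
  have hcard : Nat.card P' = Nat.card P := by have := hP.card; have := hP'.card; omega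
  have key : ∀ (z : Sylow 2 G) (Q : Subgroup G), x ≠ z → IsTorus H x z Q → Nat.card Q = Nat.card P →
      Cfsg.IsPiHall π (Q.subgroupOf L) := by
    intro z Q hz hQ hc
    have hQL : Q ≤ L := hQ.le.trans inf_le_left
    have hcQ : Nat.card (Q.subgroupOf L) = Nat.card P := by
      rw [Nat.card_congr (subgroupOfEquivOfLe hQL).toEquiv, hc]
    refine ⟨fun p _ hd => by rwa [hcQ] at hd, fun p hp hpP hd => ?_⟩
    have hidx : (Q.subgroupOf L).index = Nat.card ↥(L ⊓ centralizer ({t} : Set G)) := by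
      have h1 := (Q.subgroupOf L).card_mul_index
      rw [hcQ, E.card_nrmS hP ht ht1] at h1
      exact Nat.eq_of_mul_eq_mul_left Nat.card_pos h1
    rw [hidx] at hd
    rcases H.prime_of_dvd_inf_centralizer (H.orderOf_two_of_sylow ht ht1) hp hd with e | e
    · exact Nat.not_even_iff_odd.2 (hP.odd_card E hy) (even_iff_two_dvd.2 (e ▸ hpP))
    · exact (E.torus_facts hy hP).1 (e ▸ hpP)
  obtain ⟨g, hg⟩ := (Hall.hallDom_of_isSolvable π ↥L).conj (key y P hy hP rfl)
    (key y' P' hy' hP' hcard)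
  refine ⟨g, g.2, ?_⟩
  have hfix : P' ≤ nrmS ((g : G) • y) := by
    intro p hp
    have hmem : (⟨p, (hP'.le.trans inf_le_left) hp⟩ : ↥L) ∈ MulAut.conj g • P.subgroupOf L := by
      rw [hg]; exact mem_subgroupOf.2 hp
    rw [Subgroup.mem_pointwise_smul_iff_inv_smul_mem, mem_subgroupOf] at hmem
    rw [mem_nrmS_smul_iff]
    refine (hP.le.trans inf_le_right) ?_
    simpa [MulAut.smul_def] using hmem
  rcases (E.torus_facts hy' hP').2 _ hfix with e | e
  · exfalso
    apply hy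
    have hx : (g : G) • x = x := mem_nrmS_iff.1 g.2
    exact (MulAction.injective (g : G) (e.trans hx.symm)).symm
  · exact e

theorem two_pretransitive : IsMultiplyPretransitive G (Sylow 2 G) 2 := by
  haveI : Fact (Nat.Prime 2) := ⟨Nat.prime_two⟩
  rw [is_two_pretransitive_iff]
  intro a b c d hab hcd
  obtain ⟨g, hg⟩ := MulAction.exists_smul_eq G a c
  have hne : c ≠ g • b := fun h => hab (MulAction.injective g (hg.trans h))
  obtain ⟨n, hn, hnb⟩ := E.exists_smul_eq hne hcd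
  exact ⟨n * g, by rw [mul_smul, hg, mem_nrmS_iff.1 hn], by rw [mul_smul, hnb]⟩

theorem card_pairStab_eq {x y a b : Sylow 2 G} (hxy : x ≠ y) (hab : a ≠ b) :
    Nat.card (pairStab a b) = Nat.card (pairStab x y) := by
  haveI := E.two_pretransitive
  obtain ⟨g, h1, h2⟩ := is_two_pretransitive_iff.1 this hxy hab
  rw [← h1, ← h2, card_pairStab_smul]

theorem card_points {x y : Sylow 2 G} (hxy : x ≠ y) :
    (Nat.card (Sylow 2 G) - 1) * Nat.card (pairStab x y) = Nat.card (nrmS x) := by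
  classical
  haveI := Fintype.ofFinite (Sylow 2 G)
  have horb : orbit ↥(nrmS x) y = {b : Sylow 2 G | b ≠ x} := by
    ext b
    constructor
    · rintro ⟨g, rfl⟩ h
      refine hxy (MulAction.injective (g : G) ?_)
      exact (mem_nrmS_iff.1 g.2).trans (h : (g : G) • y = x).symm
    · intro hb
      obtain ⟨g, hg, he⟩ := E.exists_smul_eq hxy (Ne.symm hb)
      exact ⟨⟨g, hg⟩, he⟩
  have hst : stabilizer ↥(nrmS x) y = (pairStab x y).subgroupOf (nrmS x) := by
    ext g
    rw [mem_stabilizer_iff, mem_subgroupOf]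
    exact ⟨fun h => mem_inf.2 ⟨g.2, mem_nrmS_iff.2 h⟩, fun h => mem_nrmS_iff.1 (mem_inf.1 h).2⟩
  rw [← Nat.card_congr (orbitProdStabilizerEquivGroup ↥(nrmS x) y), Nat.card_prod, horb, hst,
    Nat.card_congr (subgroupOfEquivOfLe inf_le_left).toEquiv]
  congr 1
  rw [Nat.card_eq_fintype_card, Nat.card_eq_fintype_card]
  simp only [Set.coe_setOf, Fintype.card_subtype_compl, Fintype.card_subtype_eq]

/-- Two-point stabilisers are larger than the torus. -/
theorem not_regular {x y : Sylow 2 G} (hxy : x ≠ y) {P : Subgroup G} (hP : IsTorus H x y P) :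
    P ≠ pairStab x y := by
  classical
  intro hPD
  haveI := Fact.mk H.hr
  haveI : Fact (Nat.Prime 2) := ⟨Nat.prime_two⟩
  haveI := Fintype.ofFinite (Sylow 2 G)
  have hPc := hP.card
  have hall : ∀ a b : Sylow 2 G, a ≠ b → ∀ Q : Subgroup G, IsTorus H a b Q → Q = pairStab a b := by
    intro a b hab Q hQ
    refine Subgroup.eq_of_le_of_card_ge hQ.le ?_
    rw [E.card_pairStab_eq hxy hab, ← hPD]
    have := hQ.card
    rw [card_sylow_eq a x] at this
    omega
  have hthree : ∀ g : G, ∀ a b c : Sylow 2 G, a ≠ b → b ≠ c → a ≠ c → g • a = a → g • b = b →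
      g • c = c → g = 1 := by
    intro g a b c hab hbc hac ha hb hc
    by_contra hg1
    obtain ⟨Q, hQ⟩ := E.exists_torus hab
    obtain ⟨Q', hQ'⟩ := E.exists_torus hac
    have hgQ : g ∈ Q := by
      rw [hall a b hab Q hQ]; exact mem_inf.2 ⟨mem_nrmS_iff.2 ha, mem_nrmS_iff.2 hb⟩
    have hgQ' : g ∈ Q' := by
      rw [hall a c hac Q' hQ']; exact mem_inf.2 ⟨mem_nrmS_iff.2 ha, mem_nrmS_iff.2 hc⟩
    set X := nrmS a ⊓ centralizer ({g} : Set G) with hX
    have hle : ∀ (b' : Sylow 2 G) (R : Subgroup G), IsTorus H a b' R → g ∈ R → R ≤ X := by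
      intro b' R hR hgR z hz
      haveI := hR.cyclic
      exact mem_inf.2 ⟨(mem_inf.1 (hR.le hz)).1, mem_centralizer_singleton_iff.2
        (congrArg Subtype.val (IsCyclic.commGroup.mul_comm (⟨z, hz⟩ : R) ⟨g, hgR⟩))⟩
    obtain ⟨t, ht, ht1⟩ := H.exists_ne_one a
    have hdvd : Nat.card X ∣ Nat.card Q := by
      have h1 : Nat.card X ∣ Nat.card (nrmS a) := card_dvd_of_le inf_le_left
      rw [E.card_nrmS hQ ht ht1] at h1
      refine (Nat.Coprime.dvd_mul_right ?_).1 h1
      refine Nat.coprime_of_dvd fun p hp hp1 hp2 => ?_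
      haveI := Fact.mk hp
      obtain ⟨⟨z, hz⟩, hzo⟩ := exists_prime_orderOf_dvd_card' p hp1
      rw [orderOf_mk] at hzo
      have hzg : Commute z g := mem_centralizer_singleton_iff.1 (mem_inf.1 hz).2
      rcases H.prime_of_dvd_inf_centralizer (H.orderOf_two_of_sylow ht ht1) hp hp2 with e | e
      · subst e
        have hza := H.mem_of_mem_nrmS hzo (mem_inf.1 hz).1
        exact H39.ne_one_of_orderOf_eq_two hzo (hQ.fpf g hgQ hg1 z hza hzg.symm)
      · subst e
        have ho : Odd (orderOf g) := (hQ.odd_card E hab).of_dvd_nat (orderOf_dvd_natCard Q hgQ)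
        have h2 := orderOf_dvd_of_pow_eq_one (H.pow_of_commute_r hzo ho hzg)
        rcases (Nat.dvd_prime H.hr).1 h2 with e' | e'
        · exact hg1 (orderOf_eq_one_iff.1 e')
        · exact (E.torus_facts hab hQ).1 (e' ▸ orderOf_dvd_natCard Q hgQ)
    have hXQ : Q = X := Subgroup.eq_of_le_of_card_ge (hle b Q hQ hgQ)
      (Nat.le_of_dvd Nat.card_pos hdvd)
    have hcc : Nat.card Q' = Nat.card Q := by have := hQ.card; have := hQ'.card; omega
    have hQQ : Q' = Q :=
      Subgroup.eq_of_le_of_card_ge (hXQ ▸ hle c Q' hQ' hgQ') hcc.ge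
    rcases (E.torus_facts hab hQ).2 c (hQQ ▸ hQ'.le.trans inf_le_right) with e | e
    · exact hac e.symm
    · exact hbc e.symm
  obtain ⟨p, hp, -, hp1⟩ := hP.exists_generator
  have hpx : p • x = x := mem_nrmS_iff.1 (mem_inf.1 (hP.le hp)).1
  have hpy : p • y = y := mem_nrmS_iff.1 (mem_inf.1 (hP.le hp)).2
  have hfaith : FaithfulSMul G (Sylow 2 G) := by
    refine ⟨fun {g h} hgh => ?_⟩
    rcases (MulAction.toPermHom G (Sylow 2 G)).normal_ker.eq_bot_or_eq_top with e | e
    · exact (MonoidHom.ker_eq_bot_iff (MulAction.toPermHom G (Sylow 2 G))).1 e (Equiv.ext fun a => hgh a)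
    · refine absurd ((eq_top_iff' _).2 fun z => mem_nrmS_iff.2 ?_) (H.nrmS_ne_top x)
      have hz : z ∈ (MulAction.toPermHom G (Sylow 2 G)).ker := by rw [e]; exact mem_top z
      have := Equiv.ext_iff.1 (MonoidHom.mem_ker.1 hz) x
      simpa using this
  have hZ : Cfsg.IsZassenhausGroup G (Sylow 2 G) := by
    refine ⟨hfaith, E.two_pretransitive, hthree, ⟨p, hp1, x, y, hxy, hpx, hpy⟩, fun N hN htr => ?_⟩
    refine ⟨x, fun h => ?_⟩
    rcases hN.eq_bot_or_eq_top with e | e
    · subst e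
      obtain ⟨g, hg⟩ := htr.exists_smul_eq x y
      have hg1 : (g : G) = 1 := mem_bot.1 g.2
      exact hxy ((show (g : G) • x = x by rw [hg1, one_smul]).symm.trans hg)
    · subst e
      have : (⟨p, mem_top p⟩ : (⊤ : Subgroup G)) ∈ stabilizer ↥(⊤ : Subgroup G) x := hpx
      rw [h, mem_bot] at this
      exact hp1 (congrArg Subtype.val this)
  have hpp := S0346.result hZ
  -- a centraliser of an involution with an element of order `r`
  obtain ⟨g, hg⟩ := E.mixed
  have hv : orderOf (g ^ H.r) = 2 := by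
    rw [orderOf_pow_of_dvd H.hr.ne_zero (hg ▸ dvd_mul_left H.r 2), hg,
      Nat.mul_div_cancel _ H.hr.pos]
  have hc : orderOf (g ^ 2) = H.r := by
    rw [orderOf_pow_of_dvd two_ne_zero (hg ▸ dvd_mul_right 2 H.r), hg,
      Nat.mul_div_cancel_left _ two_pos]
  obtain ⟨S, hS⟩ := H.exists_sylow_mem hv
  have hv1 := H39.ne_one_of_orderOf_eq_two hv
  obtain ⟨S', hS'⟩ : ∃ S' : Sylow 2 G, S ≠ S' := by
    by_contra! hall'
    exact hxy ((hall' x).symm.trans (hall' y))
  obtain ⟨Q, hQ⟩ := E.exists_torus hS'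
  have h1 := E.card_points hS'
  rw [E.card_nrmS hQ hS hv1, ← hall S S' hS' Q hQ, mul_comm] at h1
  rw [← Nat.card_eq_fintype_card, Nat.eq_of_mul_eq_mul_left Nat.card_pos h1] at hpp
  set C := nrmS S ⊓ centralizer ({g ^ H.r} : Set G) with hC
  obtain ⟨l, j, hl, -, hj⟩ := (isPrimePow_nat_iff _).1 hpp
  have hcomm : Commute (g ^ 2) (g ^ H.r) := Commute.pow_pow_self g 2 H.r
  have hd2 : 2 ∣ Nat.card C := hv ▸ orderOf_dvd_natCard C
    (mem_inf.2 ⟨le_normalizer hS, mem_centralizer_singleton_iff.2 rfl⟩)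
  have hdr : H.r ∣ Nat.card C := hc ▸ orderOf_dvd_natCard C
    (mem_inf.2 ⟨E.centralizer_le hS hv1 hcomm, mem_centralizer_singleton_iff.2 hcomm.eq⟩)
  rw [← hj] at hd2 hdr
  exact H.hr2 (((Nat.prime_dvd_prime_iff_eq H.hr hl).1 (H.hr.dvd_of_dvd_pow hdr)).trans
    ((Nat.prime_dvd_prime_iff_eq Nat.prime_two hl).1 (Nat.prime_two.dvd_of_dvd_pow hd2)).symm)

end SEData

end Cfsg.Agent.H76.OneMixed
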